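import Cfsg.Agent.Lib.Solv.HH2
import Cfsg.Agent.Lib.Eqn.E_Cfsg_upperPSeries_eq_def

/-!
The upper `p`-series and the `p`-length; the module `O_p(G) / Φ(O_p(G))` for `G / O_p(G)`.
-/

set_option autoImplicit false
set_option linter.unusedSectionVars false
set_option linter.unusedVariables false
set_option linter.style.haveILetI false

namespace CA.HH
open Subgroup Cfsg CA.OQuo CA.BG CA.BGRep Module CA.H12PSolv
open scoped commutatorElement

universe u

variable {G : Type*} [Group G] [Finite G] {G' : Type*} [Group G'] [Finite G'] {p : ℕ}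

/-- The upper `p`-series. -/
abbrev ups (p : ℕ) (G : Type*) [Group G] (n : ℕ) : Subgroup G := (upperPSeries p G n).1

/-- The primes of the `n`-th factor of the upper `p`-series. -/
def pset (p n : ℕ) : Set ℕ := if Even n then {p}ᶜ else {p}

theorem pset_congr {m n : ℕ} (h : Even m ↔ Even n) : pset p m = pset p n := by
  simp only [pset, h]

theorem ups_zero : ups p G 0 = ⊥ := rfl

theorem ups_succ (hp : p.Prime) (n : ℕ) : ups p G (n + 1) =
    (𝓞(pset p n, (⊤ : Subgroup (G ⧸ ups p G n)))).comap (QuotientGroup.mk' _) := by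
  unfold pset ups
  rw [upperPSeries]
  split_ifs with h
  · rw [core_p'_top hp]
  · rw [core_p_top hp]

theorem relIndex_mk (N K : Subgroup G) [N.Normal] :
    ♯(K.map (QuotientGroup.mk' N)) = N.relIndex K := by
  rw [← relIndex_ker, QuotientGroup.ker_mk']

theorem ups_le_succ (hp : p.Prime) (n : ℕ) : ups p G n ≤ ups p G (n + 1) := by
  rw [ups_succ hp]
  exact (QuotientGroup.ker_mk' _).ge.trans (ker_le_comap _ _)

theorem ups_mono (hp : p.Prime) : Monotone (ups p G) := monotone_nat_of_le_succ (ups_le_succ hp)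

theorem ups_idx (hp : p.Prime) (n : ℕ) :
    PiNat (pset p n) ((ups p G n).relIndex (ups p G (n + 1))) := by
  rw [← relIndex_mk, ups_succ hp, map_comap_eq_self_of_surjective (QuotientGroup.mk'_surjective _)]
  exact core_pi _ _

theorem le_ups_succ (hp : p.Prime) {n : ℕ} {K : Subgroup G} [hK : K.Normal]
    (h : PiNat (pset p n) ((ups p G n).relIndex K)) : K ≤ ups p G (n + 1) := by
  rw [ups_succ hp, ← map_le_iff_le_comap]
  haveI := hK.map _ (QuotientGroup.mk'_surjective (ups p G n))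
  exact le_core (by rwa [isPi_iff, relIndex_mk]) le_top (top_le_norm _ ⊤)

theorem chain_le (hp : p.Prime) (M : ℕ → Subgroup G) (hM : ∀ i, (M i).Normal) {j : ℕ}
    (h0 : M 0 ≤ ups p G j) (h : ∀ i, PiNat (pset p (j + i)) ((M i).relIndex (M (i + 1)))) (i : ℕ) :
    M i ≤ ups p G (j + i) := by
  induction i with
  | zero => exact h0
  | succ i ih =>
    haveI := hM (i + 1)
    exact le_ups_succ hp ((h i).of_dvd (relIndex_dvd_of_le_left _ ih))

theorem comap_ups_le (hp : p.Prime) (f : G →* G') {i j : ℕ} (hij : Even j ↔ Even i)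
    (h0 : (ups p G' i).comap f ≤ ups p G j) (n : ℕ) :
    (ups p G' (i + n)).comap f ≤ ups p G (j + n) := by
  refine chain_le hp (fun n => (ups p G' (i + n)).comap f) (fun n => inferInstance) h0
    (fun n => ?_) n
  rw [relIndex_comap, pset_congr (n := i + n) (by rw [Nat.even_add, Nat.even_add, hij])]
  exact (ups_idx hp _).of_dvd (relIndex_dvd_of_le _ (map_comap_le _ _))

theorem map_ups_le (hp : p.Prime) {f : G →* G'} (hf : Function.Surjective f) {i j : ℕ}
    (hij : Even j ↔ Even i) (h0 : (ups p G i).map f ≤ ups p G' j) (n : ℕ) :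
    (ups p G (i + n)).map f ≤ ups p G' (j + n) := by
  refine chain_le hp (fun n => (ups p G (i + n)).map f) (fun n => Normal.map inferInstance f hf) h0
    (fun n => ?_) n
  rw [← relIndex_comap, pset_congr (n := i + n) (by rw [Nat.even_add, Nat.even_add, hij])]
  exact (ups_idx hp _).of_dvd (relIndex_dvd_of_le_left _ (le_comap_map _ _))

theorem PL_mono (hp : p.Prime) {k l : ℕ} (h : PLengthLE p k G) (hkl : k ≤ l) : PLengthLE p l G :=
  top_le_iff.1 (h.ge.trans (ups_mono hp (by omega)))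

theorem PL_map (hp : p.Prime) {f : G →* G'} (hf : Function.Surjective f) {k : ℕ}
    (h : PLengthLE p k G) : PLengthLE p k G' := by
  have := map_ups_le hp hf (i := 0) (j := 0) Iff.rfl (by rw [ups_zero, Subgroup.map_bot]; exact bot_le)
    (2 * k + 1)
  rw [zero_add, show ups p G (2 * k + 1) = ⊤ from h, map_top_of_surjective f hf] at this
  exact top_le_iff.1 this

theorem PL_of_ker (hp : p.Prime) (f : G →* G') {a k : ℕ} (hf : f.ker ≤ ups p G (2 * a))
    (h : PLengthLE p k G') : PLengthLE p (a + k) G := by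
  have := comap_ups_le hp f (i := 0) (j := 2 * a) (by simp) hf (2 * k + 1)
  rw [zero_add, show ups p G' (2 * k + 1) = ⊤ from h, comap_top] at this
  exact top_le_iff.1 (this.trans_eq (congrArg _ (by ring)))

theorem PL_comap (hp : p.Prime) {f : G →* G'} (hf : Function.Injective f) {k : ℕ}
    (h : PLengthLE p k G') : PLengthLE p k G := by
  have := PL_of_ker hp f (a := 0) (by rw [(MonoidHom.ker_eq_bot_iff f).2 hf]; exact bot_le) h
  rwa [zero_add] at this

theorem ups_one (hp : p.Prime) : ups p G 1 = pPrimeCore p G := upperPSeries_one p G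

theorem ups_two (hp : p.Prime) : ups p G 2 = pPrimePCore p G := upperPSeries_two p G

theorem isPi_comap {π : Set ℕ} (f : G →* G') {K : Subgroup G'} (h1 : IsPi π f.ker)
    (h2 : IsPi π K) : IsPi π (K.comap f) :=
  (h1.inf_left _).of_relIndex (by
    rw [relIndex_ker]; exact (h2.of_le (map_comap_le f K)).nat)

theorem PL_of_ker' (hp : p.Prime) (f : G →* G') {k : ℕ} (hf : IsPi {p}ᶜ f.ker)
    (h : PLengthLE p k G') : PLengthLE p k G := by
  have := comap_ups_le hp f (i := 1) (j := 1) Iff.rfl (by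
    rw [ups_one hp, ups_one hp]; exact le_p'core hp (isPi_comap f hf (isPi_p'core hp))) (2 * k)
  rw [add_comm, show ups p G' (2 * k + 1) = ⊤ from h, comap_top] at this
  exact top_le_iff.1 this

theorem PL_quot_two (hp : p.Prime) {k : ℕ} (h : PLengthLE p (k + 1) G) :
    PLengthLE p k (G ⧸ ups p G 2) := by
  have := map_ups_le hp (QuotientGroup.mk'_surjective (ups p G 2)) (i := 2) (j := 0) (by simp)
    (by rw [QuotientGroup.map_mk'_self]; exact bot_le) (2 * k + 1)
  rw [show 2 + (2 * k + 1) = 2 * (k + 1) + 1 by ring, show ups p G (2 * (k + 1) + 1) = ⊤ from h,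
    map_top_of_surjective _ (QuotientGroup.mk'_surjective _), zero_add] at this
  exact top_le_iff.1 this

theorem PL_zero_iff (hp : p.Prime) : PLengthLE p 0 G ↔ ¬ p ∣ Nat.card G := by
  show ups p G 1 = ⊤ ↔ _
  rw [ups_one hp, ← card_top, ← isPi_compl_iff hp]
  exact ⟨fun h => h ▸ isPi_p'core hp, fun h => top_le_iff.1 (le_p'core hp h)⟩

theorem pcore_le_ups_two (hp : p.Prime) : pCore p G ≤ ups p G 2 :=
  le_ups_succ hp ((isPi_pcore hp).relIndex _)

theorem PL_of_quot_pcore (hp : p.Prime) {k : ℕ} (h : PLengthLE p k (G ⧸ pCore p G)) :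
    PLengthLE p (k + 1) G := by
  rw [add_comm]
  exact PL_of_ker hp (QuotientGroup.mk' _) (by rw [QuotientGroup.ker_mk']; exact pcore_le_ups_two hp) h

theorem PL_of_quot_p'core (hp : p.Prime) {k : ℕ} (h : PLengthLE p k (G ⧸ pPrimeCore p G)) :
    PLengthLE p k G :=
  PL_of_ker' hp (QuotientGroup.mk' _) (by rw [QuotientGroup.ker_mk']; exact isPi_p'core hp) h

theorem core_quot_eq_bot {π : Set ℕ} {N : Subgroup G} [N.Normal] (h : N = 𝓞(π, (⊤ : Subgroup G))) :
    𝓞(π, (⊤ : Subgroup (G ⧸ N))) = ⊥ := by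
  haveI := normal_of_top_le_norm (le_norm_core π (⊤ : Subgroup (G ⧸ N)))
  have := le_core (isPi_comap (QuotientGroup.mk' N) (by rw [QuotientGroup.ker_mk', h]; exact core_pi _ _)
    (core_pi π ⊤)) le_top (top_le_norm _ ⊤)
  rw [← map_comap_eq_self_of_surjective (QuotientGroup.mk'_surjective N) 𝓞(π, ⊤),
    Subgroup.map_eq_bot_iff, QuotientGroup.ker_mk']
  exact this.trans h.ge

theorem p'core_quot (hp : p.Prime) : pPrimeCore p (G ⧸ pPrimeCore p G) = ⊥ :=
  (core_p'_top hp).symm.trans (core_quot_eq_bot (core_p'_top hp).symm)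

theorem pcore_quot (hp : p.Prime) : pCore p (G ⧸ pCore p G) = ⊥ :=
  (core_p_top hp).symm.trans (core_quot_eq_bot (core_p_top hp).symm)

/-- The standard induction for bounds on the `p`-length. -/
theorem PL_ind [hp : Fact p.Prime] (H : ∀ (G : Type u) [Group G], ℕ → Prop)
    (h0 : ∀ (G : Type u) [Group G] [Finite G], H G 0 → ¬ p ∣ Nat.card G)
    (hq : ∀ (G : Type u) [Group G] [Finite G] (k : ℕ), H G k → H (G ⧸ pPrimeCore p G) k)
    (hs : ∀ (G : Type u) [Group G] [Finite G] (k : ℕ), IsPSolvable p G → pPrimeCore p G = ⊥ →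
      H G (k + 1) → H (G ⧸ pCore p G) k) (k : ℕ) :
    ∀ (G : Type u) [Group G] [Finite G], IsPSolvable p G → H G k → PLengthLE p k G := by
  induction k with
  | zero => exact fun G _ _ _ h => (PL_zero_iff hp.out).2 (h0 G h)
  | succ k ih =>
    intro G _ _ h1 h2
    have h3 := psolv_quotient h1 (pPrimeCore p G)
    exact PL_of_quot_p'core hp.out (PL_of_quot_pcore hp.out (ih _ (psolv_quotient h3 _)
      (hs _ k h3 (p'core_quot hp.out) (hq G _ h2))))

theorem hall_map {π : Set ℕ} {P H : Subgroup G} (h : Hall π P H) (f : G →* G') :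
    Hall π (P.map f) (H.map f) :=
  Hall.mk' (map_mono h.le) (h.pi.nat.of_dvd (card_map_dvd _ _)) (h.idx.of_dvd (by
    rw [← relIndex_comap]; exact relIndex_dvd_of_le_left _ (le_comap_map _ _)))

/-- `p`-subgroups of a homomorphic image lift -/
theorem exists_lift (hp : p.Prime) {f : G →* G'} (hf : Function.Surjective f) {Q : Subgroup G'}
    (hQ : IsPi {p} Q) : ∃ P : Subgroup G, IsPi {p} P ∧ P.map f = Q := by
  obtain ⟨P, hP⟩ := syl_exists hp (Q.comap f)
  have := hall_map hP f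
  rw [map_comap_eq_self_of_surjective hf] at this
  exact ⟨P, hP.pi, this.eq_self hQ⟩

theorem exists_lift_el (hp : p.Prime) {f : G →* G'} (hf : Function.Surjective f) {y : G'}
    (hy : PiNat {p} (orderOf y)) : ∃ x : G, PiNat {p} (orderOf x) ∧ f x = y := by
  obtain ⟨P, h1, h2⟩ := exists_lift hp hf (isPi_zpowers.2 hy)
  obtain ⟨x, hx, rfl⟩ := h2.ge (mem_zpowers y)
  exact ⟨x, h1.orderOf hx, rfl⟩

theorem le_sylow (hp : p.Prime) {Q : Subgroup G} (hQ : IsPi {p} Q) :
    ∃ S : Sylow p G, Q ≤ S := by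
  obtain ⟨P, h1, h2⟩ := syl_superset hp hQ le_top
  obtain ⟨S, rfl⟩ := h1.exists_sylow_top hp
  exact ⟨S, h2⟩

/-! ### the Frattini quotient of `O_p(G)` -/

section mod
variable (p) (G) [hp : Fact p.Prime]

instance normal_Phi_pCore : (Phi (pCore p G)).Normal :=
  normal_of_top_le_norm ((top_le_norm _ ⊤).trans (norm_Phi _))

theorem elem_PV : IsElementaryAbelian p
    ((pCore p G).map (QuotientGroup.mk' (Phi (pCore p G)))) := by
  refine ⟨comm_iff_der_eq_bot.2 ?_, ?_⟩
  · rw [← map_commutator, Subgroup.map_eq_bot_iff, QuotientGroup.ker_mk']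
    exact der_le_Phi hp.out (isPi_pcore hp.out)
  · rintro _ ⟨x, hx, rfl⟩
    rw [← map_pow]
    exact (QuotientGroup.eq_one_iff _).2 (pow_mem_Phi hp.out (isPi_pcore hp.out) hx)

/-- The vector space `O_p(G) / Φ(O_p(G))`. -/
abbrev PV : Type _ := EV (elem_PV G p)

theorem mem_norm_PV (y : G ⧸ Phi (pCore p G)) :
    y ∈ 𝓝((pCore p G).map (QuotientGroup.mk' (Phi (pCore p G)))) :=
  haveI := Normal.map (inferInstance : (pCore p G).Normal) _
    (QuotientGroup.mk'_surjective (Phi (pCore p G)))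
  top_le_norm _ ⊤ (mem_top y)

/-- The action of `G / O_p(G)` on `O_p(G) / Φ(O_p(G))`. -/
noncomputable def prep : Representation (ZMod p) (G ⧸ pCore p G) (PV G p) :=
  QuotientGroup.lift (pCore p G) ((erep (elem_PV G p)).comp
    ((QuotientGroup.mk' _).codRestrict _ fun g => mem_norm_PV G p _)) fun g hg => by
      have h : QuotientGroup.mk' _ g ∈ rker (erep (elem_PV G p)) := by
        rw [rker_erep]
        exact comm_iff_le_cent.1 (elem_PV G p).1 (mem_map_of_mem _ hg)
      have := (mem_rker.1 h).2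
      rwa [rp_of_mem _ (mem_norm_PV G p _)] at this

variable {p G}

/-- The image of an element of `O_p(G)` in the Frattini quotient. -/
def pv (v : G) (hv : v ∈ pCore p G) : PV G p := EV.mk _ _ (mem_map_of_mem _ hv)

theorem val_pv {v : G} (hv : v ∈ pCore p G) : (pv v hv).val = (v : G ⧸ Phi (pCore p G)) := rfl

theorem pv_surj (w : PV G p) : ∃ v hv, pv v hv = w := by
  obtain ⟨v, hv, h⟩ := w.val_mem
  exact ⟨v, hv, EV.ext' h⟩

theorem pv_eq_zero {v : G} {hv : v ∈ pCore p G} : pv v hv = 0 ↔ v ∈ Phi (pCore p G) := by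
  rw [← EV.val_eq_one, val_pv, QuotientGroup.eq_one_iff]

theorem pv_mul {v w : G} (hv : v ∈ pCore p G) (hw : w ∈ pCore p G) :
    pv (v * w) (mul_mem hv hw) = pv v hv + pv w hw := rfl

theorem val_prep (g : G) (w : PV G p) :
    (prep G p (g : G ⧸ pCore p G) w).val = g * w.val * (g : G ⧸ Phi (pCore p G))⁻¹ := by
  have := val_erep (mem_norm_PV G p g) w
  rwa [rp_of_mem _ (mem_norm_PV G p _)] at this

theorem prep_pv (g : G) {v : G} (hv : v ∈ pCore p G) :
    prep G p (g : G ⧸ pCore p G) (pv v hv) = pv (g * v * g⁻¹) (Normal.conj_mem inferInstance v hv g) :=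
  EV.ext' (val_prep g _)

theorem prep_sub_pv (g : G) {v : G} (hv : v ∈ pCore p G) (h : ⁅g, v⁆ ∈ pCore p G) :
    (prep G p (g : G ⧸ pCore p G) - 1) (pv v hv) = pv ⁅g, v⁆ h := by
  refine EV.ext' ?_
  rw [LinearMap.sub_apply, EV.val_sub, val_prep]; rfl

theorem le_pcore_of_comm_le (hs : IsPSolvable p G) (hO : pPrimeCore p G = ⊥) {C : Subgroup G}
    [C.Normal] (h : ⁅pCore p G, C⁆ ≤ Phi (pCore p G)) : C ≤ pCore p G := by
  refine le_pcore hp.out fun q hq hd => ?_
  by_contra hne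
  obtain ⟨X, h1, h2⟩ := exists_card_eq_prime hq hd
  have hX := isPi_of_card_eq hq h2
  have h3 := (coprime_cent_Phi (top_le_norm _ X) ((isPi_pcore hp.out).coprime (hX.ne hne))
    ((comm_mono le_rfl h1).trans h)).trans (centralizer_pCore_le hs hO)
  exact ne_bot_of_prime (h2 ▸ hq) (((isPi_pcore hp.out).of_le h3).eq_bot (hX.ne hne))

theorem prep_injective (hs : IsPSolvable p G) (hO : pPrimeCore p G = ⊥) :
    Function.Injective (prep G p) := by
  rw [← MonoidHom.ker_eq_bot_iff, ← map_comap_eq_self_of_surjective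
    (QuotientGroup.mk'_surjective _) (prep G p).ker, Subgroup.map_eq_bot_iff, QuotientGroup.ker_mk']
  refine le_pcore_of_comm_le hs hO ((comm_symm _ _).le.trans (commutator_le.2 fun g hg v hv => ?_))
  have h : ⁅g, v⁆ ∈ pCore p G :=
    comm_le_right (top_le_norm _ ⊤) (commutator_mem_commutator (mem_top g) hv)
  rw [← pv_eq_zero (hv := h), ← prep_sub_pv g hv, show prep G p (g : G ⧸ pCore p G) = 1 from hg,
    sub_self]; rfl

theorem nontrivial_PV (h : pCore p G ≠ ⊥) : Nontrivial (PV G p) := by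
  obtain ⟨v, hv, h1⟩ := SetLike.exists_of_lt (Phi_lt h)
  exact ⟨pv v hv, 0, fun h2 => h1 (pv_eq_zero.1 h2)⟩

theorem mk_mul_pow (g : G) {v : G} (hv : v ∈ pCore p G) (m : ℕ) :
    (((v * g) ^ m : G) : G ⧸ Phi (pCore p G)) =
      ((∑ i ∈ Finset.range m, prep G p (g : G ⧸ pCore p G) ^ i) (pv v hv)).val * (g ^ m : G) := by
  induction m with
  | zero => simp [EV.val_zero]
  | succ m ih =>
    rw [pow_succ, QuotientGroup.mk_mul, ih, Finset.sum_range_succ, LinearMap.add_apply, EV.val_add,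
      ← map_pow, ← QuotientGroup.mk_pow, val_prep, val_pv, pow_succ]
    simp [mul_assoc]

end mod

theorem geom_sum_char [hp : Fact p.Prime] {R : Type*} [Ring R] [Algebra (ZMod p) R] (a : R) (n : ℕ) :
    ∑ i ∈ Finset.range (p ^ n), a ^ i = (a - 1) ^ (p ^ n - 1) := by
  have h : (∑ i ∈ Finset.range (p ^ n), (Polynomial.X : Polynomial (ZMod p)) ^ i) =
      (Polynomial.X - 1) ^ (p ^ n - 1) := by
    apply mul_right_cancel₀ (Polynomial.X_sub_C_ne_zero (1 : ZMod p))
    rw [Polynomial.C_1, geom_sum_mul, ← pow_succ, Nat.sub_add_cancel (Nat.one_le_pow _ _ hp.out.pos),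
      sub_pow_char_pow, one_pow]
  simpa using congrArg (Polynomial.aeval a) h

theorem pcore_ne_bot [hp : Fact p.Prime] (hs : IsPSolvable p G) (hO : pPrimeCore p G = ⊥) {x : G}
    (hx : x ≠ 1) : pCore p G ≠ ⊥ := fun h => hx (by
  have := centralizer_pCore_le hs hO
  rw [h] at this
  exact mem_bot.1 (this (cent_symm (bot_le : ⊥ ≤ 𝓒(⊤)) (mem_top x))))

/-- Theorem B for the action on the Frattini quotient of `O_p(G)`. -/
theorem thmB_PV [hp : Fact p.Prime] (hs : IsPSolvable p G) (hO : pPrimeCore p G = ⊥)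
    {x : G ⧸ pCore p G} {n r : ℕ} (ho : orderOf x = p ^ (n + 1)) (hr : (prep G p x - 1) ^ r = 0) :
    p ^ (n + 1) ≤ r ∨ ∃ (m q j : ℕ) (Q : Subgroup G), 1 ≤ m ∧ m ≤ n + 1 ∧ q.Prime ∧ 1 ≤ j ∧
      p ^ m - 1 = q ^ j ∧ IsPi {q} Q ∧ ¬ IsMulCommutative Q ∧
      p ^ (n + 1 - m) * (p ^ m - 1) ≤ r := by
  obtain ⟨g, rfl⟩ := QuotientGroup.mk_surjective x
  haveI := nontrivial_PV (pcore_ne_bot hs hO (x := g) fun h => by
    rw [h, QuotientGroup.mk_one, orderOf_one] at ho
    exact absurd ho.symm (Nat.one_lt_pow (by omega) hp.out.one_lt).ne')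
  refine (thmB _ (prep_injective hs hO) (psolv_quotient hs _) (pcore_quot hp.out) ho hr).imp_right ?_
  rintro ⟨m, q, j, Q, h1, h2, h3, h4, h5, h6, h7, h8⟩
  obtain ⟨P, h9, rfl⟩ := exists_lift h3 (QuotientGroup.mk'_surjective _) h6
  exact ⟨m, q, j, P, h1, h2, h3, h4, h5, h9, fun h => h7 (map_isMulCommutative _ _), h8⟩

/-- the exponent of the Sylow `p`-subgroups drops in `G / O_p(G)` outside the exceptional case -/
theorem exp_drop [hp : Fact p.Prime] (hs : IsPSolvable p G) (hO : pPrimeCore p G = ⊥) {k : ℕ}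
    (hx : ∀ (m q j : ℕ) (Q : Subgroup G), 1 ≤ m → q.Prime → 1 ≤ j → p ^ m - 1 = q ^ j →
      IsPi {q} Q → IsMulCommutative Q)
    (h : ∀ x : G, PiNat {p} (orderOf x) → x ^ p ^ (k + 1) = 1) (y : G ⧸ pCore p G)
    (hy : PiNat {p} (orderOf y)) : y ^ p ^ k = 1 := by
  by_contra h1
  obtain ⟨g, h2, rfl⟩ := exists_lift_el hp.out (QuotientGroup.mk'_surjective _) hy
  have ho := orderOf_eq_prime_pow h1 (by rw [← map_pow, h g h2, map_one])
  have hP := (isPi_zpowers.2 h2).sup (isPi_pcore hp.out) (top_le_norm _ _)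
  rcases thmB_PV hs hO ho (r := p ^ (k + 1) - 1) (LinearMap.ext fun w => by
    obtain ⟨v, hv, rfl⟩ := pv_surj w
    have := mk_mul_pow g hv (p ^ (k + 1))
    rw [h g h2, h _ (hP.orderOf (mul_mem (mem_sup_right hv) (mem_sup_left (mem_zpowers g)))),
      QuotientGroup.mk_one, mul_one, geom_sum_char, eq_comm, EV.val_eq_one] at this
    exact this) with h3 | ⟨m, q, j, Q, h3, -, h4, h5, h6, h7, h8, -⟩
  · have := Nat.one_le_pow (k + 1) _ hp.out.pos
    omega
  · exact h8 (hx m q j Q h3 h4 h5 h6 h7)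

theorem PL_of_exp {G : Type u} [Group G] [Finite G] [hp : Fact p.Prime] (hs : IsPSolvable p G)
    {k : ℕ} (hx : ∀ (m q j : ℕ) (Q : Subgroup G), 1 ≤ m → q.Prime → 1 ≤ j → p ^ m - 1 = q ^ j →
      IsPi {q} Q → IsMulCommutative Q)
    (h : ∀ x : G, PiNat {p} (orderOf x) → x ^ p ^ k = 1) : PLengthLE p k G := by
  have hq : ∀ (G : Type u) [Group G] [Finite G] (N : Subgroup G) [N.Normal],
      (∀ (m q j : ℕ) (Q : Subgroup G), 1 ≤ m → q.Prime → 1 ≤ j → p ^ m - 1 = q ^ j →
        IsPi {q} Q → IsMulCommutative Q) →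
      ∀ (m q j : ℕ) (Q : Subgroup (G ⧸ N)), 1 ≤ m → q.Prime → 1 ≤ j → p ^ m - 1 = q ^ j →
        IsPi {q} Q → IsMulCommutative Q := by
    intro G _ _ N _ h m q j Q h1 h2 h3 h4 h5
    obtain ⟨P, h6, rfl⟩ := exists_lift h2 (QuotientGroup.mk'_surjective _) h5
    haveI := h m q j P h1 h2 h3 h4 h6
    exact map_isMulCommutative _ _
  refine PL_ind (fun G _ k => (∀ (m q j : ℕ) (Q : Subgroup G), 1 ≤ m → q.Prime → 1 ≤ j →
    p ^ m - 1 = q ^ j → IsPi {q} Q → IsMulCommutative Q) ∧
    ∀ x : G, PiNat {p} (orderOf x) → x ^ p ^ k = 1) ?_ ?_ ?_ k G hs ⟨hx, h⟩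
  · intro G _ _ h hd
    obtain ⟨x, hx⟩ := exists_prime_orderOf_dvd_card' p hd
    have := h.2 x (by rw [hx]; exact (piNat_prime hp.out).2 rfl)
    rw [pow_zero, pow_one] at this
    rw [this, orderOf_one] at hx
    exact hp.out.one_lt.ne hx
  · intro G _ _ k h
    refine ⟨hq G _ h.1, fun y hy => ?_⟩
    obtain ⟨g, h2, rfl⟩ := exists_lift_el hp.out (QuotientGroup.mk'_surjective _) hy
    rw [← map_pow, h.2 g h2, map_one]
  · exact fun G _ _ k h1 h2 h => ⟨hq G _ h.1, exp_drop h1 h2 h.1 h.2⟩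

end CA.HH
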