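import Cfsg.Agent.Lib.Solv.CS1
import Cfsg.Agent.Lib.Grp.H4Cls
import Cfsg.Agent.Lib.Loc.H6Stab
import Cfsg.Agent.Lib.Lin.PSL2Four
import Cfsg.Agent.Lib.Lin.SLnCard
import Cfsg.Agent.S3188
import Cfsg.Agent.S0799

/-! A group with abelian Sylow 2-subgroups and a subgroup of odd order and 2-power index is
solvable. -/

namespace CA.CS2

open Subgroup Cfsg CA.SylIn CA.PRes CA.H6Stab
open scoped MatrixGroups

universe u

/-- a 2-complement exists -/
def HC (G : Type*) [Group G] : Prop :=
  ∃ M : Subgroup G, Odd (Nat.card M) ∧ ∃ k, M.index = 2 ^ k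

theorem relIndex_dvd_of_normal {G : Type*} [Group G] [Finite G] (M H : Subgroup G) [H.Normal] :
    M.relIndex H ∣ M.index := by
  have h2 : M.relIndex H * H.index = H.relIndex M * M.index := by
    rw [← inf_relIndex_right, relIndex_mul_index inf_le_right, ← inf_relIndex_left M H,
      relIndex_mul_index inf_le_left]
  obtain ⟨s, hs⟩ := relIndex_dvd_index_of_normal H M
  have h0 : H.relIndex M ≠ 0 := index_ne_zero_of_finite
  refine ⟨s, Nat.eq_of_mul_eq_mul_left (Nat.pos_of_ne_zero h0) ?_⟩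
  rw [← h2, hs]; ring

theorem HC.sub {G : Type*} [Group G] [Finite G] (h : HC G) (H : Subgroup G)
    (hH : H.Normal ∨ Odd H.index) : HC H := by
  obtain ⟨M, h1, k, hk⟩ := h
  refine ⟨M.subgroupOf H, ?_, ?_⟩
  · refine Odd.of_dvd_nat h1 ?_
    rw [← card_map_of_injective H.subtype_injective]
    exact card_dvd_of_le (by rw [subgroupOf_map_subtype]; exact inf_le_left)
  · have : M.relIndex H ∣ 2 ^ k := by
      rcases hH with hH | hH
      · exact hk ▸ relIndex_dvd_of_normal M H
      · rw [CA.BG.relIndex_inf_of_cop (H := ⊤) le_top le_top, relIndex_top_right, hk]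
        rw [relIndex_top_right, relIndex_top_right, hk]
        exact (Nat.coprime_two_left.2 hH).pow_left k
    exact (Nat.dvd_prime_pow Nat.prime_two).1 this |>.imp fun _ h => h.2

theorem HC.map {G G' : Type*} [Group G] [Finite G] [Group G'] (h : HC G) (f : G →* G')
    (hf : Function.Surjective f) : HC G' := by
  obtain ⟨M, h1, k, hk⟩ := h
  refine ⟨M.map f, h1.of_dvd_nat (card_map_dvd M f), ?_⟩
  exact (Nat.dvd_prime_pow Nat.prime_two).1 (hk ▸ index_map_dvd M hf) |>.imp fun _ h => h.2

theorem even_cub (q : ℕ) : Even (q * (q ^ 2 - 1)) := by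
  rcases Nat.even_or_odd q with h | h
  · exact h.mul_right _
  · exact (Nat.Odd.sub_odd h.pow odd_one).mul_left _

theorem four_dvd_cub {q : ℕ} (h : Odd q) : 4 ∣ q * (q ^ 2 - 1) := by
  obtain ⟨k, rfl⟩ := h
  refine Dvd.dvd.mul_left ⟨k ^ 2 + k, ?_⟩ _
  rw [Nat.sub_eq_iff_eq_add (Nat.one_le_pow _ _ (by omega))]; ring

theorem even_PSL (K : Type*) [Field K] [Finite K] : Even (Nat.card PSL(2, K)) := by
  rcases Nat.even_or_odd (Nat.card K) with h | h
  · rw [CA.SLnCard.card_PSL2_even h]; exact even_cub _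
  · have h1 := four_dvd_cub h
    rw [← CA.SLnCard.card_PSL2_odd h] at h1
    exact even_iff_two_dvd.2 (Nat.dvd_of_mul_dvd_mul_left (k := 2) two_pos h1)

theorem psl_case {F : Type} [Field F] [Fintype F] [IsSimpleGroup PSL(2, F)]
    (hq : ((Fintype.card F % 8 = 3 ∨ Fintype.card F % 8 = 5) ∧ 5 ≤ Fintype.card F) ∨
          (∃ n : ℕ, 2 ≤ n ∧ Fintype.card F = 2 ^ n)) (h : HC PSL(2, F)) :
    Group.IsSolvable PSL(2, F) := by
  obtain ⟨M, h1, k, hk⟩ := h
  have hM : M ≠ ⊤ := by
    rintro rfl
    rw [card_top] at h1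
    exact Nat.not_odd_iff_even.2 (even_PSL F) h1
  rcases hq with ⟨hq, -⟩ | ⟨n, hn, hq⟩
  · rw [← Nat.card_eq_fintype_card] at hq
    obtain ⟨m, hm, hc⟩ := CA.PSL2Four.card_PSL_eq_four_mul hq
    have h2 : 2 ^ k ∣ 2 ^ 2 := by
      refine (Nat.Coprime.pow_left k (Nat.coprime_two_left.2 hm)).dvd_of_dvd_mul_right ?_
      rw [← hc, ← hk]; exact index_dvd_card M
    have h3 := (CA.H13Count.card_dvd_factorial hM).trans (Nat.factorial_dvd_factorial
      (hk ▸ Nat.le_of_dvd (by norm_num) h2))
    refine CChar.CharBurn.isSolvable_of_primes (p := 2) (q := 3) fun r hr hd => ?_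
    have h4 : r ∣ 2 ^ 3 * 3 := hd.trans h3
    rcases (Nat.Prime.dvd_mul hr).1 h4 with h | h
    · exact Or.inl ((Nat.prime_dvd_prime_iff_eq hr Nat.prime_two).1 (hr.dvd_of_dvd_pow h))
    · exact Or.inr ((Nat.prime_dvd_prime_iff_eq hr Nat.prime_three).1 h)
  · haveI : CharP F 2 := by
      obtain ⟨p, hp⟩ := CharP.exists F
      obtain ⟨m, hp', hm⟩ := FiniteField.card F p
      have : p = 2 := (Nat.prime_dvd_prime_iff_eq hp' Nat.prime_two).1
        (hp'.dvd_of_dvd_pow (hq ▸ hm ▸ dvd_pow_self p m.ne_zero))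
      exact this ▸ hp
    have ev : ∀ {X : Type} [Group X], Even (Nat.card X) → ¬ Nonempty (M ≃* X) := by
      rintro X _ hX ⟨e⟩
      rw [← Nat.card_congr e.toEquiv] at hX
      exact Nat.not_odd_iff_even.2 hX h1
    rcases Cfsg.Agent.S0799.result rfl 2 M with ⟨j, -, ⟨hc, -⟩ | h⟩ | ⟨P, K, hK, ⟨e⟩⟩ | h | h | h |
      ⟨K, _, _, m, -, h | h⟩
    · by_cases hb : M = ⊥
      · refine CA.Core.isSolvable_of_isPGroup (p := 2) (IsPGroup.of_card (n := k) ?_)
        rw [← hk, hb, index_bot]
      obtain ⟨g, hg, hg1⟩ := M.bot_or_exists_ne_one.resolve_left hb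
      have hle : M ≤ centralizer ({g} : Set PSL(2, F)) := fun y hy =>
        mem_centralizer_singleton_iff.2 (congrArg Subtype.val
          (IsCyclic.commutative.is_comm.comm (⟨y, hy⟩ : M) ⟨g, hg⟩))
      obtain ⟨i, -, hi⟩ := (Nat.dvd_prime_pow Nat.prime_two).1 (hk ▸ index_dvd_of_le hle)
      exact CA.Core.isSolvable_of_isMulCommutative
        ⟨⟨CChar.CharBurn.comm_of_simple_of_class Nat.prime_two hg1 hi⟩⟩
    · exact absurd h (ev (by rw [DihedralGroup.nat_card]; exact even_two_mul j))
    · refine CA.H4Cls.solv_of_normal_syl P (normalizer_eq_top_iff.1 (index_eq_one.1 ?_))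
      have h2 : K.index = 2 ^ k := by
        have h3 := K.card_mul_index
        rw [← M.card_mul_index, ← Nat.card_congr e.toEquiv, hk] at h3
        exact Nat.eq_of_mul_eq_mul_left Nat.card_pos h3
      refine Nat.eq_one_of_dvd_coprimes (((Nat.Prime.coprime_iff_not_dvd Nat.prime_two).2
        P.not_dvd_index).pow_left k) (h2 ▸ index_dvd_of_le hK) (index_dvd_of_le le_normalizer)
    · exact absurd h (ev (by rw [nat_card_alternatingGroup]; simp; decide))
    · exact absurd h (ev (by rw [Nat.card_perm]; simp; decide))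
    · exact absurd h (ev (by rw [nat_card_alternatingGroup]; simp; decide))
    · exact absurd h (ev (even_PSL K))
    · exact absurd h (ev (by rw [CA.SLnCard.card_PGL2]; exact even_cub _))

theorem solv_of_HC (G : Type u) [Group G] [Finite G] (hA : AbSyl 2 (⊤ : Subgroup G)) (h : HC G) :
    Group.IsSolvable G := by
  induction hn : Nat.card G using Nat.strong_induction_on generalizing G with
  | _ n ih =>
    rcases subsingleton_or_nontrivial G with hX | hX
    · infer_instance
    by_cases hs : ∃ N : Subgroup G, N.Normal ∧ N ≠ ⊥ ∧ N ≠ ⊤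
    · obtain ⟨N, hN, h1, h2⟩ := hs
      have h3 := N.card_mul_index
      have h4 : 1 < Nat.card N := (one_lt_card_iff_ne_bot N).mpr h1
      have h5 : 1 < N.index := one_lt_index_of_ne_top h2
      refine CA.H4Cls.solv_ext N (ih _ ?_ N (abSyl_top_iff.2 (hA.mono le_top))
        (h.sub N (Or.inl hN)) rfl) (ih _ ?_ (G ⧸ N) ?_
        (h.map _ (QuotientGroup.mk'_surjective N)) rfl)
      · rw [← hn, ← h3]; nlinarith
      · rw [← hn, ← h3, ← index_eq_card]; nlinarith
      · rw [← map_top_of_surjective _ (QuotientGroup.mk'_surjective N)]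
        exact hA.map _
    push Not at hs
    haveI : IsSimpleGroup G := ⟨fun N hN => by
      by_cases h1 : N = ⊥
      · exact Or.inl h1
      · exact Or.inr (hs N hN h1)⟩
    by_contra hns
    obtain ⟨S⟩ : Nonempty (Sylow 2 G) := inferInstance
    have hO : oddCore G = ⊥ := (IsSimpleGroup.eq_bot_or_eq_top_of_normal _ inferInstance).resolve_right
      fun h0 => hns (CA.H4Cls.solv_of_hasNPC (hasNPC_of_not_dvd (by
        rw [← card_top, ← h0]; exact CA.Fitting.not_dvd_card_pPrimeCore)))
    have hCs : ∀ t : G, orderOf t = 2 → Group.IsSolvable (centralizer ({t} : Set G)) := by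
      intro t ht
      have hne : centralizer ({t} : Set G) ≠ ⊤ := fun h0 => by
        have h1 : t ∈ center G := mem_center_iff.2 fun g =>
          mem_centralizer_singleton_iff.1 (h0 ▸ mem_top g)
        rcases IsSimpleGroup.eq_bot_or_eq_top_of_normal (center G) inferInstance with h2 | h2
        · rw [h2, mem_bot] at h1
          rw [h1, orderOf_one] at ht
          omega
        · exact hns (CA.Core.isSolvable_of_isMulCommutative ⟨⟨fun a b =>
            mem_center_iff.1 (h2 ▸ mem_top b) a⟩⟩)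
      refine ih _ (hn ▸ card_top (G := G) ▸ card_lt_of_lt hne.lt_top) _
        (abSyl_top_iff.2 (hA.mono le_top)) (h.sub _ (Or.inr ?_)) rfl
      obtain ⟨P, hP⟩ := (CA.CS1.isPGroup_zpowers (p := 2) (k := 1) (x := t)
        (by rw [pow_one, ← ht, pow_orderOf_eq_one])).exists_le_sylow
      have := hA _ le_top P.2
      have hle : (P : Subgroup G) ≤ centralizer ({t} : Set G) := fun y hy =>
        mem_centralizer_singleton_iff.2 (congrArg Subtype.val
          (this.is_comm.comm (⟨y, hy⟩ : P) ⟨t, hP (mem_zpowers t)⟩))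
      exact Nat.odd_iff.2 (Nat.two_dvd_ne_zero.1 fun h0 =>
        P.not_dvd_index (h0.trans (index_dvd_of_le hle)))
    rcases Cfsg.Agent.S3188.result S (hA _ le_top S.2) hCs with
      h1 | ⟨F, _, _, hq, N, hN, ⟨e⟩, hC⟩
    · exact hns h1
    · let e0 : G ≃* G ⧸ oddCore G :=
        ((QuotientGroup.quotientMulEquivOfEq hO).trans QuotientGroup.quotientBot).symm
      haveI : IsSimpleGroup (G ⧸ oddCore G) := e0.symm.isSimpleGroup
      have hN' : N = ⊤ := (IsSimpleGroup.eq_bot_or_eq_top_of_normal N hN).resolve_left fun h0 => by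
        rw [h0] at hC
        refine top_ne_bot (α := Subgroup (G ⧸ oddCore G)) (le_bot_iff.1 ?_)
        rw [← hC]
        refine fun x _ => mem_centralizer_iff.2 fun y hy => ?_
        rw [mem_bot.1 hy, one_mul, mul_one]
      subst hN'
      let e1 : G ≃* PSL(2, F) := (e0.trans topEquiv.symm).trans e
      haveI : IsSimpleGroup PSL(2, F) := e1.symm.isSimpleGroup
      exact hns (CA.Core.isSolvable_of_equiv e1.symm (psl_case hq (h.map e1.toMonoidHom e1.surjective)))

/-- With abelian Sylow 2-subgroups, a subgroup of 2-power index has solvable core quotient. -/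
theorem solv_quot_core {G : Type u} [Group G] [Finite G] (hA : AbSyl 2 (⊤ : Subgroup G))
    {C : Subgroup G} {k : ℕ} (hk : C.index = 2 ^ k) : Group.IsSolvable (G ⧸ C.normalCore) := by
  obtain ⟨P⟩ : Nonempty (Sylow 2 G) := inferInstance
  have hc := hA _ le_top P.2
  have hcop : C.index.Coprime (P : Subgroup G).index :=
    hk ▸ ((Nat.Prime.coprime_iff_not_dvd Nat.prime_two).2 P.not_dvd_index).pow_left k
  have hle : (P : Subgroup G) ⊓ C ≤ C.normalCore := by
    refine le_normalClosure.trans (normal_le_normalCore.2 ?_)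
    refine CChar.CharBurn.normalClosure_le_of_fac (H := P) (fun g => ?_) (fun y hy a ha => ?_)
      inf_le_right
    · obtain ⟨y, hy, x, hx, h⟩ := CA.H7Orb.exists_mul hcop g
      exact ⟨y, hy, x, hx, h.symm⟩
    · have : y * a = a * y := congrArg Subtype.val (hc.is_comm.comm (⟨y, hy⟩ : P) ⟨a, ha.1⟩)
      rwa [this, mul_inv_cancel_right]
  refine solv_of_HC _ ?_ ⟨C.map (QuotientGroup.mk' _), ?_, ?_⟩
  · rw [← map_top_of_surjective _ (QuotientGroup.mk'_surjective _)]
    exact hA.map _
  · have h1 : Nat.card (C.map (QuotientGroup.mk' C.normalCore)) = C.normalCore.relIndex C := by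
      rw [← relIndex_ker, QuotientGroup.ker_mk']
    rw [h1]
    refine Odd.of_dvd_nat ?_ (relIndex_dvd_of_le_left C hle)
    rw [inf_relIndex_right, CA.BG.relIndex_inf_of_cop (H := ⊤) le_top le_top (by simpa using hcop.symm),
      relIndex_top_right]
    exact Nat.odd_iff.2 (Nat.two_dvd_ne_zero.1 P.not_dvd_index)
  · exact (Nat.dvd_prime_pow Nat.prime_two).1 (hk ▸ index_map_dvd C
      (QuotientGroup.mk'_surjective _)) |>.imp fun _ h => h.2

end CA.CS2
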