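import Cfsg.Agent.Lib.Odd.BGRep5
import Cfsg.Agent.Lib.Odd.BGRep4

/-!
The linear algebra behind Theorem B of Hall and Higman: commutants of nilpotent operators and the
action of a cyclic group on a group of class two and on its modules.
-/

set_option autoImplicit false
set_option linter.unusedSectionVars false
set_option linter.unusedVariables false
set_option linter.style.haveILetI false

namespace CA.HH
open Subgroup Cfsg CA.OQuo CA.BG CA.BGRep Module
open scoped commutatorElement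

universe u

section cmt
variable {k : Type*} [Field k]

/-- The commutant of an operator. -/
def cmt {W : Type*} [AddCommGroup W] [Module k W] (T : End k W) : Submodule k (End k W) where
  carrier := {S | T * S = S * T}
  add_mem' := fun {a b} ha hb => by
    show T * (a + b) = (a + b) * T
    rw [mul_add, add_mul, ha, hb]
  zero_mem' := by simp
  smul_mem' := fun c a ha => by
    show T * (c • a) = (c • a) * T
    rw [mul_smul_comm, smul_mul_assoc, ha]

theorem mem_cmt {W : Type*} [AddCommGroup W] [Module k W] {T S : End k W} :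
    S ∈ cmt T ↔ T * S = S * T := Iff.rfl

/-- The restriction of an operator to its range. -/
def rr {W : Type*} [AddCommGroup W] [Module k W] (T : End k W) : End k (LinearMap.range T) :=
  T.restrict fun x _ => LinearMap.mem_range_self T x

theorem cmt_step {W : Type*} [AddCommGroup W] [Module k W] [FiniteDimensional k W] (T : End k W) :
    finrank k (LinearMap.ker T) ^ 2 + finrank k (cmt (rr T)) ≤ finrank k (cmt T) := by
  have hm : ∀ S : cmt T, ∀ w ∈ LinearMap.range T, (S : End k W) w ∈ LinearMap.range T := by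
    rintro S _ ⟨w, rfl⟩
    exact ⟨(S : End k W) w, LinearMap.congr_fun S.2 w⟩
  let r : cmt T →ₗ[k] cmt (rr T) :=
    { toFun := fun S => ⟨(S : End k W).restrict (hm S), LinearMap.ext fun w =>
        Subtype.ext (LinearMap.congr_fun S.2 w)⟩
      map_add' := fun _ _ => rfl
      map_smul' := fun _ _ => rfl }
  obtain ⟨σ, hσ⟩ := T.rangeRestrict.exists_rightInverse_of_surjective T.range_rangeRestrict
  obtain ⟨π, hπ⟩ := (LinearMap.range T).subtype.exists_leftInverse_of_injective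
    (Submodule.ker_subtype _)
  have hσ' : ∀ w, T (σ w) = w := fun w => congrArg Subtype.val (LinearMap.congr_fun hσ w)
  have hπ' : ∀ w : LinearMap.range T, π w = w := fun w => LinearMap.congr_fun hπ w
  have hr : LinearMap.range r = ⊤ := by
    rw [LinearMap.range_eq_top]
    intro ψ
    have hψ : ∀ w : LinearMap.range T, T (ψ.1 w : W) = (ψ.1 (T.rangeRestrict w) : W) :=
      fun w => congrArg Subtype.val (LinearMap.congr_fun ψ.2 w)
    let φ : End k W := (LinearMap.range T).subtype ∘ₗ ψ.1 ∘ₗ π +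
      σ ∘ₗ ψ.1 ∘ₗ T.rangeRestrict ∘ₗ (1 - (LinearMap.range T).subtype ∘ₗ π)
    have h0 : ∀ w, φ w = (ψ.1 (π w) : W) + σ (ψ.1 (T.rangeRestrict (w - π w))) := fun w => rfl
    have h1 : ∀ w : LinearMap.range T, φ w = (ψ.1 w : W) := fun w => by
      rw [h0, hπ', sub_self, map_zero, map_zero, map_zero, add_zero]
    refine ⟨⟨φ, LinearMap.ext fun w => ?_⟩, Subtype.ext (LinearMap.ext fun w => Subtype.ext (h1 w))⟩
    have h2 : φ (T w) = _ := h1 (T.rangeRestrict w)
    rw [Module.End.mul_apply, Module.End.mul_apply, h2, h0, map_add, hσ', hψ, ← Submodule.coe_add,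
      ← map_add, ← map_add, add_sub_cancel]
  let j : ((W ⧸ LinearMap.range T) →ₗ[k] LinearMap.ker T) →ₗ[k] LinearMap.ker r :=
    { toFun := fun f => ⟨⟨(LinearMap.ker T).subtype ∘ₗ f ∘ₗ (LinearMap.range T).mkQ,
        LinearMap.ext fun w => by
          have : (LinearMap.range T).mkQ (T w) = 0 :=
            (Submodule.Quotient.mk_eq_zero _).2 (LinearMap.mem_range_self T w)
          simp only [Module.End.mul_apply, LinearMap.comp_apply, this, map_zero]
          exact (f _).2⟩, Subtype.ext (LinearMap.ext fun w => Subtype.ext (by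
            have : (LinearMap.range T).mkQ w = 0 := (Submodule.Quotient.mk_eq_zero _).2 w.2
            show ((f ((LinearMap.range T).mkQ w) : LinearMap.ker T) : W) = 0
            rw [this, map_zero]; rfl))⟩
      map_add' := fun _ _ => rfl
      map_smul' := fun _ _ => rfl }
  have hj : Function.Injective j := by
    intro f g h
    refine LinearMap.ext fun w => ?_
    obtain ⟨w, rfl⟩ := (LinearMap.range T).mkQ_surjective w
    exact Subtype.ext (LinearMap.congr_fun (congrArg (fun t : LinearMap.ker r =>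
      ((t : cmt T) : End k W)) h) w)
  have h1 := LinearMap.finrank_le_finrank_of_injective hj
  have h2 := LinearMap.finrank_range_add_finrank_ker (K := k) (V := cmt T) (V₂ := cmt (rr T)) r
  have h3 := T.finrank_range_add_finrank_ker
  have h4 := (LinearMap.range T).finrank_quotient_add_finrank
  rw [hr, finrank_top] at h2
  rw [Module.finrank_linearMap, show finrank k (W ⧸ LinearMap.range T) =
    finrank k (LinearMap.ker T) by omega, ← sq] at h1
  omega

theorem cmt_bound (s : ℕ) : ∀ (W : Type u) [AddCommGroup W] [Module k W] [FiniteDimensional k W]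
    (T : End k W), T ^ s = 0 →
      finrank k W ≤ finrank k (cmt T) ∧ finrank k W ^ 2 ≤ s * finrank k (cmt T) := by
  induction s with
  | zero =>
    intro W _ _ _ T h
    haveI : Subsingleton W := ⟨fun a b => by
      have := fun w => LinearMap.congr_fun h w
      simp only [pow_zero, Module.End.one_apply, LinearMap.zero_apply] at this
      rw [this a, this b]⟩
    rw [finrank_zero_of_subsingleton]; simp
  | succ s ih =>
    intro W _ _ _ T h
    obtain ⟨h1, h2⟩ := ih _ (rr T) (LinearMap.ext fun w => Subtype.ext (by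
      obtain ⟨_, w, rfl⟩ := w
      rw [rr, Module.End.pow_restrict, LinearMap.restrict_apply]
      exact LinearMap.congr_fun ((pow_succ T s).symm.trans h) w))
    have h3 := cmt_step T
    have h4 := T.finrank_range_add_finrank_ker
    generalize finrank k (LinearMap.ker T) = a at *
    generalize finrank k (LinearMap.range T) = b at *
    generalize finrank k (cmt (rr T)) = c at *
    generalize finrank k (cmt T) = d at *
    rw [← h4]
    refine ⟨by nlinarith [Nat.le_self_pow two_ne_zero a], ?_⟩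
    refine le_trans ?_ (Nat.mul_le_mul_left _ h3)
    rcases Nat.eq_zero_or_pos s with rfl | hs
    · have : b = 0 := by simpa using h2
      subst this; simp
    refine Nat.le_of_mul_le_mul_left ?_ hs
    zify at h2 ⊢
    nlinarith [sq_nonneg ((s : ℤ) * a - b), mul_le_mul_of_nonneg_left h2 (by positivity : (0 : ℤ) ≤ s + 1)]

end cmt

variable {G : Type*} [Group G] [Finite G] {D : Subgroup G} {k W : Type*} [Field k] [AddCommGroup W]
  [Module k W] {ρ : Representation k D W} {Q E : Subgroup G} {x : G}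

theorem Fix_linHom_zpowers (hx : x ∈ D) {T : End k W} :
    T ∈ Fix (ρ.linHom ρ) (zpowers x) ↔ rp ρ x * T = T * rp ρ x := by
  rw [mem_Fix_zpowers hx, rp_linHom hx]
  constructor
  · intro h
    conv_rhs => rw [← h, mul_assoc, rp_inv_mul ρ hx, mul_one]
  · intro h
    rw [h, mul_assoc, rp_mul_inv ρ hx, mul_one]

theorem trace_eq_zero [FiniteDimensional k W] (hQ : Q ≤ D)
    (hZ : ∀ z ∈ ⁅Q, Q⁆, ∃ c : k, rp ρ z = c • (1 : End k W)) {g : G} (hg : g ∈ Q)
    (h : g ∉ Zr ρ Q) : LinearMap.trace k W (rp ρ g) = 0 := by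
  by_contra h2
  refine h ⟨hg, hQ hg, fun y hy => ((rp_comm_iff (hQ hy) (hQ hg)).2 ?_).symm⟩
  have h3 := commutator_mem_commutator hy hg
  obtain ⟨c, hc⟩ := hZ _ h3
  have h4 := trace_rp_conj (ρ := ρ) (hQ hy) (rp ρ g)
  rw [← rp_conj ρ (hQ hy) (hQ hg), show y * g * y⁻¹ = ⁅y, g⁆ * g by
    rw [commutatorElement_def]; group, rp_mul ρ (hQ (der_le Q h3)) (hQ hg), hc, smul_mul_assoc,
    one_mul, map_smul, smul_eq_mul] at h4
  rw [mem_rker, hc, (mul_eq_right₀ h2).1 h4, one_smul]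
  exact ⟨hQ (der_le Q h3), rfl⟩

theorem scalar_mem_rker_linHom (hx : x ∈ D) {c : k} (hc : rp ρ x = c • (1 : End k W)) :
    x ∈ rker (ρ.linHom ρ) := by
  refine mem_rker.2 ⟨hx, LinearMap.ext fun T => ?_⟩
  rw [rp_linHom hx, show rp ρ x * T = T * rp ρ x by rw [hc]; simp, mul_assoc,
    rp_mul_inv ρ hx, mul_one]; rfl

/-- the count for a group of class two acting absolutely irreducibly -/
theorem abs_count [IsAlgClosed k] [FiniteDimensional k W] [Nontrivial W] (hQ : Q ≤ D) (hE : E ≤ D)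
    (hn : E ≤ 𝓝(Q)) (hk : (♯Q : k) ≠ 0) (h2 : ⁅⁅Q, Q⁆, Q⁆ ≤ rker ρ)
    (hs : ∀ T ∈ Fix (ρ.linHom ρ) Q, ∃ c : k, T = c • (1 : End k W))
    (hf : ∀ e ∈ E, e ≠ 1 → Q ≤ ⁅Q, zpowers e⁆) :
    finrank k W ^ 2 = (Zr ρ Q).relIndex Q ∧
      finrank k W ^ 2 + ♯E = ♯E * finrank k (Fix (ρ.linHom ρ) E) + 1 := by
  have hZ : ∀ z ∈ Zr ρ Q, ∃ c : k, rp ρ z = c • (1 : End k W) := fun z hz =>
    hs _ ((mem_Fix_linHom hQ).2 fun y hy => (hz.2.2 y hy).symm)
  have hd : ⁅Q, Q⁆ ≤ Zr ρ Q := (le_Zr_iff hQ (der_le Q)).2 h2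
  refine ⟨sq_finrank_eq_relIndex hQ hk hs Zr_le hZ fun g hg h =>
    trace_eq_zero hQ (fun z hz => hZ z (hd hz)) hg h, ?_⟩
  have hfree := finrank_free (ρ := ρ.linHom ρ) hQ hE hn (fun z hz => by
    obtain ⟨c, hc⟩ := hZ z (hd hz)
    exact scalar_mem_rker_linHom (hd hz).2.1 hc) hk fun e he h => Fix_anti _ (hf e he h)
  rwa [finrank_Fix_linHom (sup_le hQ hE) (fun T hT => hs T (Fix_anti _ le_sup_left hT)),
    finrank_Fix_linHom hQ hs, Module.finrank_linearMap, mul_one, ← sq] at hfree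

/-- in the absolutely irreducible case the dimension is not one and `Zr` is detected by a vector -/
theorem abs_extra [FiniteDimensional k W] [Nontrivial W] (hQ : Q ≤ D) (hx : x ∈ D)
    (h2 : ⁅⁅Q, Q⁆, Q⁆ ≤ rker ρ)
    (hs : ∀ T ∈ Fix (ρ.linHom ρ) Q, ∃ c : k, T = c • (1 : End k W))
    (hf : Q ≤ ⁅Q, zpowers x⁆) (h0 : Fix ρ Q = ⊥) : (Zr ρ Q).relIndex Q ≠ 1 ∧
      ∀ w : W, w ≠ 0 → ∀ g ∈ Q, (g ∈ Zr ρ Q ↔ ∀ h ∈ Q, rp ρ ⁅h, g⁆ w = w) := by
  have hZ : ∀ z ∈ Zr ρ Q, ∃ c : k, rp ρ z = c • (1 : End k W) := fun z hz =>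
    hs _ ((mem_Fix_linHom hQ).2 fun y hy => (hz.2.2 y hy).symm)
  have hd : ⁅Q, Q⁆ ≤ Zr ρ Q := (le_Zr_iff hQ (der_le Q)).2 h2
  constructor
  · intro h
    have h3 : Q ≤ rker ρ := hf.trans ((comm_le_rker_iff hQ (zpowers_le.2 hx)).2 fun a ha b hb => by
      obtain ⟨c, hc⟩ := hZ a (relIndex_eq_one.1 h ha)
      rw [hc]; simp)
    exact bot_ne_top (h0.symm.trans ((Fix_eq_top_iff hQ).2 h3))
  intro w hw g hg
  constructor
  · intro h y hy
    rw [(mem_rker.1 ((rp_comm_iff (hQ hy) (hQ hg)).1 (h.2.2 y hy).symm)).2]; rfl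
  · intro h
    refine ⟨hg, hQ hg, fun y hy => ((rp_comm_iff (hQ hy) (hQ hg)).2 ?_).symm⟩
    have h3 := hd (commutator_mem_commutator hy hg)
    obtain ⟨c, hc⟩ := hZ _ h3
    have h4 := h y hy
    rw [hc, LinearMap.smul_apply, Module.End.one_apply] at h4
    have h5 : c = 1 := by
      by_contra h5
      exact hw ((smul_eq_zero.1 (show (c - 1) • w = 0 by rw [sub_smul, h4, one_smul, sub_self])).resolve_left
        (sub_ne_zero.2 h5))
    rw [mem_rker, hc, h5, one_smul]
    exact ⟨h3.2.1, rfl⟩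

theorem arithB {N P c s : ℕ} (hN : 1 < N) (h1 : N ^ 2 + P = P * c + 1) (h2 : N ≤ c)
    (h3 : N ^ 2 ≤ s * c) (hs : s < P) : N + 1 = P ∧ N ≤ s := by
  have h4 : P ≤ N + 1 := by
    by_contra h
    nlinarith
  have h5 : N + 1 ≤ P := by
    by_contra h
    obtain ⟨Q, rfl⟩ : ∃ Q, P = Q + 1 := ⟨P - 1, by omega⟩
    have h6 : N ^ 2 ≤ Q * c := h3.trans (Nat.mul_le_mul_right _ (by omega))
    have h7 : Q + 1 ≤ N := by omega
    nlinarith
  have h6 : N + 1 = P := le_antisymm h5 h4
  subst h6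
  have h7 : c = N := by nlinarith
  subst h7
  exact ⟨rfl, by nlinarith⟩

theorem shift_pow {R : Type*} [Ring R] [Algebra k R] {T X : R} {c : k}
    (h : T * X = X * T - c • X) (j : ℕ) :
    T * (X - 1) ^ (j + 1) = (X - 1) ^ (j + 1) * T - ((j + 1 : ℕ) * c) • (X * (X - 1) ^ j) := by
  have hc : ∀ i : ℕ, (X - 1) * (X * (X - 1) ^ i) = X * (X - 1) ^ (i + 1) := fun i => by
    rw [pow_succ', ← mul_assoc, ← mul_assoc]; congr 1; noncomm_ring
  have h1 : T * (X - 1) = (X - 1) * T - c • X := by rw [mul_sub, sub_mul, h]; simp; abel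
  induction j with
  | zero => simpa using h1
  | succ j ih =>
    rw [pow_succ' (X - 1) (j + 1), ← mul_assoc, h1, sub_mul, mul_assoc, ih, mul_sub,
      mul_smul_comm, hc, smul_mul_assoc, ← mul_assoc, sub_sub, ← add_smul]
    congr 2; push_cast; ring

theorem eq_zero_of_shift {p : ℕ} [CharP k p] {T X : End k W} {c l : k} (hc : c ≠ 0)
    (hX : Function.Injective X) (h : T * X = X * T - c • X) {v : W} (hv : T v = l • v) (j : ℕ)
    (hj : j < p) (h0 : ((X - 1) ^ j) v = 0) : v = 0 := by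
  induction j with
  | zero => simpa using h0
  | succ j ih =>
    refine ih (by omega) (hX ?_)
    have := LinearMap.congr_fun (shift_pow h j) v
    rw [Module.End.mul_apply, h0, map_zero, LinearMap.sub_apply, Module.End.mul_apply, hv, map_smul,
      h0, smul_zero, zero_sub, eq_comm, neg_eq_zero, LinearMap.smul_apply, smul_eq_zero] at this
    rw [map_zero]
    refine this.resolve_left (mul_ne_zero (fun h1 => ?_) hc)
    exact absurd (Nat.le_of_dvd (by omega) ((CharP.cast_eq_zero_iff k p _).1 h1)) (by omega)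

theorem sub_one_pow_char {p : ℕ} [Fact p.Prime] [CharP k p] (T : End k W) (n : ℕ) :
    (T - 1) ^ p ^ n = T ^ p ^ n - 1 := by
  rcases subsingleton_or_nontrivial W with hW | hW
  · exact Subsingleton.elim _ _
  haveI : CharP (End k W) p := charP_of_injective_algebraMap (algebraMap k (End k W)).injective p
  rw [sub_pow_char_pow_of_commute p n (Commute.one_right T), one_pow]

/-- The conclusion of the core of Theorem B. -/
def Exc (ρ : Representation k D W) (Q : Subgroup G) (p n r : ℕ) : Prop :=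
  ∃ (m : ℕ) (Z : Subgroup G) (w : W), 1 ≤ m ∧ m ≤ n ∧ Z ≤ Q ∧ Z.relIndex Q = (p ^ m - 1) ^ 2 ∧
    1 < p ^ m - 1 ∧ p ^ (n - m) * (p ^ m - 1) ≤ r ∧ w ≠ 0 ∧
    ∀ g ∈ Q, (g ∈ Z ↔ ∀ h ∈ Q, rp ρ ⁅h, g⁆ w = w)

theorem Exc.of_res {L : Subgroup G} {hL : L ≤ D} {U : Submodule k W} {hU : Inv ρ L U} (hQ : Q ≤ L)
    {p n r : ℕ} (h : Exc (res ρ hL U hU) Q p n r) : Exc ρ Q p n r := by
  obtain ⟨m, Z, w, h1, h2, h3, h4, h5, h6, h7, h8⟩ := h
  refine ⟨m, Z, w, h1, h2, h3, h4, h5, h6, fun h => h7 (Subtype.ext h), fun g hg => ?_⟩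
  rw [h8 g hg]
  refine forall₂_congr fun h hh => ?_
  rw [Subtype.ext_iff, coe_rp_res hL hU (hQ (der_le Q (commutator_mem_commutator hh hg)))]

theorem class2_res {L : Subgroup G} (hL : L ≤ D) {U : Submodule k W} (hU : Inv ρ L U) (hQ : Q ≤ L)
    (h : ⁅⁅Q, Q⁆, Q⁆ ≤ rker ρ) : ⁅⁅Q, Q⁆, Q⁆ ≤ rker (res ρ hL U hU) :=
  (le_inf h ((comm_le_of_le (der_le Q) le_rfl).trans hQ)).trans (rker_inf_le_rker_res hL hU)

theorem hh_core [IsAlgClosed k] {p : ℕ} [hp : Fact p.Prime] [CharP k p] (hk : (♯Q : k) ≠ 0)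
    (n : ℕ) : ∀ (D : Subgroup G) (W : Type u) [AddCommGroup W] [Module k W] [FiniteDimensional k W]
    [Nontrivial W] (ρ : Representation k D W) (x : G) (r : ℕ), Q ≤ D → x ∈ D → x ∈ 𝓝(Q) →
    orderOf x = p ^ n → (∀ e ∈ zpowers x, e ≠ 1 → Q ≤ ⁅Q, zpowers e⁆) → ⁅⁅Q, Q⁆, Q⁆ ≤ rker ρ →
    Fix ρ Q = ⊥ → (rp ρ x - 1) ^ r = 0 → p ^ n ≤ r ∨ Exc ρ Q p n r := by
  induction n with
  | zero =>
    intro D W _ _ _ _ ρ x r _ _ _ _ _ _ _ h
    left
    rcases r with _ | r
    · exact absurd h (by simp)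
    · simp
  | succ n ih =>
  suffices H : ∀ (D : Subgroup G) (W : Type u) [AddCommGroup W] [Module k W] [FiniteDimensional k W]
      [Nontrivial W] (ρ : Representation k D W) (x : G) (r : ℕ), Q ⊔ zpowers x = D → Irr ρ →
      x ∈ 𝓝(Q) → orderOf x = p ^ (n + 1) → (∀ e ∈ zpowers x, e ≠ 1 → Q ≤ ⁅Q, zpowers e⁆) →
      ⁅⁅Q, Q⁆, Q⁆ ≤ rker ρ → Fix ρ Q = ⊥ → (rp ρ x - 1) ^ r = 0 →
      p ^ (n + 1) ≤ r ∨ Exc ρ Q p (n + 1) r by
    intro D W _ _ _ _ ρ x r hQ hx hn ho hf h2 h0 hr
    have hL : Q ⊔ zpowers x ≤ D := sup_le hQ (zpowers_le.2 hx)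
    obtain ⟨U, hU, -, h1, hi⟩ := exists_irr_res (ρ := ρ) hL inv_top top_ne_bot
    haveI := Submodule.nontrivial_iff_ne_bot.2 h1
    have hx' : x ∈ Q ⊔ zpowers x := mem_sup_right (mem_zpowers x)
    refine (H _ U (res ρ hL U hU) x r rfl hi hn ho hf (class2_res hL hU le_sup_left h2)
      (Fix_res_eq_bot hL hU le_sup_left (by rw [h0, inf_bot_eq])) ?_).imp_right
      (Exc.of_res le_sup_left)
    exact LinearMap.ext fun w => Subtype.ext (by rw [res_sub_pow hL hU hx', hr]; rfl)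
  intro D W _ _ _ _ ρ x r hD hi hn ho hf h2 h0 hr
  have hQ : Q ≤ D := hD ▸ le_sup_left
  have hx : x ∈ D := hD ▸ mem_sup_right (mem_zpowers x)
  have hE : zpowers x ≤ D := zpowers_le.2 hx
  have hp1 := hp.out.one_lt
  have hx1 : x ≠ 1 := fun h => by
    rw [h, orderOf_one] at ho
    exact absurd ho.symm (Nat.one_lt_pow (by omega) hp1).ne'
  by_cases hs : ∀ T ∈ Fix (ρ.linHom ρ) Q, ∃ c : k, T = c • (1 : End k W)
  · obtain ⟨h3, h4⟩ := abs_count hQ hE (zpowers_le.2 hn) hk h2 hs hf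
    obtain ⟨h5, h6⟩ := abs_extra hQ hx h2 hs (hf x (mem_zpowers x) hx1) h0
    obtain ⟨h7, h8⟩ := cmt_bound r W _ hr
    have he : cmt (rp ρ x - 1) = Fix (ρ.linHom ρ) (zpowers x) := Submodule.ext fun T => by
      rw [Fix_linHom_zpowers hx, mem_cmt, sub_mul, mul_sub, one_mul, mul_one, sub_left_inj]
    rw [he] at h7 h8
    rw [Nat.card_zpowers, ho] at h4
    have hN : 1 < finrank k W := by
      have := finrank_pos (R := k) (M := W)
      by_contra h
      exact h5 (by rw [← h3, show finrank k W = 1 by omega, one_pow])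
    by_cases hlt : r < p ^ (n + 1)
    · obtain ⟨h9, h10⟩ := arithB hN h4 h7 h8 hlt
      obtain ⟨w, hw⟩ := exists_ne (0 : W)
      have h11 : p ^ (n + 1) - 1 = finrank k W := by omega
      exact Or.inr ⟨n + 1, Zr ρ Q, w, by omega, le_rfl, Zr_le, by rw [h11, h3], by omega,
        by rw [h11]; simpa using h10, hw, h6 w hw⟩
    · exact Or.inl (not_lt.1 hlt)
  push Not at hs
  obtain ⟨T0, hT0, hT0'⟩ := hs
  set σ := rp (ρ.linHom ρ) x - 1 with hσ
  have hσ0 : σ ^ p ^ (n + 1) = 0 := by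
    rw [hσ, sub_one_pow_char, ← rp_pow _ hx, ← ho, pow_orderOf_eq_one, rp_one, sub_self]
  have hσF : ∀ j, (σ ^ j) T0 ∈ Fix (ρ.linHom ρ) Q := fun j => by
    induction j with
    | zero => exact hT0
    | succ j ihj =>
      rw [pow_succ', Module.End.mul_apply]
      exact sub_mem (inv_Fix hQ hE (zpowers_le.2 hn) x (mem_zpowers x) _ ihj) ihj
  obtain ⟨T, hT, hT', c, hc⟩ : ∃ T ∈ Fix (ρ.linHom ρ) Q, (∀ c : k, T ≠ c • (1 : End k W)) ∧
      ∃ c : k, σ T = c • (1 : End k W) := by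
    by_contra h
    push Not at h
    have : ∀ j, ∀ c : k, (σ ^ j) T0 ≠ c • (1 : End k W) := fun j => by
      induction j with
      | zero => exact hT0'
      | succ j ihj => rw [pow_succ', Module.End.mul_apply]; exact h _ (hσF j) ihj
    exact this (p ^ (n + 1)) 0 (by rw [hσ0]; simp)
  rw [mem_Fix_linHom hQ] at hT
  have hTX : T * rp ρ x = rp ρ x * T - c • rp ρ x := by
    rw [hσ, LinearMap.sub_apply, rp_linHom hx, Module.End.one_apply] at hc
    have := congrArg (· * rp ρ x) hc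
    simp only [sub_mul, mul_assoc, rp_inv_mul ρ hx, mul_one, smul_mul_assoc, one_mul] at this
    rw [← this]; abel
  have hc0 : c ≠ 0 := fun h => by
    obtain ⟨d, hd⟩ := hi.schur T fun y hy => ((mem_Fix_linHom le_rfl).1 (Fix_anti _ hD.ge (by
      rw [Fix_sup hQ hE]
      exact ⟨(mem_Fix_linHom hQ).2 hT, (Fix_linHom_zpowers hx).2 (by rw [hTX, h]; simp)⟩)) y hy).symm
    exact hT' d hd
  obtain ⟨l, hl⟩ := Module.End.exists_eigenvalue T
  have hxp : x ^ p ∈ D := pow_mem hx p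
  have hL : Q ⊔ zpowers (x ^ p) ≤ D := sup_le hQ (zpowers_le.2 hxp)
  have hpow : ∀ (i : ℕ) (w : W), T w = l • w → T ((rp ρ x ^ i) w) = (l - i * c) • (rp ρ x ^ i) w := by
    intro i w hw
    induction i with
    | zero => simpa using hw
    | succ i ihi =>
      rw [pow_succ', Module.End.mul_apply, ← Module.End.mul_apply T, hTX, LinearMap.sub_apply,
        Module.End.mul_apply, ihi, map_smul, LinearMap.smul_apply, ← sub_smul]
      congr 1; push_cast; ring
  have hU : BGRep.Inv ρ (Q ⊔ zpowers (x ^ p)) (Module.End.eigenspace T l) := by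
    refine Inv.sup_left hQ (zpowers_le.2 hxp) (fun y hy w hw => ?_) ?_
    · rw [Module.End.mem_eigenspace_iff] at hw ⊢
      rw [← Module.End.mul_apply, ← hT y hy, Module.End.mul_apply, hw, map_smul]
    · refine (inv_iff_le_sstab (zpowers_le.2 hxp)).2 (zpowers_le.2 (mem_sstab_of_finite hxp
        fun w hw => ?_))
      rw [Module.End.mem_eigenspace_iff] at hw ⊢
      rw [rp_pow _ hx, hpow p w hw, CharP.cast_eq_zero, zero_mul, sub_zero]
  haveI := Submodule.nontrivial_iff_ne_bot.2 (Module.End.hasEigenvalue_iff.1 hl)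
  have hx' : x ^ p ∈ Q ⊔ zpowers (x ^ p) := mem_sup_right (mem_zpowers _)
  have key := ih _ (Module.End.eigenspace T l) (res ρ hL _ hU) (x ^ p) (r / p) le_sup_left hx' (pow_mem hn p)
    (by rw [orderOf_pow_of_dvd (by omega) (by rw [ho]; exact dvd_pow_self p (by omega)), ho,
      pow_succ, Nat.mul_div_cancel _ (by omega)])
    (fun e he => hf e (zpowers_le.2 (pow_mem (mem_zpowers x) p) he))
    (class2_res hL hU le_sup_left h2) (Fix_res_eq_bot hL hU le_sup_left (by rw [h0, inf_bot_eq]))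
    (LinearMap.ext fun w => Subtype.ext (by
      refine eq_zero_of_shift hc0 (rp_injective ρ hx) hTX
        (Module.End.mem_eigenspace_iff.1 (Subtype.coe_prop _)) (r % p) (Nat.mod_lt _ (by omega)) ?_
      have h3 := sub_one_pow_char (p := p) (rp ρ x) 1
      rw [pow_one] at h3
      rw [res_sub_pow hL hU hx', rp_pow _ hx, ← h3, ← pow_mul, ← Module.End.mul_apply, ← pow_add,
        Nat.mod_add_div, hr]; rfl))
  have hle := Nat.mul_div_le r p
  rcases key with h | h
  · left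
    rw [pow_succ']
    exact (Nat.mul_le_mul_left p h).trans hle
  · right
    obtain ⟨m, Z, w, h1, h2, h3, h4, h5, h6, h7⟩ := Exc.of_res le_sup_left h
    refine ⟨m, Z, w, h1, by omega, h3, h4, h5, ?_, h7⟩
    rw [show n + 1 - m = n - m + 1 by omega, pow_succ', mul_assoc]
    exact (Nat.mul_le_mul_left p h6).trans hle

end CA.HH
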