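import Cfsg.Agent.Lib.Solv.HH1
import Cfsg.Agent.Lib.Odd.BG1b
import Cfsg.Agent.Lib.Odd.BGMisc
import Cfsg.Agent.Lib.Odd.BGRank
import Cfsg.Agent.Lib.Grp.H12PSolv

/-!
The coprime analogues of the core of Theorem B, minimal nontrivial coprime actions, and Theorem B of
Hall and Higman.
-/

set_option autoImplicit false
set_option linter.unusedSectionVars false
set_option linter.unusedVariables false
set_option linter.style.haveILetI false

namespace CA.HH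
open Subgroup Cfsg CA.OQuo CA.BG CA.BGRep Module
open scoped commutatorElement

universe u

variable {G : Type*} [Group G] [Finite G]

section rep
variable {D : Subgroup G} {k W : Type*} [Field k] [AddCommGroup W]
  [Module k W] {ρ : Representation k D W} {Q E : Subgroup G} {x : G}

theorem schur_of_comm [IsAlgClosed k] [FiniteDimensional k W] (hD : Q ⊔ zpowers x = D) (hi : Irr ρ)
    {T : End k W} (h1 : ∀ y ∈ Q, rp ρ y * T = T * rp ρ y) (h2 : rp ρ x * T = T * rp ρ x) :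
    ∃ c : k, T = c • (1 : End k W) := by
  have hQ : Q ≤ D := hD ▸ le_sup_left
  have hx : x ∈ D := hD ▸ mem_sup_right (mem_zpowers x)
  exact hi.schur T fun y hy => ((mem_Fix_linHom le_rfl).1 (Fix_anti _ hD.ge (by
    rw [Fix_sup hQ (zpowers_le.2 hx)]
    exact ⟨(mem_Fix_linHom hQ).2 h1, (Fix_linHom_zpowers hx).2 h2⟩)) y hy).symm

/-- an element of prime order without fixed points: the normal subgroup acts irreducibly -/
theorem scalar_of_prime [IsAlgClosed k] [FiniteDimensional k W] [Nontrivial W]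
    (hD : Q ⊔ zpowers x = D) (hi : Irr ρ) (hn : x ∈ 𝓝(Q)) (hr : (orderOf x).Prime)
    (hk : (orderOf x : k) ≠ 0) (h0 : Fix ρ (zpowers x) = ⊥) :
    ∀ T ∈ Fix (ρ.linHom ρ) Q, ∃ c : k, T = c • (1 : End k W) := by
  have hQ : Q ≤ D := hD ▸ le_sup_left
  have hx : x ∈ D := hD ▸ mem_sup_right (mem_zpowers x)
  have hE : zpowers x ≤ D := zpowers_le.2 hx
  have hI := inv_Fix (ρ := ρ.linHom ρ) hQ hE (zpowers_le.2 hn)
  obtain ⟨b, ω, hb, hω⟩ := CChar.CharRep.exists_eigenbasis_of_pow_eq_one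
    (rp (res (ρ.linHom ρ) hE _ hI) x) hk (by
      rw [← rp_pow _ (mem_zpowers x), pow_orderOf_eq_one, rp_one])
  suffices H : ∀ i, ω i = 1 by
    intro T hT
    have : rp (res (ρ.linHom ρ) hE _ hI) x = 1 := b.ext fun i => by rw [hb, H, one_smul]; rfl
    have h1 := congrArg Subtype.val (LinearMap.congr_fun this ⟨T, hT⟩)
    rw [coe_rp_res hE hI (mem_zpowers x)] at h1
    exact schur_of_comm hD hi ((mem_Fix_linHom hQ).1 hT)
      ((Fix_linHom_zpowers hx).1 ((mem_Fix_zpowers hx).2 h1))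
  intro i
  by_contra hz
  have h1 := congrArg Subtype.val (hb i)
  rw [coe_rp_res hE hI (mem_zpowers x), rp_linHom hx, Submodule.coe_smul] at h1
  have hT0 : (b i : End k W) ≠ 0 := fun h => b.ne_zero i (Subtype.ext h)
  have hT := (mem_Fix_linHom hQ).1 (b i).2
  have hzr := hω i
  generalize (b i : End k W) = T at h1 hT0 hT
  generalize ω i = z at h1 hz hzr
  have hz0 : z ≠ 0 := fun h => by rw [h, zero_pow hr.ne_zero] at hzr; exact zero_ne_one hzr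
  have h2 : ∀ w, T (rp ρ x w) = z⁻¹ • rp ρ x (T w) := fun w => by
    have := LinearMap.congr_fun h1 (rp ρ x w)
    rw [Module.End.mul_apply, Module.End.mul_apply, rp_inv_apply ρ hx] at this
    rw [this]
    exact (inv_smul_smul₀ hz0 _).symm
  have hker : LinearMap.ker T = ⊥ := by
    refine (hi _ ((Inv.sup_left hQ hE (fun y hy w hw => ?_) ?_).mono hD.ge)).resolve_right
      fun h => hT0 (LinearMap.ker_eq_top.1 h)
    · rw [LinearMap.mem_ker] at hw ⊢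
      rw [← Module.End.mul_apply, ← hT y hy, Module.End.mul_apply, hw, map_zero]
    · refine (inv_iff_le_sstab hE).2 (zpowers_le.2 (mem_sstab_of_finite hx fun w hw => ?_))
      rw [LinearMap.mem_ker] at hw ⊢
      rw [h2, hw, map_zero, smul_zero]
  obtain ⟨l, hl⟩ := Module.End.exists_eigenvalue T
  obtain ⟨u, hu⟩ := hl.exists_hasEigenvector
  have hl0 : l ≠ 0 := fun h => hu.2 (LinearMap.ker_eq_bot'.1 hker u (by
    rw [hu.apply_eq_smul, h, zero_smul]))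
  have h3 : ∀ j : ℕ, T ((rp ρ x ^ j) u) = (z⁻¹ ^ j * l) • (rp ρ x ^ j) u := fun j => by
    induction j with
    | zero => simpa using hu.apply_eq_smul
    | succ j ihj =>
      rw [pow_succ', Module.End.mul_apply, h2, ihj, map_smul, smul_smul, pow_succ', mul_assoc]
  haveI := Fact.mk hr
  have hoz : orderOf z⁻¹ = orderOf x := orderOf_eq_prime (by rw [inv_pow, hzr, inv_one])
    (inv_ne_one.2 hz)
  have li := Module.End.eigenvectors_linearIndependent' T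
    (fun j : Fin (orderOf x) => z⁻¹ ^ (j : ℕ) * l) (fun i j h => Fin.ext (pow_injOn_Iio_orderOf
      (i.2.trans_eq hoz.symm) (j.2.trans_eq hoz.symm) (mul_right_cancel₀ hl0 h))) (fun j => (rp ρ x ^ (j : ℕ)) u)
    fun j => ⟨Module.End.mem_eigenspace_iff.2 (h3 j), by
      rw [← rp_pow _ hx]; exact rp_ne_zero ρ (pow_mem hx _) hu.2⟩
  have h4 : ∑ j : Fin (orderOf x), (rp ρ x ^ (j : ℕ)) u = 0 := by
    rw [← Submodule.mem_bot k, ← h0, mem_Fix_zpowers hx, ← sub_eq_zero,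
      Fin.sum_univ_eq_sum_range (fun j => (rp ρ x ^ j) u), ← LinearMap.sum_apply]
    have := LinearMap.congr_fun (mul_geom_sum (rp ρ x) (orderOf x)) u
    rw [← rp_pow _ hx, pow_orderOf_eq_one, rp_one, sub_self] at this
    exact this
  exact one_ne_zero (Fintype.linearIndependent_iff.1 li (fun _ => 1) (by simpa using h4)
    ⟨0, hr.pos⟩)

theorem arithC {N r c : ℕ} (hr : r.Prime) (hN : 1 < N) (h1 : N ^ 2 + r = r * c + 1)
    (h3 : N ^ 2 ≤ (r - 1) * c) : N + 1 = r := by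
  obtain ⟨Q, rfl⟩ : ∃ Q, r = Q + 1 := ⟨r - 1, by have := hr.pos; omega⟩
  obtain ⟨M, rfl⟩ : ∃ M, N = M + 1 := ⟨N - 1, by omega⟩
  rw [Nat.add_sub_cancel] at h3
  have h5 : M + 1 ≤ Q := by
    by_contra h
    nlinarith
  have h4 : Q + 1 ∣ M * (M + 2) := by
    have : M * (M + 2) + (Q + 1) = (Q + 1) * c := by nlinarith
    exact (Nat.dvd_add_left dvd_rfl).1 ⟨c, this⟩
  rcases (Nat.Prime.dvd_mul hr).1 h4 with h | h
  · have := Nat.le_of_dvd (by omega) h; omega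
  · have := Nat.le_of_dvd (by omega) h; omega

/-- The coprime analogue of the core of Theorem B for an element of prime order. -/
theorem cop_core [IsAlgClosed k] [FiniteDimensional k W] [Nontrivial W] (hQ : Q ≤ D) (hx : x ∈ D)
    (hn : x ∈ 𝓝(Q)) (hr : (orderOf x).Prime) (hk : (♯Q : k) ≠ 0) (hkx : (orderOf x : k) ≠ 0)
    (hf : Q ≤ ⁅Q, zpowers x⁆) (h2 : ⁅⁅Q, Q⁆, Q⁆ ≤ rker ρ) (h0 : Fix ρ Q = ⊥)
    (h1 : Fix ρ (zpowers x) = ⊥) : ∃ (Z : Subgroup G) (w : W), Z ≤ Q ∧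
      Z.relIndex Q = (orderOf x - 1) ^ 2 ∧ 1 < orderOf x - 1 ∧ w ≠ 0 ∧
      ∀ g ∈ Q, (g ∈ Z ↔ ∀ h ∈ Q, rp ρ ⁅h, g⁆ w = w) := by
  have hL : Q ⊔ zpowers x ≤ D := sup_le hQ (zpowers_le.2 hx)
  obtain ⟨U, hU, -, h3, hi⟩ := exists_irr_res (ρ := ρ) hL inv_top top_ne_bot
  haveI := Submodule.nontrivial_iff_ne_bot.2 h3
  have hx' : x ∈ Q ⊔ zpowers x := mem_sup_right (mem_zpowers x)
  have h1' := Fix_res_eq_bot hL hU le_sup_right (by rw [h1, inf_bot_eq])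
  have h2' := class2_res hL hU le_sup_left h2
  have hs := scalar_of_prime rfl hi hn hr hkx h1'
  have hX : (♯(zpowers x)).Prime := by rwa [Nat.card_zpowers]
  obtain ⟨h4, h5⟩ := abs_count le_sup_left le_sup_right (zpowers_le.2 hn) hk h2' hs
    fun e he h => by rwa [← eq_zpowers_of_prime hX he h]
  obtain ⟨h6, h7⟩ := abs_extra le_sup_left hx' h2' hs hf
    (Fix_res_eq_bot hL hU le_sup_left (by rw [h0, inf_bot_eq]))
  have h8 := sq_finrank_le (rp (res ρ hL U hU) x) hr.ne_zero hkx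
    (by rw [← rp_pow _ hx', pow_orderOf_eq_one, rp_one]) (fun w hw => by
      rw [← Submodule.mem_bot k, ← h1', mem_Fix_zpowers hx']; exact hw)
    (C := Fix ((res ρ hL U hU).linHom (res ρ hL U hU)) (zpowers x))
    fun T hT => (Fix_linHom_zpowers hx').2 hT
  rw [Nat.card_zpowers] at h5
  have hN : 1 < finrank k U := by
    have := finrank_pos (R := k) (M := U)
    by_contra h
    exact h6 (by rw [← h4, show finrank k U = 1 by omega, one_pow])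
  have h9 := arithC hr hN h5 h8
  obtain ⟨w, hw⟩ := exists_ne (0 : U)
  have h10 : orderOf x - 1 = finrank k U := by omega
  refine ⟨_, w, Zr_le, by rw [h10, h4], by omega, fun h => hw (Subtype.ext h), fun g hg => ?_⟩
  rw [h7 w hw g hg]
  refine forall₂_congr fun h hh => ?_
  rw [Subtype.ext_iff, coe_rp_res hL hU
    (mem_sup_left (der_le Q (commutator_mem_commutator hh hg)))]

theorem cop_core' [IsAlgClosed k] [FiniteDimensional k W] (hQ : Q ≤ D) (hx : x ∈ D)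
    (hn : x ∈ 𝓝(Q)) (hr : (orderOf x).Prime) (hk : (♯Q : k) ≠ 0) (hkx : (orderOf x : k) ≠ 0)
    (hf : Q ≤ ⁅Q, zpowers x⁆) (h2 : ⁅⁅Q, Q⁆, Q⁆ ≤ rker ρ) {K : Subgroup G} (hK : K ≤ Q)
    (hKn : Q ⊔ zpowers x ≤ 𝓝(K)) (h0 : ¬ K ≤ rker ρ)
    (h1 : Fix ρ (zpowers x) = ⊥) : ∃ (Z : Subgroup G) (w : W), Z ≤ Q ∧
      Z.relIndex Q = (orderOf x - 1) ^ 2 ∧ 1 < orderOf x - 1 ∧ w ∉ Fix ρ K ∧
      ∀ g ∈ Q, (g ∈ Z ↔ ∀ h ∈ Q, rp ρ ⁅h, g⁆ w = w) := by
  have hL : Q ⊔ zpowers x ≤ D := sup_le hQ (zpowers_le.2 hx)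
  obtain ⟨U, hU, h3, h4, -⟩ := exists_irr_res_Fix hL (hK.trans le_sup_left) hKn
    (natCast_ne_zero_of_dvd (card_dvd hK) hk) h0
  haveI := Submodule.nontrivial_iff_ne_bot.2 h3
  obtain ⟨Z, w, h5, h6, h7, h8, h9⟩ := cop_core (ρ := res ρ hL U hU) le_sup_left
    (mem_sup_right (mem_zpowers x)) hn hr hk hkx hf (class2_res hL hU le_sup_left h2)
    (Fix_res_eq_bot hL hU le_sup_left (le_bot_iff.1 ((inf_le_inf_left _ (Fix_anti ρ hK)).trans h4.le)))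
    (Fix_res_eq_bot hL hU le_sup_right (by rw [h1, inf_bot_eq]))
  refine ⟨Z, w, h5, h6, h7, fun h => h8 (Subtype.ext ((Submodule.mem_bot k).1 (h4.le ⟨w.2, h⟩))),
    fun g hg => ?_⟩
  rw [h9 g hg]
  refine forall₂_congr fun h hh => ?_
  rw [Subtype.ext_iff, coe_rp_res hL hU
    (mem_sup_left (der_le Q (commutator_mem_commutator hh hg)))]

theorem hh_core' [IsAlgClosed k] [FiniteDimensional k W] {p : ℕ} [hp : Fact p.Prime] [CharP k p]
    {n r : ℕ} (hQ : Q ≤ D) (hx : x ∈ D) (hn : x ∈ 𝓝(Q)) (ho : orderOf x = p ^ n)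
    (hk : (♯Q : k) ≠ 0) (hf : ∀ e ∈ zpowers x, e ≠ 1 → Q ≤ ⁅Q, zpowers e⁆)
    (h2 : ⁅⁅Q, Q⁆, Q⁆ ≤ rker ρ) {U : Submodule k W} (hU : BGRep.Inv ρ (Q ⊔ zpowers x) U)
    (h0 : U ≠ ⊥) (h1 : U ⊓ Fix ρ Q = ⊥) (hr : ∀ w ∈ U, ((rp ρ x - 1) ^ r) w = 0) :
    p ^ n ≤ r ∨ ∃ (m : ℕ) (Z : Subgroup G) (w : W), 1 ≤ m ∧ m ≤ n ∧ Z ≤ Q ∧
      Z.relIndex Q = (p ^ m - 1) ^ 2 ∧ 1 < p ^ m - 1 ∧ p ^ (n - m) * (p ^ m - 1) ≤ r ∧ w ∈ U ∧
      w ≠ 0 ∧ ∀ g ∈ Q, (g ∈ Z ↔ ∀ h ∈ Q, rp ρ ⁅h, g⁆ w = w) := by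
  have hL : Q ⊔ zpowers x ≤ D := sup_le hQ (zpowers_le.2 hx)
  have hx' : x ∈ Q ⊔ zpowers x := mem_sup_right (mem_zpowers x)
  haveI := Submodule.nontrivial_iff_ne_bot.2 h0
  refine (hh_core hk n _ U (res ρ hL U hU) x r le_sup_left hx' hn ho hf
    (class2_res hL hU le_sup_left h2) (Fix_res_eq_bot hL hU le_sup_left h1)
    (LinearMap.ext fun w => Subtype.ext (by rw [res_sub_pow hL hU hx', hr _ w.2]; rfl))).imp_right ?_
  rintro ⟨m, Z, w, h1, h2, h3, h4, h5, h6, h7, h8⟩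
  refine ⟨m, Z, w, h1, h2, h3, h4, h5, h6, w.2, fun h => h7 (Subtype.ext h), fun g hg => ?_⟩
  rw [h8 g hg]
  refine forall₂_congr fun h hh => ?_
  rw [Subtype.ext_iff, coe_rp_res hL hU
    (mem_sup_left (der_le Q (commutator_mem_commutator hh hg)))]

end rep

variable {A B K P Q : Subgroup G} {p q : ℕ}

/-- `Q` is a `B`-invariant `q`-group which is minimal subject to not being centralized by `A`. -/
structure Crit (q : ℕ) (B A Q : Subgroup G) : Prop where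
  prime : q.Prime
  pi : IsPi {q} Q
  norm : B ≤ 𝓝(Q)
  cop : (♯Q).Coprime ♯A
  le : A ≤ B
  normA : B ≤ 𝓝(A)
  nc : ¬ Q ≤ 𝓒(A)
  min : ∀ U, U < Q → B ≤ 𝓝(U) → U ≤ 𝓒(A)

namespace Crit
variable (h : Crit q B A Q)
include h

theorem ne_bot : Q ≠ ⊥ := fun h1 => h.nc (h1 ▸ bot_le)

theorem solv : Group.IsSolvable A ∨ Group.IsSolvable Q := Or.inr (h.pi.isSolvable h.prime)

theorem comm_eq : ⁅Q, A⁆ = Q := by
  have hn := h.le.trans h.norm
  refine ((comm_le_left hn).lt_or_eq).resolve_left fun h1 => h.nc (cent_symm ?_)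
  exact coprime_commGG1P hn h.cop h.solv (h.min _ h1 (norm_comm h.norm h.normA))

theorem le_of_der_le {N U : Subgroup G} (h1 : ⁅Q, Q⁆ ≤ N) (h2 : N ≤ Q) (hn : A ≤ 𝓝(N)) (hU : U ≤ Q)
    (hc : U ≤ 𝓒(A)) : U ≤ N := by
  have hQ := norm_of_der_le h1 h2
  have h3 := coprime_abel_cent_eq_bot (norm_quo N (h.le.trans h.norm)) (cop_mim h.cop _)
    ((isMulCommutative_quo_iff hQ).2 h1) (by rw [← quo_comm hQ hn, h.comm_eq])
  exact (quo_eq_bot_iff (hU.trans hQ)).1 (BG.eq_bot_mono (le_inf (quo_mono N hU) (cent_quo N hc)) h3)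

theorem norm_phi : B ≤ 𝓝(Phi Q) := h.norm.trans (norm_Phi Q)

theorem phi_cent : Phi Q ≤ 𝓒(A) := h.min _ (Phi_lt h.ne_bot) h.norm_phi

theorem le_phi {U : Subgroup G} (h1 : U < Q) (h2 : B ≤ 𝓝(U)) : U ≤ Phi Q :=
  h.le_of_der_le (der_le_Phi h.prime h.pi) (Phi_le Q) (h.le.trans h.norm_phi) h1.le (h.min U h1 h2)

theorem phi_le_cent : Phi Q ≤ 𝓒(Q) := by
  refine cent_symm (h.comm_eq.ge.trans ((comm_symm _ _).le.trans (three_subgroups ?_ ?_)))
  · exact (comm_le_right (le_norm_Phi Q)).trans h.phi_cent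
  · rw [comm_eq_bot_iff.2 h.phi_cent]; exact bot_le

theorem phi_eq_der : Phi Q = ⁅Q, Q⁆ :=
  le_antisymm (h.le_of_der_le le_rfl (der_le Q) (h.le.trans (h.norm.trans (norm_der Q))) (Phi_le Q)
    h.phi_cent) (der_le_Phi h.prime h.pi)

theorem class2 : ⁅⁅Q, Q⁆, Q⁆ = ⊥ := comm_eq_bot_iff.2 (h.phi_eq_der ▸ h.phi_le_cent)

theorem elem (hc : IsMulCommutative Q) : IsElementaryAbelian q Q :=
  (Phi_eq_bot_iff h.prime h.pi).1 (h.phi_eq_der.trans (comm_iff_der_eq_bot.1 hc))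

theorem center_eq (hc : ¬ IsMulCommutative Q) : 𝓩(Q) = Phi Q :=
  le_antisymm (h.le_phi (lt_of_le_of_ne inf_le_left fun h1 =>
    hc (comm_iff_le_cent.2 (h1.ge.trans inf_le_right))) (h.norm.trans (norm_center Q)))
    (le_inf (Phi_le Q) h.phi_le_cent)

theorem expDvd (h2 : q ≠ 2) : ExpDvd Q q := by
  have h1 : Ω₁(q, Q) = Q := ((omega_le q Q).lt_or_eq).resolve_left fun h1 => h.nc (cent_symm
    (coprime_odd_faithful_Ohm1 h.prime h2 h.pi (h.le.trans h.norm) h.cop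
      (cent_symm (h.min _ h1 (norm_omega q h.norm)))))
  have := expDvd_omega_of_class2 (h.prime.odd_of_ne_two h2) (comm_eq_bot_iff.1 h.class2)
  rwa [h1] at this

end Crit

theorem exists_crit_of_pi (hq : q.Prime) (hK : IsPi {q} K) (hn : B ≤ 𝓝(K)) (hAB : A ≤ B)
    (hA : B ≤ 𝓝(A)) (hc : (♯K).Coprime ♯A) (h : ¬ K ≤ 𝓒(A)) : ∃ Q, Q ≤ K ∧ Crit q B A Q := by
  obtain ⟨Q, h1, ⟨h2, h3⟩, h4⟩ := exists_minimal_le
    (P := fun U => B ≤ 𝓝(U) ∧ ¬ U ≤ 𝓒(A)) ⟨hn, h⟩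
  refine ⟨Q, h1, hq, hK.of_le h1, h2, cop_mono hc h1 le_rfl, hAB, hA, h3, fun U h5 h6 => ?_⟩
  by_contra h7
  exact h5.ne (h4 U ⟨h6, h7⟩ h5.le)

theorem exists_crit (hn : B ≤ 𝓝(K)) (hAB : A ≤ B) (hA : B ≤ 𝓝(A)) (hc : (♯K).Coprime ♯B)
    (hs : Group.IsSolvable B ∨ Group.IsSolvable K) (h : ¬ K ≤ 𝓒(A)) :
    ∃ q Q, Q ≤ K ∧ Crit q B A Q := by
  by_contra h1
  refine h (le_of_forall_syl fun q hq _ => ?_)
  obtain ⟨S, hS, hB⟩ := coprime_Sylow_exists hq hn hc hs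
  refine ⟨S, hS, ?_⟩
  by_contra h2
  obtain ⟨Q, h3, h4⟩ := exists_crit_of_pi hq hS.pi hB hAB hA (cop_mono hc hS.le hAB) h2
  exact h1 ⟨q, Q, h3.trans hS.le, h4⟩

theorem isPi_p'core (hp : p.Prime) : IsPi {p}ᶜ (pPrimeCore p G) :=
  core_p'_top (G := G) hp ▸ core_pi _ _

theorem isPi_pcore (hp : p.Prime) : IsPi {p} (pCore p G) := core_p_top (G := G) hp ▸ core_pi _ _

theorem le_p'core (hp : p.Prime) [K.Normal] (h : IsPi {p}ᶜ K) : K ≤ pPrimeCore p G :=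
  core_p'_top (G := G) hp ▸ le_core h le_top (top_le_norm K ⊤)

theorem le_pcore (hp : p.Prime) [K.Normal] (h : IsPi {p} K) : K ≤ pCore p G :=
  core_p_top (G := G) hp ▸ le_core h le_top (top_le_norm K ⊤)

theorem cent_p'core [hp : Fact p.Prime] (hs : IsPSolvable p G) (hO : pCore p G = ⊥) :
    𝓒(pPrimeCore p G) ≤ pPrimeCore p G := by
  by_contra h
  obtain ⟨K, hK, h1, h2, h3⟩ := CA.H12PSolv.exists_step hs h
  have hN := (isPi_p'core (G := G) hp.out).inf_left K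
  refine h2 (le_p'core hp.out ?_)
  rcases h3 with ⟨m, hm⟩ | h3
  · obtain ⟨S, hS⟩ := syl_exists hp.out K
    have h4 : S ⊔ pPrimeCore p G ⊓ K = K := hS.sup_of_idx inf_le_right (by
      rw [inf_relIndex_right, hm]; exact piNat_pow hp.out m)
    have h5 : K ≤ 𝓝(S) := h4.ge.trans (sup_le le_normalizer
      (norm_of_cent (inf_le_left.trans (cent_symm (hS.le.trans h1)))))
    haveI := normal_of_top_le_norm ((top_le_norm K ⊤).trans (hS.norm_of_normal h5))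
    have h6 : S = ⊥ := BG.eq_bot_mono (le_pcore hp.out hS.pi) hO
    exact Hall.isPi_compl_of_eq_bot (h6 ▸ hS)
  · exact hN.of_relIndex ((piNat_compl_iff_coprime hp.out).2 h3)

theorem pow_mem_zpowers_of_ne_one [hp : Fact p.Prime] {x e : G} {n : ℕ}
    (ho : orderOf x = p ^ (n + 1)) (he : e ∈ zpowers x) (h1 : e ≠ 1) :
    zpowers (x ^ p ^ n) ≤ zpowers e := by
  refine le_of_cyc_of_dvd (cyc_zpowers x) (zpowers_le.2 (pow_mem (mem_zpowers x) _))
    (zpowers_le.2 he) ?_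
  rw [Nat.card_zpowers, CA.PGNormalCyclic.orderOf_pow_pred hp.out ho]
  exact ((isPi_of_card_eq_pow hp.out ((Nat.card_zpowers x).trans ho)).of_le
    (zpowers_le.2 he)).dvd_card (by rwa [Ne, zpowers_eq_bot])

theorem eq_pow_of_relIndex (hq : q.Prime) (hQ : IsPi {q} Q) {Z : Subgroup G} {N : ℕ} (hN : 1 < N)
    (h : Z.relIndex Q = N ^ 2) : ∃ j, 1 ≤ j ∧ N = q ^ j := by
  obtain ⟨j, hj⟩ := ((hQ.relIndex Z).of_dvd (h ▸ dvd_pow_self N two_ne_zero)).exists_pow hq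
    (by omega)
  refine ⟨j, Nat.pos_of_ne_zero fun h0 => ?_, hj⟩
  rw [h0, pow_zero] at hj; omega

/-- Theorem B for a `p`-element acting on a `p'`-group. -/
theorem thmB_sub {D : Subgroup G} {k W : Type*} [Field k] [AddCommGroup W] [Module k W]
    [FiniteDimensional k W] {ρ : Representation k D W} [hp : Fact p.Prime] [CharP k p] {x : G}
    {n r : ℕ} (hK : K ≤ D) (hx : x ∈ D) (hn : x ∈ 𝓝(K)) (hp' : IsPi {p}ᶜ K)
    (hf : K ⊓ rker ρ = ⊥) (ho : orderOf x = p ^ (n + 1)) (hy : x ^ p ^ n ∉ 𝓒(K))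
    (hr : (rp ρ x - 1) ^ r = 0) : p ^ (n + 1) ≤ r ∨ ∃ (m q j : ℕ) (Q : Subgroup G), 1 ≤ m ∧
      m ≤ n + 1 ∧ q.Prime ∧ 1 ≤ j ∧ p ^ m - 1 = q ^ j ∧ Q ≤ K ∧ IsPi {q} Q ∧
      ¬ IsMulCommutative Q ∧ p ^ (n + 1 - m) * (p ^ m - 1) ≤ r := by
  have hX : IsPi {p} (zpowers x) := isPi_of_card_eq_pow hp.out ((Nat.card_zpowers x).trans ho)
  have hy' : zpowers (x ^ p ^ n) ≤ zpowers x := zpowers_le.2 (pow_mem (mem_zpowers x) _)
  obtain ⟨q, Q, hQ, h⟩ := exists_crit (zpowers_le.2 hn) hy'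
    (norm_of_comm (comm_of_cyclic (cyc_zpowers x)) hy') (hp'.coprime' hX)
    (Or.inl (hX.isSolvable hp.out)) fun h => hy (cent_symm h (mem_zpowers _))
  let K' := AlgebraicClosure k
  have hk : (♯Q : K') ≠ 0 := fun h1 => (isPi_compl_iff hp.out).1 (hp'.of_le hQ)
    ((CharP.cast_eq_zero_iff K' p _).1 h1)
  have hL : Q ⊔ zpowers x ≤ D := sup_le (hQ.trans hK) (zpowers_le.2 hx)
  have hx' : x ∈ Q ⊔ zpowers x := mem_sup_right (mem_zpowers x)
  obtain ⟨U, hU, h1, h2, -⟩ := exists_irr_res_Fix (ρ := bc K' ρ) hL le_sup_left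
    (sup_le le_normalizer h.norm) hk fun h1 => h.ne_bot (BG.eq_bot_mono
      (le_inf hQ (h1.trans (rker_bc K').le)) hf)
  haveI := Submodule.nontrivial_iff_ne_bot.2 h1
  have hr' : (rp (bc K' ρ) x - 1) ^ r = 0 := by
    have := congrArg (Module.End.baseChangeHom k K' W) hr
    rwa [map_pow, map_sub, map_one, map_zero, ← rp_bc K' hx] at this
  refine (hh_core hk (n + 1) _ U (res _ hL U hU) x r le_sup_left hx' (h.norm (mem_zpowers x)) ho
    (fun e he h1 => h.comm_eq.ge.trans (comm_mono le_rfl (pow_mem_zpowers_of_ne_one ho he h1)))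
    (by rw [h.class2]; exact bot_le) (Fix_res_eq_bot hL hU le_sup_left h2)
    (LinearMap.ext fun w => Subtype.ext (by rw [res_sub_pow hL hU hx', hr']; rfl))).imp_right ?_
  rintro ⟨m, Z, w, h1, h2, h3, h4, h5, h6, h7, h8⟩
  obtain ⟨j, h9, h10⟩ := eq_pow_of_relIndex h.prime h.pi h5 h4
  refine ⟨m, q, j, Q, h1, h2, h.prime, h9, h10, hQ, h.pi, fun hc => ?_, h6⟩
  have : Z.relIndex Q = 1 := relIndex_eq_one.2 fun g hg => (h8 g hg).2 fun y hy => by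
    rw [commutatorElement_eq_one_iff_mul_comm.2 (mem_cent.1 (comm_iff_le_cent.1 hc hg) y hy),
      rp_one]; rfl
  rw [this] at h4
  nlinarith

/-- Theorem B of Hall and Higman. -/
theorem thmB {k W : Type*} [Field k] [AddCommGroup W] [Module k W] [FiniteDimensional k W]
    [Nontrivial W] [hp : Fact p.Prime] [CharP k p] (ρ : Representation k G W)
    (hf : Function.Injective ρ) (hs : IsPSolvable p G) (hO : pCore p G = ⊥) {x : G} {n r : ℕ}
    (ho : orderOf x = p ^ n) (hr : (ρ x - 1) ^ r = 0) : p ^ n ≤ r ∨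
      ∃ (m q j : ℕ) (Q : Subgroup G), 1 ≤ m ∧ m ≤ n ∧ q.Prime ∧ 1 ≤ j ∧ p ^ m - 1 = q ^ j ∧
      IsPi {q} Q ∧ ¬ IsMulCommutative Q ∧ p ^ (n - m) * (p ^ m - 1) ≤ r := by
  rcases n with _ | n
  · left
    rcases r with _ | r
    · exact absurd hr (by simp)
    · simp
  let ρ' : Representation k (⊤ : Subgroup G) W := ρ.comp (⊤ : Subgroup G).subtype
  have h1 : ∀ y, rp ρ' y = ρ y := fun y => rp_of_mem ρ' (mem_top y)
  have ho' := CA.PGNormalCyclic.orderOf_pow_pred hp.out ho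
  refine (thmB_sub (ρ := ρ') (K := pPrimeCore p G) le_top (mem_top x) (top_le_norm _ ⊤ (mem_top x))
    (isPi_p'core hp.out) (eq_bot_iff.2 fun y hy => hf ?_) ho (fun h => ?_)
    (by rw [h1, hr])).imp_right ?_
  · rw [← h1, (mem_rker.1 hy.2).2, map_one]
  · exact (piNat_compl_iff hp.out).1 ((isPi_p'core hp.out).orderOf (cent_p'core hs hO h))
      ho'.symm.dvd
  · rintro ⟨m, q, j, Q, h1, h2, h3, h4, h5, -, h⟩
    exact ⟨m, q, j, Q, h1, h2, h3, h4, h5, h⟩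

end CA.HH
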