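import Cfsg.Agent.Lib.Solv.HH3
import Cfsg.Agent.Lib.Odd.BG2

/-!
Subadditivity of the `p`-length, derived lengths, and the `p`-length versus the derived length of a
Sylow `p`-subgroup for odd `p`.
-/

set_option autoImplicit false
set_option linter.unusedSectionVars false
set_option linter.unusedVariables false
set_option linter.style.haveILetI false

namespace CA.HH
open Subgroup Cfsg CA.OQuo CA.BG CA.BGRep Module CA.H12PSolv
open scoped commutatorElement

universe u

section der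
variable {G : Type*} [Group G] {G' : Type*} [Group G']

/-- The derived series of a subgroup, inside the ambient group. -/
def der (H : Subgroup G) (n : ℕ) : Subgroup G := (derivedSeries H n).map H.subtype

theorem der_zero (H : Subgroup G) : der H 0 = H := by
  rw [der, derivedSeries_zero, ← MonoidHom.range_eq_map, range_subtype]

theorem der_succ (H : Subgroup G) (n : ℕ) : der H (n + 1) = ⁅der H n, der H n⁆ := by
  rw [der, derivedSeries_succ, map_commutator]; rfl

theorem der_eq_bot_iff {H : Subgroup G} {n : ℕ} : der H n = ⊥ ↔ derivedSeries H n = ⊥ :=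
  map_eq_bot_iff_of_injective _ H.subtype_injective

theorem der_top (n : ℕ) : der (⊤ : Subgroup G) n = derivedSeries G n :=
  map_derivedSeries_eq (fun x => ⟨⟨x, mem_top x⟩, rfl⟩) n

theorem der_mono' {H K : Subgroup G} (h : H ≤ K) (n : ℕ) : der H n ≤ der K n := by
  induction n with
  | zero => rwa [der_zero, der_zero]
  | succ n ih => rw [der_succ, der_succ]; exact der_mono ih

theorem map_der (f : G →* G') (H : Subgroup G) (n : ℕ) : (der H n).map f = der (H.map f) n := by
  induction n with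
  | zero => rw [der_zero, der_zero]
  | succ n ih => rw [der_succ, der_succ, map_commutator, ih]

theorem der_add (H : Subgroup G) (m n : ℕ) : der H (m + n) = der (der H m) n := by
  induction n with
  | zero => rw [der_zero, add_zero]
  | succ n ih => rw [← add_assoc, der_succ, der_succ, ih]

theorem der_le' (H : Subgroup G) (n : ℕ) : der H n ≤ H := map_subtype_le _

theorem norm_der' (H : Subgroup G) (n : ℕ) : 𝓝(H) ≤ 𝓝(der H n) := (charIn_map _).norm

theorem der_anti (H : Subgroup G) {m n : ℕ} (h : m ≤ n) : der H n ≤ der H m :=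
  map_mono (derivedSeries_antitone H h)

end der

variable {G : Type*} [Group G] [Finite G] {G' : Type*} [Group G'] [Finite G'] {p : ℕ}

theorem ups_char (hp : p.Prime) (n : ℕ) : (ups p G n).Characteristic := by
  refine characteristic_iff_map_le.2 fun φ => ?_
  have := map_ups_le hp (f := φ.toMonoidHom) φ.surjective (i := 0) (j := 0) Iff.rfl
    (by rw [ups_zero, Subgroup.map_bot]) n
  rwa [zero_add] at this

theorem map_ups_normal_le (hp : p.Prime) (N : Subgroup G) [N.Normal] (n : ℕ) :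
    (ups p N n).map N.subtype ≤ ups p G n := by
  have := chain_le hp (fun n => (ups p N n).map N.subtype)
    (fun n => haveI := ups_char (G := N) hp n; inferInstance) (j := 0)
    (by rw [ups_zero, Subgroup.map_bot]; exact bot_le) (fun n => by
      rw [relIndex_map_map_of_injective _ _ N.subtype_injective, zero_add]; exact ups_idx hp n) n
  rwa [zero_add] at this

theorem PL_of_ker_odd (hp : p.Prime) (f : G →* G') {a k : ℕ} (hf : f.ker ≤ ups p G (2 * a + 1))
    (h : PLengthLE p k G') : PLengthLE p (a + k) G := by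
  have := comap_ups_le hp f (i := 1) (j := 2 * a + 1) (by simp [parity_simps]) (le_ups_succ hp (by
    have h1 := ups_idx (G := G) hp (2 * a)
    have h2 : pset p (2 * a) = {p}ᶜ := if_pos (even_two_mul a)
    rw [h2] at h1 ⊢
    refine (PiNat.relIndex_trans (ups_le_succ hp _) le_sup_right h1 ?_).of_dvd
      (relIndex_dvd_of_le _ le_sup_left)
    rw [relIndex_sup_right]
    refine PiNat.of_dvd ?_ (relIndex_dvd_of_le_left _ hf)
    rw [relIndex_ker, ups_one hp]
    exact ((isPi_p'core hp).of_le (map_comap_le _ _)).nat)) (2 * k)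
  rw [add_comm, show ups p G' (2 * k + 1) = ⊤ from h, comap_top] at this
  exact top_le_iff.1 (this.trans_eq (congrArg _ (by ring)))

theorem PL_ext (hp : p.Prime) (N : Subgroup G) [N.Normal] {a b : ℕ} (h1 : PLengthLE p a N)
    (h2 : PLengthLE p b (G ⧸ N)) : PLengthLE p (a + b) G := by
  refine PL_of_ker_odd hp (QuotientGroup.mk' N) ?_ h2
  have := map_ups_normal_le hp N (2 * a + 1)
  rwa [show ups p N (2 * a + 1) = ⊤ from h1, ← MonoidHom.range_eq_map, range_subtype,
    ← QuotientGroup.ker_mk' N] at this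

theorem PL_subgroup (hp : p.Prime) {k : ℕ} (h : PLengthLE p k G) (H : Subgroup G) :
    PLengthLE p k H := PL_comap hp H.subtype_injective h

theorem PL_quot (hp : p.Prime) {k : ℕ} (h : PLengthLE p k G) (N : Subgroup G) [N.Normal] :
    PLengthLE p k (G ⧸ N) := PL_map hp (QuotientGroup.mk'_surjective N) h

theorem PL_quot_pcore (hp : p.Prime) {k : ℕ} (hO : pPrimeCore p G = ⊥)
    (h : PLengthLE p (k + 1) G) : PLengthLE p k (G ⧸ pCore p G) := by
  have h1 : ups p G 2 = pCore p G := by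
    rw [ups_two hp, ← Opp_top hp, Opp_eq_of_core_eq_bot hp ((core_p'_top hp).trans hO), core_p_top hp]
  exact PL_map hp (f := (QuotientGroup.quotientMulEquivOfEq h1).toMonoidHom)
    (MulEquiv.surjective _) (PL_quot_two hp h)

theorem PL_one_of_isPGroup (hp : p.Prime) (h : IsPi {p} (⊤ : Subgroup G)) : PLengthLE p 1 G :=
  (PL1_top hp).1 (PL1_of_pi hp h)

section rep
variable {D : Subgroup G} {k W : Type*} [Field k] [AddCommGroup W] [Module k W]
  {ρ : Representation k D W} {Q B : Subgroup G} {q : ℕ} {z : G}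

theorem char_eq_of_quad {T X : End k W} {u : W} {a b c : k} (h2 : (2 : k) ≠ 0) (hu : u ≠ 0)
    (hX : X u ≠ 0) (h : ((X - 1) ^ 2 : End k W) u = 0) (h0 : T u = a • u) (h1 : T (X u) = b • X u)
    (h3 : T (X (X u)) = c • X (X u)) : a = b := by
  by_contra hab
  have h4 : X (X u) = (2 : k) • X u - u := by
    rw [sq, Module.End.mul_apply] at h
    simp only [LinearMap.sub_apply, Module.End.one_apply, map_sub] at h
    rw [two_smul, ← sub_eq_zero, ← h]; abel
  rw [h4, map_sub, map_smul, h0, h1] at h3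
  have h5 : (2 * (b - c)) • X u = (a - c) • u := by
    rw [← sub_eq_zero] at h3 ⊢
    rw [← h3]; module
  have h6 := congrArg T h5
  rw [map_smul, map_smul, h0, h1, smul_comm, h5, smul_smul, smul_smul, ← sub_eq_zero, ← sub_smul,
    smul_eq_zero] at h6
  have h7 : a = c := by
    by_contra h7
    have := h6.resolve_right hu
    exact mul_ne_zero (sub_ne_zero.2 (Ne.symm hab)) (sub_ne_zero.2 h7) (by linear_combination this)
  rw [h7, sub_self, zero_smul, smul_eq_zero] at h5
  exact mul_ne_zero h2 (sub_ne_zero.2 fun h => hab (h7.trans h.symm)) (h5.resolve_right hX)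

theorem quad_der [IsAlgClosed k] [FiniteDimensional k W] [hp : Fact p.Prime] [CharP k p]
    (h2 : p ≠ 2) (h : Crit q B (zpowers z) Q) (hB : IsPi {p} B) (hBz : B ≤ 𝓒₁(z)) (hQ : Q ≤ D)
    (hBD : B ≤ D) (ho : orderOf z = p) (hf : ¬ Q ≤ rker ρ) {C : Subgroup G} (hC : C ≤ B)
    (hz : z ∈ ⁅C, C⁆) (h1 : (rp ρ z - 1) ^ 2 = 0)
    (h3 : ∀ b ∈ C, (rp ρ z - 1) * (rp ρ b - 1) ^ 2 = 0) : False := by
  have hzB : z ∈ B := h.le (mem_zpowers z)
  have hzD := hBD hzB
  have hX : (♯(zpowers z)).Prime := by rw [Nat.card_zpowers, ho]; exact hp.out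
  have hcop : (♯Q).Coprime p := by have := h.cop; rwa [Nat.card_zpowers, ho] at this
  have hk : (♯Q : k) ≠ 0 := fun h1 => (isPi_compl_iff hp.out).1
    ((isPi_compl_iff_coprime hp.out).2 hcop) ((CharP.cast_eq_zero_iff k p _).1 h1)
  have hL : Q ⊔ zpowers z ≤ D := sup_le hQ (zpowers_le.2 hzD)
  obtain ⟨U, hU, hU0, hUF, hi⟩ := exists_irr_res_Fix (ρ := ρ) hL le_sup_left
    (sup_le le_normalizer (h.le.trans h.norm)) hk hf
  have hsc : ∀ c ∈ ⁅Q, Q⁆, ∃ s : k, ∀ u ∈ U, rp ρ c u = s • u := by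
    intro c hc
    have hcL : c ∈ Q ⊔ zpowers z := mem_sup_left (der_le Q hc)
    have hcc : c ∈ 𝓒(Q ⊔ zpowers z) :=
      le_cent_sup h.phi_le_cent h.phi_cent (h.phi_eq_der.ge hc)
    obtain ⟨s, hs⟩ := hi.schur (rp (res ρ hL U hU) c) fun y hy => by
      rw [← rp_mul _ hcL hy, ← rp_mul _ hy hcL, mem_cent.1 hcc y hy]
    exact ⟨s, fun u hu => by
      have := congrArg Subtype.val (LinearMap.congr_fun hs ⟨u, hu⟩)
      rwa [coe_rp_res hL hU hcL] at this⟩
  rcases hh_core' (n := 1) hQ hzD (h.norm hzB) (by rw [ho, pow_one]) hk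
    (fun e he h1 => by rw [← eq_zpowers_of_prime hX he h1, h.comm_eq])
    (by rw [h.class2]; exact bot_le) hU hU0 hUF (fun w _ => by rw [h1]; rfl) with
    h4 | ⟨m, Z, w, h4, h5, h6, h7, h8, h9, h10, h11, h12⟩
  · have := hp.out.two_le
    rw [pow_one] at h4; omega
  obtain rfl : m = 1 := by omega
  rw [pow_one] at h7 h8 h9
  rw [show p - 1 = 2 by simp at h9; omega] at h7
  obtain ⟨u, hu, hu0⟩ : ∃ u ∈ U, (rp ρ z - 1) u ≠ 0 := by
    by_contra h13
    push Not at h13
    have h14 : z ∈ rker (res ρ hL U hU) := (mem_rker_res hL hU).2 ⟨mem_sup_right (mem_zpowers z),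
      fun w hw => sub_eq_zero.1 (h13 w hw)⟩
    have h15 : Q ≤ rker (res ρ hL U hU) := h.comm_eq.ge.trans ((comm_mono le_rfl
      (zpowers_le.2 h14)).trans (comm_le_right (le_sup_left.trans (le_norm_rker _))))
    exact h11 ((Submodule.mem_bot k).1 (hUF.le ⟨h10, fun y hy =>
      ((mem_rker_res hL hU).1 (h15 hy)).2 w h10⟩))
  have hu' : (rp ρ z - 1) u ∈ U := sub_mem (hU z (mem_sup_right (mem_zpowers z)) u hu) hu
  have hn : B ≤ 𝓝(⁅Q, Q⁆) := h.norm.trans (norm_der Q)
  have hstab : ∀ b ∈ C, ∀ c ∈ ⁅Q, Q⁆, rp ρ (b⁻¹ * c * b) w = rp ρ c w := by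
    intro b hb c hc
    have hbD := hBD (hC hb)
    have hc1 := conj_mem_of_mem_norm' (hn (hC hb)) hc
    have hc2 := conj_mem_of_mem_norm' (hn (hC hb)) hc1
    obtain ⟨s0, hs0⟩ := hsc _ hc
    obtain ⟨s1, hs1⟩ := hsc _ hc1
    obtain ⟨s2, hs2⟩ := hsc _ hc2
    have hcD := hQ (der_le Q hc)
    have hcom : Commute (rp ρ b) (rp ρ z) := by
      show _ = _
      rw [← rp_mul _ hbD hzD, ← rp_mul _ hzD hbD, mem_cent1.1 (hBz (hC hb))]
    rw [hs0 w h10, hs1 w h10, char_eq_of_quad (T := rp ρ c) (X := rp ρ b) (c := s2)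
      (fun h => h2 ((Nat.prime_dvd_prime_iff_eq hp.out Nat.prime_two).1
        ((CharP.cast_eq_zero_iff k p 2).1 (by exact_mod_cast h)))) hu0 (rp_ne_zero ρ hbD hu0) ?_
      (hs0 _ hu') ?_ ?_]
    · rw [← Module.End.mul_apply, (((hcom.sub_right (Commute.one_right _)).sub_left
        (Commute.one_left _)).pow_left 2).eq, h3 b hb]; rfl
    · rw [rp_conj_apply ρ hbD hcD, hs1 _ hu', map_smul]
    · rw [rp_conj_apply ρ hbD hcD, rp_conj_apply ρ hbD (hQ (der_le Q hc1)), hs2 _ hu', map_smul,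
        map_smul]
  have hCZ : C ≤ 𝓝(Z) := fun b hb => mem_norm_of_cj_le (by
    rintro _ ⟨g, hg, rfl⟩
    have hbQ := h.norm (hC hb)
    have hg' : b * g * b⁻¹ ∈ Q := conj_mem_of_mem_norm hbQ (h6 hg)
    refine (h12 _ hg').2 fun y hy => ?_
    rw [← hstab b hb _ (commutator_mem_commutator hy hg'),
      show b⁻¹ * ⁅y, b * g * b⁻¹⁆ * b = ⁅b⁻¹ * y * b, g⁆ by simp only [commutatorElement_def]; group]
    exact (h12 g (h6 hg)).1 hg _ (conj_mem_of_mem_norm' hbQ hy))
  have hdZ : ⁅Q, Q⁆ ≤ Z := fun c hc => (h12 c (der_le Q hc)).2 fun y hy => by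
    rw [commutatorElement_eq_one_iff_mul_comm.2
      (mem_cent.1 (h.phi_le_cent (h.phi_eq_der.ge hc)) y hy), rp_one]; rfl
  have hQZ := norm_of_der_le hdZ h6
  have hq : q = 2 := ((h.pi.relIndex Z) 2 Nat.prime_two (by rw [h7]; decide)).symm
  have hE : El 2 2 (Q /ᵍ Z) := ⟨(elem_quo_iff hQZ).2 ⟨hdZ, fun x hx =>
    hdZ (h.phi_eq_der.le (hq ▸ pow_mem_Phi h.prime h.pi hx))⟩, by rw [card_quo hQZ, h7]⟩
  have hC' : IsPi {2}ᶜ (C /ᵍ Z) := ((hB.of_le hC).mim _).ne h2
  have h13 := odd_p'_abelem2_comm Nat.prime_two hE (norm_quo Z (hC.trans h.norm))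
    (Nat.odd_iff.2 (Nat.two_dvd_ne_zero.1 ((isPi_compl_iff Nat.prime_two).1 hC'))) hC'
  rw [← quo_comm hCZ hCZ] at h13
  have h14 := comm_le_of_quo_cent ((der_le C).trans hCZ) hQZ h13
  have h15 : Q ≤ Z := h.comm_eq.ge.trans ((comm_symm _ _).le.trans
    ((comm_mono (zpowers_le.2 hz) le_rfl).trans h14))
  rw [relIndex_eq_one.2 h15] at h7
  omega

end rep

/-- The action of `G / O_p(G)` on the Frattini quotient of `O_p(G)`, over the algebraic closure. -/
noncomputable def kprep (G : Type*) [Group G] [Finite G] (p : ℕ) [Fact p.Prime] :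
    Representation (Fb p) (⊤ : Subgroup (G ⧸ pCore p G)) (TensorProduct (ZMod p) (Fb p) (PV G p)) :=
  bc (Fb p) ((prep G p).comp (⊤ : Subgroup (G ⧸ pCore p G)).subtype)

theorem rp_kprep [Fact p.Prime] (x : G ⧸ pCore p G) :
    rp (kprep G p) x = Module.End.baseChangeHom (ZMod p) (Fb p) (PV G p) (prep G p x) := by
  rw [kprep, rp_bc _ (mem_top x), rp_of_mem _ (mem_top x)]; rfl

theorem rker_kprep [Fact p.Prime] (hs : IsPSolvable p G) (hO : pPrimeCore p G = ⊥) :
    rker (kprep G p) = ⊥ := by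
  refine eq_bot_iff.2 fun y hy => prep_injective hs hO (bcHom_injective (Fb p) ?_)
  rw [← rp_kprep, (mem_rker.1 hy).2, map_one, map_one]

theorem exists_crit_quot [hp : Fact p.Prime] (hs : IsPSolvable p G) (hO : pCore p G = ⊥)
    {B : Subgroup G} {z : G} (hB : IsPi {p} B) (hz : z ∈ B) (h1 : z ≠ 1)
    (hn : B ≤ 𝓝(zpowers z)) : ∃ q Q, Q ≤ pPrimeCore p G ∧ Crit q B (zpowers z) Q :=
  exists_crit (top_le_norm _ B) (zpowers_le.2 hz) hn ((isPi_p'core hp.out).coprime' hB)
    (Or.inl (hB.isSolvable hp.out)) fun h => h1 (mem_bot.1 ((hB.inf_eq_bot (isPi_p'core hp.out)).le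
      ⟨hz, cent_p'core hs hO (cent_symm h (mem_zpowers z))⟩))

theorem der_drop [hp : Fact p.Prime] (h2 : p ≠ 2) (hs : IsPSolvable p G) (hO : pPrimeCore p G = ⊥)
    {P : Subgroup G} (hP : IsPi {p} P) (hOP : pCore p G ≤ P) {k : ℕ} (h : der P (k + 1) = ⊥) :
    der P k ≤ pCore p G := by
  have hA : der P k ≤ 𝓒(der P k) := comm_eq_bot_iff.1 ((der_succ P k).symm.trans h)
  rcases k with _ | k
  · rw [der_zero] at hA ⊢
    exact (hA.trans (cent_anti hOP)).trans (centralizer_pCore_le hs hO)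
  by_contra h1
  set f := QuotientGroup.mk' (pCore p G)
  have hP' : IsPi {p} (P.map f) := hP.nat.of_dvd (card_map_dvd _ _)
  have h3 := hP'.meet_cent (hP'.of_le (der_le' _ (k + 1))) (le_normalizer.trans (norm_der' _ _))
    (by rwa [← map_der, Ne, Subgroup.map_eq_bot_iff, QuotientGroup.ker_mk'])
  obtain ⟨z, hz, ho⟩ := exists_orderOf_eq hp.out
    (((hP'.of_le (der_le' _ (k + 1))).inf_left _).dvd_card h3)
  have hz1 : z ≠ 1 := fun h => hp.out.one_lt.ne (by rw [← ho, h, orderOf_one])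
  have hzc : P.map f ≤ 𝓒₁(z) := le_cent1_iff.2 hz.2
  obtain ⟨q, Q, -, hQ⟩ := exists_crit_quot (psolv_quotient hs _) (pcore_quot hp.out) hP'
    (der_le' _ _ hz.1) hz1 (norm_of_cent (by rwa [cent_zpowers]))
  obtain ⟨a, ha, rfl⟩ := (map_der f P (k + 1)).ge hz.1
  have hcm : ∀ (g v : G), v ∈ pCore p G → ⁅g, v⁆ ∈ pCore p G := fun g v hv =>
    comm_le_right (top_le_norm _ ⊤) (commutator_mem_commutator (mem_top g) hv)
  have hl : ∀ j, ∀ g ∈ der P j, ∀ v ∈ pCore p G, ⁅g, v⁆ ∈ der P j := fun j g hg v hv =>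
    comm_le_left (le_normalizer.trans (norm_der' P j)) (commutator_mem_commutator hg (hOP hv))
  have hfin : ∀ v (hv : v ∈ pCore p G), v ∈ der P (k + 1) → (prep G p (f a) - 1) (pv v hv) = 0 :=
    fun v hv hv' => (prep_sub_pv a hv (hcm a v hv)).trans (pv_eq_zero.2 (by
      rw [commutatorElement_eq_one_iff_mul_comm.2 (mem_cent.1 (hA hv') a ha)]; exact one_mem _))
  refine quad_der (ρ := kprep G p) h2 hQ hP' hzc le_top le_top ho
    (by rw [rker_kprep hs hO, le_bot_iff]; exact hQ.ne_bot) (der_le' _ k)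
    (by rw [← der_succ]; exact hz.1) ?_ fun b hb => ?_
  · suffices h : (prep G p (f a) - 1) ^ 2 = 0 by
      have := congrArg (Module.End.baseChangeHom (ZMod p) (Fb p) (PV G p)) h
      rwa [map_pow, map_sub, map_one, map_zero, ← rp_kprep] at this
    refine LinearMap.ext fun w => ?_
    obtain ⟨v, hv, rfl⟩ := pv_surj w
    rw [sq, Module.End.mul_apply]
    exact (congrArg _ (prep_sub_pv a hv (hcm a v hv))).trans (hfin _ _ (hl _ a ha v hv))
  · obtain ⟨b, hb', rfl⟩ := (map_der f P k).ge hb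
    suffices h : (prep G p (f a) - 1) * (prep G p (f b) - 1) ^ 2 = 0 by
      have := congrArg (Module.End.baseChangeHom (ZMod p) (Fb p) (PV G p)) h
      rwa [map_mul, map_pow, map_sub, map_sub, map_one, map_zero, ← rp_kprep, ← rp_kprep] at this
    refine LinearMap.ext fun w => ?_
    obtain ⟨v, hv, rfl⟩ := pv_surj w
    rw [sq, Module.End.mul_apply, Module.End.mul_apply]
    refine (congrArg _ ((congrArg _ (prep_sub_pv b hv (hcm b v hv))).trans
      (prep_sub_pv b _ (hcm b _ (hcm b v hv))))).trans (hfin _ _ ?_)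
    rw [der_succ]
    exact commutator_mem_commutator hb' (hl _ b hb' v hv)

end CA.HH
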