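import Cfsg.Agent.Lib.Solv.HH4
import Cfsg.Agent.Lib.Grp.NPC2
import Cfsg.Agent.Lib.Fus.FusS4

/-!
Cyclic normal subgroups of Sylow subgroups of `p`-soluble groups, and wreath sections.
-/

set_option autoImplicit false
set_option linter.unusedSectionVars false
set_option linter.unusedVariables false
set_option linter.style.haveILetI false

namespace CA.HH
open Subgroup Cfsg CA.OQuo CA.BG CA.BGRep Module CA.H12PSolv
open scoped commutatorElement

universe u

variable {G : Type*} [Group G] [Finite G] {p : ℕ}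

/-- The action of `G / O_p(G)` on the Frattini quotient of `O_p(G)`, on the subgroup `⊤`. -/
noncomputable def tprep (G : Type*) [Group G] [Finite G] (p : ℕ) [Fact p.Prime] :
    Representation (ZMod p) (⊤ : Subgroup (G ⧸ pCore p G)) (PV G p) :=
  (prep G p).comp (⊤ : Subgroup (G ⧸ pCore p G)).subtype

theorem rp_tprep [Fact p.Prime] (x : G ⧸ pCore p G) : rp (tprep G p) x = prep G p x := by
  rw [tprep, rp_of_mem _ (mem_top x)]; rfl

theorem rker_tprep [Fact p.Prime] (hs : IsPSolvable p G) (hO : pPrimeCore p G = ⊥) :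
    rker (tprep G p) = ⊥ := by
  refine eq_bot_iff.2 fun y hy => prep_injective hs hO ?_
  rw [← rp_tprep, (mem_rker.1 hy).2, map_one]

theorem pv_zpow [Fact p.Prime] {v : G} (hv : v ∈ pCore p G) (n : ℤ) :
    pv (v ^ n) (zpow_mem hv n) = n • pv v hv := by
  refine EV.ext' ?_
  change ((v ^ n : G) : G ⧸ Phi (pCore p G)) = _
  rw [QuotientGroup.mk_zpow]
  rfl

theorem transv [hp : Fact p.Prime] {A : Subgroup G} (hA : IsCyclic A) (hAp : IsPi {p} A)
    (hn : pCore p G ≤ 𝓝(A)) (h : ¬ A ≤ pCore p G) :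
    ∃ (a : G) (ha : a ^ p ∈ pCore p G), orderOf (a : G ⧸ pCore p G) = p ∧
      ∀ w, ∃ n : ℤ, (prep G p (a : G ⧸ pCore p G) - 1) w = n • pv _ ha := by
  have h1 : IsPi {p} (A.map (QuotientGroup.mk' (pCore p G))) := hAp.nat.of_dvd (card_map_dvd _ _)
  obtain ⟨_, ⟨a, ha, rfl⟩, ho⟩ := exists_orderOf_eq hp.out (h1.dvd_card (by
    rwa [Ne, Subgroup.map_eq_bot_iff, QuotientGroup.ker_mk']))
  have hm : ∀ n : ℤ, a ^ n ∈ pCore p G ↔ (p : ℤ) ∣ n := fun n => by
    have := orderOf_dvd_iff_zpow_eq_one (x := QuotientGroup.mk' (pCore p G) a) (i := n)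
    rw [ho, ← map_zpow] at this
    exact (this.trans (QuotientGroup.eq_one_iff (N := pCore p G) _)).symm
  have hap : a ^ p ∈ pCore p G := zpow_natCast a p ▸ (hm p).2 dvd_rfl
  refine ⟨a, hap, ho, fun w => ?_⟩
  obtain ⟨v, hv, rfl⟩ := pv_surj w
  have h2 : ⁅a, v⁆ ∈ pCore p G :=
    comm_le_right (top_le_norm _ ⊤) (commutator_mem_commutator (mem_top a) hv)
  have h3 : ⁅a, v⁆ ∈ A := comm_le_left hn (commutator_mem_commutator ha hv)
  rw [prep_sub_pv a hv h2]
  rcases NPC2.le_total_of_isCyclic (hAp.isPGroup hp.out) hA (zpowers_le.2 h3) (zpowers_le.2 ha) with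
    h4 | h4
  · obtain ⟨n, hn⟩ := h4 (mem_zpowers _)
    obtain ⟨m, rfl⟩ := (hm n).1 (by rw [show a ^ n = ⁅a, v⁆ from hn]; exact h2)
    refine ⟨m, ?_⟩
    rw [← pv_zpow]
    congr 1
    rw [← show a ^ ((p : ℤ) * m) = ⁅a, v⁆ from hn, zpow_mul, zpow_natCast]
  · have := (hm 1).1 (by rw [zpow_one]; exact zpowers_le.2 h2 (h4 (mem_zpowers a)))
    exact absurd (Int.natCast_dvd_natCast.1 this) hp.out.not_dvd_one

theorem cyc_le_odd [hp : Fact p.Prime] (h2 : p ≠ 2) (hs : IsPSolvable p G) (hO : pPrimeCore p G = ⊥)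
    {A : Subgroup G} (hA : IsCyclic A) (hAp : IsPi {p} A) (hn : pCore p G ≤ 𝓝(A)) :
    A ≤ pCore p G := by
  by_contra h
  obtain ⟨a, ha, ho, hw⟩ := transv hA hAp hn h
  have h3 : (prep G p (a : G ⧸ pCore p G) - 1) (pv _ ha) = 0 := by
    have h0 : ⁅a, a ^ p⁆ = 1 := commutatorElement_eq_one_iff_commute.2 (Commute.self_pow a p)
    rw [prep_sub_pv a ha (h0 ▸ one_mem _), pv_eq_zero, h0]; exact one_mem _
  have hq : (prep G p (a : G ⧸ pCore p G) - 1) ^ 2 = 0 := LinearMap.ext fun w => by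
    obtain ⟨n, hn⟩ := hw w
    rw [sq, Module.End.mul_apply, hn, map_zsmul, h3, smul_zero]; rfl
  have hfix : ∀ z ∈ 𝓒₁((a : G ⧸ pCore p G)), prep G p z (pv _ ha) = pv _ ha := by
    intro z hz
    obtain ⟨z, rfl⟩ := QuotientGroup.mk_surjective z
    have h4 : z * a * z⁻¹ * a⁻¹ ∈ pCore p G := by
      rw [← QuotientGroup.eq_one_iff]
      simp [mem_cent1.1 hz]
    have h5 := mk_mul_pow a h4 p
    have h6 := geom_sum_char (p := p) (prep G p (a : G ⧸ pCore p G)) 1
    obtain ⟨m, hm⟩ : ∃ m, p - 1 = m + 2 := ⟨p - 3, by have := hp.out.two_le; omega⟩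
    rw [pow_one, hm, pow_add, hq, mul_zero] at h6
    rw [h6, inv_mul_cancel_right, conj_pow] at h5
    rw [prep_pv]
    exact EV.ext' (h5.trans (one_mul _))
  have hx1 : (a : G ⧸ pCore p G) ≠ 1 := fun h => hp.out.one_lt.ne (by rw [← ho, h, orderOf_one])
  have hX : IsPi {p} (zpowers (a : G ⧸ pCore p G)) :=
    isPi_of_card_eq hp.out (by rw [Nat.card_zpowers, ho])
  obtain ⟨q, Q, hQO, hQ⟩ := exists_crit_quot (psolv_quotient hs _) (pcore_quot hp.out) hX
    (mem_zpowers _) hx1 le_normalizer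
  have hQp : IsPi {p}ᶜ Q := (isPi_p'core hp.out).of_le hQO
  have hab : ⁅Q, Q⁆ = ⊥ := by
    by_contra h4
    have hK : ⁅Q, Q⁆ ≤ Q ⊔ zpowers (a : G ⧸ pCore p G) := (der_le Q).trans le_sup_left
    obtain ⟨U, hU, hU0, hUF, -⟩ := exists_irr_res_Fix (ρ := tprep G p) le_top hK
      ((sup_le le_normalizer hQ.norm).trans (norm_der Q))
      (fun h => (isPi_compl_iff hp.out).1 (hQp.of_le (der_le Q)) ((ZMod.natCast_eq_zero_iff _ _).1 h))
      (by rwa [rker_tprep hs hO, le_bot_iff])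
    have h5 : (a : G ⧸ pCore p G) ∈ rker (res _ le_top U hU) := (mem_rker_res le_top hU).2
      ⟨mem_sup_right (mem_zpowers _), fun w hw' => by
        rw [← sub_eq_zero]
        refine (Submodule.mem_bot (ZMod p)).1 (hUF.le
          ⟨sub_mem (hU _ (mem_sup_right (mem_zpowers _)) w hw') hw', fun y hy => ?_⟩)
        obtain ⟨n, hn⟩ := hw w
        rw [rp_tprep, rp_tprep, show prep G p a w - w = n • pv _ ha from hn, map_zsmul,
          hfix y (by rw [← cent_zpowers]; exact hQ.phi_cent (hQ.phi_eq_der.ge hy))]⟩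
    have h6 : Q ≤ rker (res _ le_top U hU) := hQ.comm_eq.ge.trans ((comm_mono le_rfl
      (zpowers_le.2 h5)).trans (comm_le_right (le_sup_left.trans (le_norm_rker _))))
    exact hU0 (eq_bot_iff.2 fun w hw => hUF.le ⟨hw, fun y hy =>
      ((mem_rker_res le_top hU).1 (h6 (der_le Q hy))).2 w hw⟩)
  rcases thmB_sub (ρ := tprep G p) (n := 0) (r := 2) le_top (mem_top _) (hQ.norm (mem_zpowers _)) hQp
    (by rw [rker_tprep hs hO, inf_bot_eq]) (by rw [ho, zero_add, pow_one])
    (by rw [pow_zero, pow_one]; exact fun h => hQ.nc (cent_symm (zpowers_le.2 h)))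
    (by rw [rp_tprep, hq]) with h4 | ⟨m, q, j, R, -, -, -, -, -, h5, -, h6, -⟩
  · have := hp.out.two_le
    rw [zero_add, pow_one] at h4; omega
  · exact h6 (comm_of_le (isMulCommutative_iff_le_centralizer.2 (comm_eq_bot_iff.1 hab)) h5)

theorem cyc_le_two (hs : IsPSolvable 2 G) (hO : pPrimeCore 2 G = ⊥)
    (h4 : ¬ Involves (Equiv.Perm (Fin 4)) G)
    {A : Subgroup G} (hA : IsCyclic A) (hAp : IsPi {2} A) (hn : pCore 2 G ≤ 𝓝(A)) :
    A ≤ pCore 2 G := by
  by_contra h
  obtain ⟨a, ha, ho, hw⟩ := transv hA hAp hn h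
  set x := (a : G ⧸ pCore 2 G) with hx
  set u := pv _ ha
  have h3 : (prep G 2 x - 1) u = 0 := by
    have h0 : ⁅a, a ^ 2⁆ = 1 := commutatorElement_eq_one_iff_commute.2 (Commute.self_pow a 2)
    rw [prep_sub_pv a ha (h0 ▸ one_mem _), pv_eq_zero, h0]; exact one_mem _
  have hx1 : x ≠ 1 := fun h => by rw [h, orderOf_one] at ho; omega
  have hX : IsPi {2} (zpowers x) := isPi_of_card_eq Nat.prime_two (by rw [Nat.card_zpowers, ho])
  have huu : ∀ w : PV G 2, w + w = 0 := fun w => by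
    rw [← two_smul (ZMod 2), show (2 : ZMod 2) = 0 from rfl, zero_smul]
  have hw' : ∀ w, (prep G 2 x - 1) w = 0 ∨ (prep G 2 x - 1) w = u := fun w => by
    obtain ⟨n, hn⟩ := hw w
    rw [hn]
    rcases Int.even_or_odd' n with ⟨m, rfl | rfl⟩
    · rw [two_mul, add_smul, huu]; exact Or.inl rfl
    · rw [add_smul, two_mul, add_smul, huu, zero_add, one_smul]; exact Or.inr rfl
  obtain ⟨y, hy, hxy⟩ : ∃ y ∈ pPrimeCore 2 (G ⧸ pCore 2 G), ⁅x, y⁆ ≠ 1 := by
    by_contra h5
    push Not at h5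
    exact hx1 (mem_bot.1 ((hX.inf_eq_bot (isPi_p'core Nat.prime_two)).le ⟨mem_zpowers x,
      cent_p'core (psolv_quotient hs _) (pcore_quot Nat.prime_two) fun y hy =>
        (commutatorElement_eq_one_iff_mul_comm.1 (h5 y hy)).symm⟩))
  obtain ⟨b, rfl⟩ := QuotientGroup.mk_surjective y
  set y := (b : G ⧸ pCore 2 G) with hy'
  have hxx : x⁻¹ = x := inv_eq_of_mul_eq_one_right (by rw [← sq, ← orderOf_dvd_iff_pow_eq_one, ho])
  set N := prep G 2 x - 1 with hN
  set N' := prep G 2 (y * x * y⁻¹) - 1 with hN'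
  have hY : ∀ w, N' (prep G 2 y w) = prep G 2 y (N w) := fun w => by
    simp only [hN, hN', LinearMap.sub_apply, map_sub, Module.End.one_apply,
      ← Module.End.mul_apply, ← map_mul, inv_mul_cancel_right, one_mul]
  have hw2 : ∀ w, N' w = 0 ∨ N' w = prep G 2 y u := fun w => by
    have : w = prep G 2 y (prep G 2 y⁻¹ w) := by
      rw [← Module.End.mul_apply, ← map_mul, mul_inv_cancel, map_one]; rfl
    rw [this, hY]
    exact (hw' _).imp (fun h => by rw [h, map_zero]) fun h => by rw [h]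
  have h5 : N' (prep G 2 y u) = 0 := by rw [hY, h3, map_zero]
  have hNN : N * N = 0 := LinearMap.ext fun w => by
    rcases hw' w with h | h
    · rw [Module.End.mul_apply, h, map_zero]; rfl
    · rw [Module.End.mul_apply, h, h3]; rfl
  have hNN' : N' * N' = 0 := LinearMap.ext fun w => by
    rcases hw2 w with h | h
    · rw [Module.End.mul_apply, h, map_zero]; rfl
    · rw [Module.End.mul_apply, h, h5]; rfl
  have hnil : (prep G 2 ⁅x, y⁆ - 1) ^ 3 ≠ 0 := fun h6 => by
    have h7 : ⁅x, y⁆ ∈ pPrimeCore 2 (G ⧸ pCore 2 G) :=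
      comm_le_right (top_le_norm _ ⊤) (commutator_mem_commutator (mem_top x) hy)
    refine hxy (prep_injective hs hO ((eq_one_of_nilp h6 (m := orderOf ⁅x, y⁆) (fun h8 => ?_)
      (by rw [← map_pow, pow_orderOf_eq_one, map_one])).trans (map_one _).symm))
    exact (isPi_compl_iff Nat.prime_two).1 (isPi_p'core Nat.prime_two)
      (((ZMod.natCast_eq_zero_iff _ _).1 h8).trans (orderOf_dvd_natCard _ h7))
  have hT : prep G 2 ⁅x, y⁆ - 1 = N + N' + N * N' := by
    rw [show ⁅x, y⁆ = x * (y * x * y⁻¹) by rw [commutatorElement_def, hxx]; group, map_mul, hN, hN']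
    noncomm_ring
  rw [hT] at hnil
  have h6 : N (prep G 2 y u) = u := (hw' _).resolve_left fun h6 => hnil (by
    have h7 : N * N' = 0 := LinearMap.ext fun w => by
      rcases hw2 w with h | h
      · rw [Module.End.mul_apply, h, map_zero]; rfl
      · rw [Module.End.mul_apply, h, h6]; rfl
    have h8 : (N + N') ^ 3 = (N * N + N * N' + N' * N') * (N + N') + N' * (N * N) + N' * (N * N') := by
      noncomm_ring
    rw [h7, add_zero, h8, h7, hNN, hNN']; simp)
  have h7 : N' u = prep G 2 y u := (hw2 _).resolve_left fun h6 => hnil (by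
    have h7 : N' * N = 0 := LinearMap.ext fun w => by
      rcases hw' w with h | h
      · rw [Module.End.mul_apply, h, map_zero]; rfl
      · rw [Module.End.mul_apply, h, h6]; rfl
    have h8 : (N + N' + N * N') ^ 2 = N * N' + N * N * (1 + N') + N' * N * (1 + N') + N' * N' +
      N * (N' * N) * (1 + N') + N * (N' * N') := by noncomm_ring
    have h9 : N * N' * (N + N' + N * N') = N * (N' * N) * (1 + N') + N * (N' * N') := by noncomm_ring
    rw [pow_succ, h8, h7, hNN, hNN']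
    simp only [zero_mul, mul_zero, add_zero]
    rw [h9, h7, hNN']; simp)
  have hu0 : u ≠ 0 := fun h8 => hx1 (prep_injective hs hO ((sub_eq_zero.1 (LinearMap.ext fun w =>
    (hw' w).elim id (·.trans h8))).trans (map_one _).symm))
  have hu1 : prep G 2 y u ≠ 0 := fun h8 => hu0 (by rw [← h6, h8, map_zero])
  have e1 : ∀ {T : End (ZMod 2) (PV G 2)} {v w : PV G 2}, (T - 1) v = w → T v = w + v :=
    fun h => sub_eq_iff_eq_add.1 h
  refine h4 (Fus.involves_of_surj _ (QuotientGroup.mk'_surjective (Phi (pCore 2 G)))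
    (Fus.involves_S4 (u := u.val) (y := (prep G 2 y u).val) (a := a) (b := (b * a * b⁻¹ : G))
    ?_ ?_ (mt EV.val_eq_one.1 hu0) (mt EV.val_eq_one.1 hu1) (fun h8 => ?_) ?_ ?_ ?_ ?_ ?_))
  · rw [← EV.val_add, huu, EV.val_zero]
  · rw [← EV.val_add, huu, EV.val_zero]
  · exact hu0 (by rw [← h6, ← EV.ext' h8, h3])
  · rw [← EV.val_add, add_comm, EV.val_add]
  · rw [← val_prep, e1 h3, zero_add]
  · rw [← val_prep, e1 h6, EV.val_add]
  · rw [← val_prep, ← EV.val_add, add_comm]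
    exact congrArg _ (e1 h7)
  · rw [← val_prep]
    exact congrArg _ ((e1 h5).trans (zero_add _))

theorem exists_chain {k W : Type*} [Field k] [AddCommGroup W] [Module k W] [FiniteDimensional k W]
    (N : End k W) (m : ℕ) : ∀ v : W, (N ^ (m + 1)) v = 0 → (N ^ m) v ≠ 0 → ∃ B : Submodule k W,
      v ∈ B ∧ (∀ w ∈ B, N w ∈ B) ∧ (∀ w ∈ B, (N ^ (m + 1)) w = 0) ∧ finrank k B = m + 1 ∧
      B ⊓ LinearMap.ker N = k ∙ (N ^ m) v := by
  induction m with
  | zero =>
    intro v h1 h2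
    rw [zero_add, pow_one] at h1
    have h3 : k ∙ v ≤ LinearMap.ker N := (Submodule.span_singleton_le_iff_mem _ _).2 h1
    refine ⟨k ∙ v, Submodule.mem_span_singleton_self v, fun w hw => ?_, fun w hw => ?_,
      finrank_span_singleton h2, inf_of_le_left h3⟩
    · rw [h3 hw]; exact zero_mem _
    · rw [zero_add, pow_one]; exact h3 hw
  | succ m ih =>
    intro v h1 h2
    obtain ⟨B, h3, h4, h5, h6, h7⟩ := ih (N v) (by rwa [← Module.End.mul_apply, ← pow_succ])
      (by rwa [← Module.End.mul_apply, ← pow_succ])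
    have hv : v ∉ B := fun h => h2 (h5 v h)
    refine ⟨B ⊔ k ∙ v, Submodule.mem_sup_right (Submodule.mem_span_singleton_self v),
      fun w hw => ?_, fun w hw => ?_, by rw [Submodule.finrank_sup_span_singleton hv, h6], ?_⟩
    · obtain ⟨b, hb, _, hc, rfl⟩ := Submodule.mem_sup.1 hw
      obtain ⟨c, rfl⟩ := Submodule.mem_span_singleton.1 hc
      rw [map_add, map_smul]
      exact Submodule.mem_sup_left (add_mem (h4 b hb) (B.smul_mem c h3))
    · obtain ⟨b, hb, _, hc, rfl⟩ := Submodule.mem_sup.1 hw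
      obtain ⟨c, rfl⟩ := Submodule.mem_span_singleton.1 hc
      rw [map_add, map_smul, h1, smul_zero, add_zero, pow_succ', Module.End.mul_apply, h5 b hb,
        map_zero]
    · rw [pow_succ, Module.End.mul_apply, ← h7]
      refine le_antisymm ?_ (inf_le_inf_right _ le_sup_left)
      rintro w ⟨hw, hw'⟩
      obtain ⟨b, hb, _, hc, rfl⟩ := Submodule.mem_sup.1 hw
      obtain ⟨c, rfl⟩ := Submodule.mem_span_singleton.1 hc
      have h8 : (N ^ (m + 1)) (b + c • v) = 0 := by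
        rw [pow_succ, Module.End.mul_apply, show N (b + c • v) = 0 from hw', map_zero]
      rw [map_add, h5 b hb, zero_add, map_smul, smul_eq_zero] at h8
      rw [h8.resolve_right h2, zero_smul, add_zero] at hw' ⊢
      exact ⟨hb, hw'⟩

/-- The abstract description of the wreath product `C_p ≀ C_p`. -/
def IsWr (p : ℕ) (W : Type*) [Group W] : Prop :=
  ∃ (B : Subgroup W) (t : W), B.Normal ∧ IsMulCommutative B ∧ (∀ b ∈ B, b ^ p = 1) ∧
    Nat.card B = p ^ p ∧ orderOf t = p ∧ t ∉ B ∧ Nat.card W = p ^ (p + 1) ∧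
    Nat.card ↥(B ⊓ Subgroup.centralizer ({t} : Set W)) = p

theorem involves_self (W : Type*) [Group W] : Involves W W :=
  ⟨⊤, ⊥, inferInstance, ⟨(QuotientGroup.quotientMulEquivOfEq (bot_subgroupOf _)).trans
    (QuotientGroup.quotientBot.trans topEquiv)⟩⟩

theorem exists_wr_of [hp : Fact p.Prime] {B : Subgroup G} {t : G} (hB : IsElementaryAbelian p B)
    (hn : t ∈ 𝓝(B)) (h1 : ♯B = p ^ p) (h2 : orderOf t = p) (h3 : t ∉ B) (h4 : ♯(B ⊓ 𝓒₁(t)) = p) :
    ∃ (W : Type) (_ : Group W) (_ : Finite W), IsWr p W ∧ Involves W ↥(B ⊔ zpowers t) := by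
  set L := B ⊔ zpowers t
  let e : Shrink.{0} L ≃* L := Shrink.mulEquiv
  let f : Shrink.{0} L →* G := L.subtype.comp e.toMonoidHom
  have hf : Function.Injective f := L.subtype_injective.comp e.injective
  have hr : f.range = L := by
    rw [MonoidHom.range_comp, MonoidHom.range_eq_top.2 e.surjective, ← MonoidHom.range_eq_map,
      range_subtype]
  have hc : ∀ K ≤ L, ♯(K.comap f) = ♯K := fun K hK => by
    rw [← card_map_of_injective hf, map_comap_eq_self (hK.trans hr.ge)]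
  obtain ⟨s, hs⟩ : t ∈ f.range := hr.ge (mem_sup_right (mem_zpowers t))
  refine ⟨Shrink.{0} L, inferInstance, inferInstance, ⟨B.comap f, s, ⟨fun x hx g => ?_⟩, ?_,
    fun b hb => hf ?_, (hc B le_sup_left).trans h1, (orderOf_injective f hf s).symm.trans (hs ▸ h2), fun h => h3 (hs ▸ h),
    ?_, ?_⟩, Fus.involves_of_inj e.toMonoidHom e.injective (involves_self _)⟩
  · rw [mem_comap, map_mul, map_mul, map_inv]
    exact conj_mem_of_mem_norm (sup_le le_normalizer (zpowers_le.2 hn) (hr.le ⟨g, rfl⟩)) hx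
  · haveI := hB.1
    exact comap_injective_isMulCommutative B hf
  · rw [map_pow, map_one]; exact hB.2 _ hb
  · have h5 : (♯(zpowers t)).Prime := by rw [Nat.card_zpowers, h2]; exact hp.out
    rw [Nat.card_congr e.toEquiv, pow_succ, ← h1, show L = _ from sup_comm _ _, ← h2, ← Nat.card_zpowers, mul_comm]
    exact card_sup_of_disjoint (zpowers_le.2 hn) (inf_eq_bot_of_prime_not_le h5 (mt zpowers_le.1 h3))
  · rw [← h4, ← hc _ (inf_le_left.trans le_sup_left), comap_inf]
    refine congrArg (fun K => ♯(B.comap f ⊓ K)) (Subgroup.ext fun y => ?_)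
    rw [mem_comap, mem_cent1, mem_cent1, ← hs, ← map_mul, ← map_mul, hf.eq_iff]

section esub
variable [hp : Fact p.Prime] {V : Subgroup G} {hV : IsElementaryAbelian p V}

/-- The subgroup corresponding to a subspace of an elementary abelian subgroup. -/
def esub (B : Submodule (ZMod p) (EV hV)) : Subgroup G where
  carrier := EV.val '' (B : Set (EV hV))
  mul_mem' := by
    rintro _ _ ⟨a, ha, rfl⟩ ⟨b, hb, rfl⟩
    exact ⟨a + b, add_mem ha hb, rfl⟩
  one_mem' := ⟨0, zero_mem B, rfl⟩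
  inv_mem' := by
    rintro _ ⟨a, ha, rfl⟩
    exact ⟨-a, neg_mem ha, rfl⟩

theorem val_mem_esub {B : Submodule (ZMod p) (EV hV)} {w : EV hV} : w.val ∈ esub B ↔ w ∈ B :=
  ⟨fun ⟨_, h, h1⟩ => EV.ext' h1 ▸ h, fun h => ⟨w, h, rfl⟩⟩

theorem esub_le (B : Submodule (ZMod p) (EV hV)) : esub B ≤ V := by
  rintro _ ⟨w, -, rfl⟩; exact w.val_mem

theorem card_esub (B : Submodule (ZMod p) (EV hV)) : ♯(esub B) = p ^ finrank (ZMod p) B := by
  have := Module.natCard_eq_pow_finrank (K := ZMod p) (V := B)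
  rw [Nat.card_zmod] at this
  rw [← this]
  exact Nat.card_image_of_injective (fun _ _ => EV.ext') _

theorem val_mul_pow {g : G} (hn : g ∈ 𝓝(V)) (w : EV hV) (m : ℕ) :
    (w.val * g) ^ m = ((∑ i ∈ Finset.range m, rp (erep hV) g ^ i) w).val * g ^ m := by
  induction m with
  | zero => simp [EV.val_zero]
  | succ m ih =>
    rw [pow_succ, ih, Finset.sum_range_succ, LinearMap.add_apply, EV.val_add, ← rp_pow _ hn,
      val_erep (pow_mem hn m), pow_succ]
    simp [mul_assoc]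

theorem exists_wr {R : Subgroup G} (hVR : V ≤ R) {g : G} (hg : g ∈ R) (hn : g ∈ 𝓝(V))
    (hgp : g ^ p ∈ V) (h : (rp (erep hV) g - 1) ^ (p - 1) ≠ 0) :
    ∃ (W : Type) (_ : Group W) (_ : Finite W), IsWr p W ∧ Involves W R := by
  have hVc : V ≤ 𝓒(V) := isMulCommutative_iff_le_centralizer.1 hV.1
  set N := rp (erep hV) g - 1 with hN
  have hm : p - 1 + 1 = p := Nat.succ_pred_prime hp.out
  have h1 : N ^ (p - 1 + 1) = 0 := by
    have := sub_one_pow_char (p := p) (rp (erep hV) g) 1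
    rw [pow_one, ← rp_pow _ hn, (mem_rker.1 (rker_erep.ge (hVc hgp))).2, sub_self] at this
    rwa [hm]
  obtain ⟨v, hv⟩ : ∃ v, (N ^ (p - 1)) v ≠ 0 := by
    by_contra h2
    push Not at h2
    exact h (LinearMap.ext h2)
  obtain ⟨B, hvB, hNB, -, hB, hBN⟩ := exists_chain N (p - 1) v (by rw [h1]; rfl) hv
  obtain ⟨u, hu⟩ : ∃ u : EV hV, (u.val * g) ^ p ∈ esub B → (u.val * g) ^ p = 1 := by
    by_cases h2 : g ^ p ∈ esub B
    · obtain ⟨c, hc, h3⟩ := h2
      obtain ⟨a, rfl⟩ := Submodule.mem_span_singleton.1 (hBN.le ⟨hc, sub_eq_zero.2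
        ((erep_eq_iff hn).2 (by rw [h3]; exact pow_mem (mem_cent1.2 rfl) p))⟩)
      refine ⟨-(a • v), fun _ => ?_⟩
      have h4 := geom_sum_char (p := p) (rp (erep hV) g) 1
      rw [pow_one] at h4
      rw [val_mul_pow hn, h4, ← h3, ← EV.val_add, map_neg, map_smul, neg_add_cancel, EV.val_zero]
    · exact ⟨0, fun h3 => absurd (by rwa [EV.val_zero, one_mul] at h3) h2⟩
  set t := u.val * g with ht
  have htn : t ∈ 𝓝(V) := mul_mem (le_normalizer u.val_mem) hn
  have hrt : rp (erep hV) t = rp (erep hV) g := by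
    rw [rp_mul _ (le_normalizer u.val_mem) hn, (mem_rker.1 (rker_erep.ge (hVc u.val_mem))).2, one_mul]
  have hNt : ∀ w, (N w).val = ⁅t, w.val⁆ := fun w => by rw [hN, ← hrt, val_erep_sub htn]
  have htp : t ^ p ∈ V := by rw [val_mul_pow hn]; exact mul_mem (EV.val_mem _) hgp
  have htV : t ∉ V := fun h2 => h (by
    rw [hN, ← hrt, (mem_rker.1 (rker_erep.ge (hVc h2))).2, sub_self]
    exact zero_pow (by have := hp.out.two_le; omega))
  set Z := zpowers (t ^ p)
  have hZV : Z ≤ V := zpowers_le.2 htp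
  have hBZ : esub B ⊓ Z = ⊥ := by
    by_cases h2 : t ^ p = 1
    · rw [show Z = ⊥ from zpowers_eq_bot.2 h2, inf_bot_eq]
    · rw [inf_comm]
      exact inf_eq_bot_of_prime_not_le (by
        rw [Nat.card_zpowers, orderOf_eq_prime (hV.2 _ htp) h2]; exact hp.out)
        fun h3 => h2 (hu (zpowers_le.1 h3))
  have hBn : esub B ≤ 𝓝(Z) := (esub_le B).trans (norm_of_cent (hVc.trans (cent_anti hZV)))
  have htZ : t ∈ 𝓝(Z) := norm_of_cent (A := zpowers t) (by
    rw [cent_zpowers]; exact zpowers_le.2 (mem_cent1.2 (Commute.self_pow t p))) (mem_zpowers t)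
  have hcB : ∀ y ∈ esub B, ⁅t, y⁆ ∈ esub B := by
    rintro _ ⟨w, hw, rfl⟩
    rw [← hNt, val_mem_esub]; exact hNB w hw
  have htB : t ∈ 𝓝(esub B) := mem_norm_of_cj_le (by
    rintro _ ⟨y, hy, rfl⟩
    have := mul_mem (hcB y hy) hy
    rwa [commutatorElement_def, inv_mul_cancel_right] at this)
  have hL : esub B ⊔ zpowers t ≤ 𝓝(Z) := sup_le hBn (zpowers_le.2 htZ)
  obtain ⟨W, _, _, hW, hI⟩ := exists_wr_of (p := p) (B := esub B /ᵍ Z) (t := mel (qh Z) t)
    ⟨isMulCommutative_mim _ (comm_of_le hV.1 (esub_le B)),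
      pow_eq_one_mim _ fun x hx => hV.2 x (esub_le B hx)⟩ (mel_mem_normalizer _ htZ htB)
    (by rw [card_quo_of_disjoint hBn hBZ, card_esub, hB, hm])
    (orderOf_eq_prime (by rw [← mel_pow _ htZ, qel_eq_one_iff (pow_mem htZ p)]; exact mem_zpowers _)
      fun h2 => htV (hZV ((qel_eq_one_iff htZ).1 h2)))
    (fun h2 => htV (sup_le (esub_le B) hZV ((qel_mem_quo_iff' htZ hBn).1 h2))) (by
      have h2 : esub B /ᵍ Z ⊓ 𝓒₁(mel (qh Z) t) = esub (B ⊓ LinearMap.ker N) /ᵍ Z := by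
        refine le_antisymm ?_ (le_inf (mim_mono _ (Set.image_mono inf_le_left)) ?_)
        · rintro y ⟨h3, h4⟩
          obtain ⟨_, ⟨w, hw, rfl⟩, rfl⟩ := (mem_mim_of_le hBn).1 h3
          have hw' := val_mem_esub.2 hw
          refine mel_mem_mim _ (val_mem_esub.2 ⟨hw, EV.val_eq_one.1 ?_⟩)
          rw [hNt]
          refine mem_bot.1 (hBZ.le ⟨hcB _ hw', (qel_eq_one_iff
            (commutatorElement_def t w.val ▸ mul_mem (mul_mem (mul_mem htZ (hBn hw')) (inv_mem htZ))
              (inv_mem (hBn hw')))).1 ?_⟩)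
          rw [mel_commutator _ htZ (hBn hw'), commutatorElement_eq_one_iff_mul_comm]
          exact (mem_cent1.1 h4).symm
        · intro y hy
          obtain ⟨_, ⟨w, hw, rfl⟩, h3, rfl⟩ := mem_mim.1 hy
          refine mel_mem_centralizer_singleton _ h3 htZ (mem_cent1.2 ?_)
          rw [eq_comm, ← commutatorElement_eq_one_iff_mul_comm, ← hNt, show N w = 0 from hw.2]; rfl
      have h3 : esub (B ⊓ LinearMap.ker N) ≤ esub B := Set.image_mono inf_le_left
      rw [h2, card_quo_of_disjoint (h3.trans hBn) (BG.eq_bot_mono (inf_le_inf_right _ h3) hBZ),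
        card_esub, hBN, finrank_span_singleton hv, pow_one])
  rw [← mim_zpowers _ htZ, ← mim_sup _ hBn (zpowers_le.2 htZ)] at hI
  exact ⟨W, _, ‹_›, hW, Fus.involves_of_inj (inclusion (sup_le ((esub_le B).trans hVR)
    (zpowers_le.2 (mul_mem (hVR u.val_mem) hg)))) (inclusion_injective _)
    (Fus.involves_of_surj _ (mres_surjective _ hL) hI)⟩

end esub

theorem not_dvd_of_wr_free [hp : Fact p.Prime] (hs : IsPSolvable p G) (hO : pPrimeCore p G = ⊥)
    (hx : ∀ (q j : ℕ) (Q : Subgroup G), q.Prime → 1 ≤ j → p - 1 = q ^ j → IsPi {q} Q →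
      IsMulCommutative Q)
    (h : ∀ R : Subgroup G, IsPi {p} R → ∀ (W : Type) [Group W] [Finite W], IsWr p W →
      ¬ Involves W R) : ¬ p ∣ Nat.card (G ⧸ pCore p G) := by
  intro h1
  obtain ⟨x, ho⟩ := exists_prime_orderOf_dvd_card' p h1
  obtain ⟨g, rfl⟩ := QuotientGroup.mk_surjective x
  have h2 : (prep G p (g : G ⧸ pCore p G) - 1) ^ (p - 1) ≠ 0 := fun h2 => by
    rcases thmB_PV (n := 0) hs hO (by rw [ho, zero_add, pow_one]) h2 with
      h3 | ⟨m, q, j, Q, h3, h4, h5, h6, h7, h8, h9, -⟩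
    · have := hp.out.two_le
      rw [zero_add, pow_one] at h3; omega
    · obtain rfl : m = 1 := by omega
      exact h9 (hx q j Q h5 h6 (by rwa [pow_one] at h7) h8)
  set R := (zpowers (g : G ⧸ pCore p G)).comap (QuotientGroup.mk' (pCore p G))
  have hR : IsPi {p} R := isPi_comap _ (by rw [QuotientGroup.ker_mk']; exact isPi_pcore hp.out)
    (isPi_of_card_eq hp.out (by rw [Nat.card_zpowers, ho]))
  obtain ⟨W, _, _, hW, hI⟩ := exists_wr (hV := elem_PV G p)
    (R := R.map (QuotientGroup.mk' (Phi (pCore p G)))) (map_mono (QuotientGroup.le_comap_mk' _ _))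
    (g := (g : G ⧸ Phi (pCore p G))) (mem_map_of_mem _ (mem_zpowers _)) (mem_norm_PV G p _)
    (mem_map_of_mem (QuotientGroup.mk' _) (x := g ^ p) ((QuotientGroup.eq_one_iff _).1 (by
      rw [QuotientGroup.mk_pow, ← orderOf_dvd_iff_pow_eq_one, ho])))
    (by rwa [show rp (erep (elem_PV G p)) (g : G ⧸ Phi (pCore p G)) = prep G p g from
      LinearMap.ext fun w => EV.ext' ((val_erep (mem_norm_PV G p _) w).trans (val_prep g w).symm)])
  exact h R hR W hW (Fus.involves_of_surj _ (MonoidHom.subgroupMap_surjective _ R) hI)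

end CA.HH
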