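import Cfsg.Agent.Lib.Grp.H7Cls
import Cfsg.Agent.Lib.Grp.Hyperfocal
import Cfsg.Agent.Lib.Odd.BGMisc

/-!
Groups with many conjugacy classes of `π`-elements.
-/

set_option autoImplicit false
set_option linter.unusedSectionVars false
set_option linter.unusedVariables false
set_option linter.style.haveILetI false

namespace CA.KP
open Subgroup Cfsg CA.BG CA.H7Cls Finset

theorem sum_le {α β : Type*} [Fintype α] [Finite β] (f : α → β) (hf : Function.Surjective f)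
    (c : ℕ) (F F' : ℕ → ℕ) (h : ∀ n, 1 ≤ n → c + n * F n ≤ n * F' n) :
    c * Nat.card β + ∑ a, F (Nat.card {x // f x = f a}) ≤ ∑ a, F' (Nat.card {x // f x = f a}) := by
  classical
  haveI := Fintype.ofFinite β
  have key : ∀ F : ℕ → ℕ, ∑ a, F (Nat.card {x // f x = f a}) =
      ∑ b, Nat.card {x // f x = b} * F (Nat.card {x // f x = b}) := fun F => by
    rw [← sum_fiberwise univ f]
    refine sum_congr rfl fun b _ => ?_
    rw [sum_congr rfl fun a ha => by rw [(mem_filter.1 ha).2], sum_const, smul_eq_mul,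
      Nat.card_eq_fintype_card, Fintype.card_subtype]
  rw [key, key, Nat.card_eq_fintype_card, mul_comm, ← smul_eq_mul, ← card_univ, ← sum_const,
    ← sum_add_distrib]
  refine sum_le_sum fun b _ => h _ ?_
  obtain ⟨a, rfl⟩ := hf b
  haveI : Nonempty {x // f x = f a} := ⟨⟨a, rfl⟩⟩
  exact Nat.card_pos

variable {G : Type*} [Group G] [Finite G] {π : Set ℕ} {p q : ℕ} {H K : Subgroup G} {x y z t : G}

/-- `z` is the only one of its conjugates in `H` -/
def Iso (H : Subgroup G) (z : G) : Prop := z ∈ H ∧ ∀ g, g * z * g⁻¹ ∈ H → g * z * g⁻¹ = z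

/-- `x ∈ H` has three conjugates in `H` -/
def Tri (H : Subgroup G) (x : G) : Prop := x ∈ H ∧ ∃ a b : G, a * x * a⁻¹ ∈ H ∧ b * x * b⁻¹ ∈ H ∧
  a * x * a⁻¹ ≠ x ∧ b * x * b⁻¹ ≠ x ∧ a * x * a⁻¹ ≠ b * x * b⁻¹

theorem Iso.comm (h : Iso H z) (hx : x ∈ H) : x * z = z * x :=
  mul_inv_eq_iff_eq_mul.1 (h.2 x (mul_mem (mul_mem hx h.1) (inv_mem hx)))

theorem count (hH : IsPi π H) (hc : ∀ K, IsPi π K → ∃ g, cj g K ≤ H) :
    2 * kpi π G ≤ ♯H + Nat.card {z // Iso H z} ∧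
      6 * kpi π G + Nat.card {x // Tri H x} ≤ 3 * ♯H + 3 * Nat.card {z // Iso H z} := by
  classical
  haveI := Fintype.ofFinite H
  let f : H → {C : ConjClasses G // ∀ q : ℕ, q.Prime →
      (∃ g : G, ConjClasses.mk g = C ∧ q ∣ orderOf g) → q ∈ π} := fun x =>
    ⟨ConjClasses.mk x.1, (cls_iff π x.1).2 (hH.orderOf x.2)⟩
  have hf : Function.Surjective f := by
    rintro ⟨C, hC⟩
    obtain ⟨g, rfl⟩ := ConjClasses.mk_surjective C
    obtain ⟨c, h⟩ := hc _ (isPi_zpowers.2 ((cls_iff π g).1 hC))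
    exact ⟨⟨_, h (conj_mem_cj.2 (mem_zpowers g))⟩, Subtype.ext
      (ConjClasses.mk_eq_mk_iff_isConj.2 (isConj_iff.2 ⟨c, rfl⟩).symm)⟩
  have h0 : ∀ (a : H) (g : G) (h : g * a * g⁻¹ ∈ H), f ⟨_, h⟩ = f a := fun a g h =>
    Subtype.ext (ConjClasses.mk_eq_mk_iff_isConj.2 (isConj_iff.2 ⟨g, rfl⟩).symm)
  have h1 : ∑ a, (if Nat.card {x // f x = f a} = 1 then 1 else 0) ≤ Nat.card {z // Iso H z} := by
    rw [← card_filter, ← Fintype.card_subtype, ← Nat.card_eq_fintype_card]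
    refine Nat.card_le_card_of_injective (fun a => ⟨a.1.1, a.1.2, fun g hg => ?_⟩)
      fun a b h => Subtype.ext (Subtype.ext (congrArg (fun t : {z // Iso H z} => t.1) h))
    exact congrArg (fun t => t.1.1) ((Nat.card_eq_one_iff_unique.1 a.2).1.elim ⟨⟨_, hg⟩, h0 _ g hg⟩
      ⟨a.1, rfl⟩)
  have h2 : Nat.card {x // Tri H x} ≤ ∑ a, (if 3 ≤ Nat.card {x // f x = f a} then 1 else 0) := by
    rw [← card_filter, ← Fintype.card_subtype, ← Nat.card_eq_fintype_card]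
    refine Nat.card_le_card_of_injective (fun a => ⟨⟨a.1, a.2.1⟩, ?_⟩)
      fun a b h => Subtype.ext (congrArg (fun t => t.1.1) h)
    obtain ⟨x, hx, a, b, h1, h2, h3, h4, h5⟩ := a
    rw [Nat.card_eq_fintype_card]
    exact Fintype.two_lt_card_iff.2 ⟨⟨⟨_, h1⟩, h0 ⟨x, hx⟩ a h1⟩, ⟨⟨_, h2⟩, h0 ⟨x, hx⟩ b h2⟩,
      ⟨⟨x, hx⟩, rfl⟩, fun h => h5 (congrArg (fun t => t.1.1) h),
      fun h => h3 (congrArg (fun t => t.1.1) h), fun h => h4 (congrArg (fun t => t.1.1) h)⟩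
  have h3 := sum_le f hf 2 (fun _ => 0) (fun n => 1 + if n = 1 then 1 else 0) fun n hn => by
    split_ifs <;> omega
  have h4 := sum_le f hf 6 (fun n => if 3 ≤ n then 1 else 0)
    (fun n => 3 + 3 * if n = 1 then 1 else 0) fun n hn => by split_ifs <;> omega
  rw [sum_add_distrib, ← mul_sum] at h4
  rw [sum_add_distrib] at h3
  simp only [sum_const, card_univ, smul_eq_mul, ← Nat.card_eq_fintype_card] at h3 h4
  change 2 * kpi π G + _ ≤ _ at h3
  change 6 * kpi π G + _ ≤ _ at h4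
  omega

/-- every subgroup has a `π`-subgroup containing a conjugate of every `π`-subgroup -/
def DP (π : Set ℕ) (G : Type*) [Group G] : Prop :=
  ∀ C : Subgroup G, ∃ L, IsPi π L ∧ ∀ K ≤ C, IsPi π K → ∃ g ∈ C, cj g K ≤ L

theorem dp_single (hp : p.Prime) : DP {p} G := fun C =>
  let ⟨L, h⟩ := syl_exists hp C; ⟨L, h.pi, fun K h1 h2 => h.syl_conj_le hp h2 h1⟩

theorem dp_solv (h : Group.IsSolvable G) : DP π G := fun C =>
  let ⟨L, h⟩ := hall_exists π (inferInstance : Group.IsSolvable C)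
  ⟨L, h.pi, fun K h1 h2 => h.conj_le inferInstance h2 h1⟩

section
variable (hD : DP π G) (hH : IsPi π H) (hc : ∀ K, IsPi π K → ∃ g, cj g K ≤ H)
include hD hH hc

/-- the centralizer of an isolated element controls fusion -/
theorem Iso.control (hz : Iso H z) (hy : y ∈ H) {g : G} (h : g * y * g⁻¹ ∈ H) :
    ∃ c, c * z * c⁻¹ = z ∧ c * y * c⁻¹ = g * y * g⁻¹ := by
  obtain ⟨L, h1, h2⟩ := hD 𝓒₁(g * y * g⁻¹)
  have h0 : IsPi π (zpowers z) := hH.of_le (zpowers_le.2 hz.1)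
  obtain ⟨a, ha, h3⟩ := h2 _ (zpowers_le.2 (mem_cent1.2 (hz.comm h).symm)) h0
  obtain ⟨b, hb, h4⟩ := h2 _ ((cj_mono g (zpowers_le.2 (mem_cent1.2 (hz.comm hy).symm))).trans
    (cj_cent1 g y).le) (h0.cj g)
  obtain ⟨u, h5⟩ := hc L h1
  have h6 := hz.2 (u * a) (h5 (by
    simpa [mul_assoc] using (conj_mem_cj (g := u)).2 (h3 (conj_mem_cj.2 (mem_zpowers z)))))
  have h7 := hz.2 (u * b * g) (h5 (by
    simpa [mul_assoc] using (conj_mem_cj (g := u)).2 (h4 (conj_mem_cj.2 (conj_mem_cj.2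
      (mem_zpowers z))))))
  refine ⟨a⁻¹ * b * g, ?_, ?_⟩
  · calc _ = (u * a)⁻¹ * (u * b * g * z * (u * b * g)⁻¹) * (u * a) := by group
      _ = (u * a)⁻¹ * (u * a * z * (u * a)⁻¹) * (u * a) := by rw [h7, h6]
      _ = z := by group
  · calc _ = a⁻¹ * b * (g * y * g⁻¹) * (a⁻¹ * b)⁻¹ := by group
      _ = _ := by rw [mem_cent1.1 (mul_mem (inv_mem ha) hb), mul_inv_cancel_right]

theorem Iso.mul (hz : Iso H z) (hy : Iso H y) : Iso H (y * z) :=
  ⟨mul_mem hy.1 hz.1, fun g h => by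
    obtain ⟨c, h1, h2⟩ := hz.control hD hH hc (mul_mem hy.1 hz.1) h
    have h3 : c * (y * z) * c⁻¹ = c * y * c⁻¹ * z := by rw [← h1]; nth_rw 2 [← h1]; rw [h1]; group
    rw [← h2, h3] at h ⊢
    rw [hy.2 c ((mul_mem_cancel_right hz.1).1 h)]⟩

omit hD hH hc in
theorem Iso.inv (hz : Iso H z) : Iso H z⁻¹ := ⟨inv_mem hz.1, fun g h => by
  rw [← conj_inv] at h ⊢; rw [hz.2 g (inv_mem_iff.1 h)]⟩

theorem Tri.mul (hx : Tri H x) (hz : Iso H z) : Tri H (x * z) := by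
  obtain ⟨hx, a, b, h1, h2, h3, h4, h5⟩ := hx
  obtain ⟨c, h6, h7⟩ := hz.control hD hH hc hx h1
  obtain ⟨d, h8, h9⟩ := hz.control hD hH hc hx h2
  refine ⟨mul_mem hx hz.1, c, d, ?_⟩
  rw [← conj_mul, ← conj_mul, h6, h7, h8, h9]
  exact ⟨mul_mem h1 hz.1, mul_mem h2 hz.1, by simpa using h3, by simpa using h4, by simpa using h5⟩

theorem three (y : Fin 3 → G) (h1 : ∀ i, Tri H (y i))
    (h2 : ∀ i j, i < j → ¬ Iso H ((y i)⁻¹ * y j)) : 2 * kpi π G ≤ ♯H := by
  have h3 := (count hH hc).2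
  have h4 : Nat.card (Fin 3 × {z // Iso H z}) ≤ Nat.card {x // Tri H x} := by
    refine Nat.card_le_card_of_injective (fun a => ⟨y a.1 * a.2.1, (h1 _).mul hD hH hc a.2.2⟩) ?_
    have key : ∀ i j z z', Iso H z → Iso H z' → y i * z = y j * z' → ¬ i < j :=
      fun i j z z' hz hz' h hij => h2 i j hij (by
        rw [show (y i)⁻¹ * y j = z * z'⁻¹ by rw [eq_mul_inv_iff_mul_eq, mul_assoc, ← h]; group]
        exact hz'.inv.mul hD hH hc hz)
    rintro ⟨i, z⟩ ⟨j, z'⟩ h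
    have h : y i * z = y j * z' := congrArg Subtype.val h
    obtain rfl : i = j := le_antisymm (not_lt.1 (key _ _ _ _ z'.2 z.2 h.symm))
      (not_lt.1 (key _ _ _ _ z.2 z'.2 h))
    rw [Subtype.ext (mul_left_cancel h)]
  rw [Nat.card_prod, Nat.card_eq_fintype_card, Fintype.card_fin] at h4
  omega

omit hD hH hc in
theorem comm_of_sq (ho : Odd (orderOf y)) (h : y ^ 2 * t = t * y ^ 2) : y * t = t * y := by
  obtain ⟨k, hk⟩ := ho
  have := (Commute.pow_left h (k + 1)).eq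
  rwa [← pow_mul, show 2 * (k + 1) = orderOf y + 1 by omega, pow_succ, pow_orderOf_eq_one,
    one_mul] at this

omit hD hH hc in
theorem tri_of (ho : Odd (orderOf y)) (ht : ∀ i : ℕ, y ^ i * t * (y ^ i)⁻¹ ∈ H)
    (h : y * t ≠ t * y) : Tri H t := by
  refine ⟨by simpa using ht 0, y, y ^ 2, by simpa using ht 1, ht 2,
    fun e => h (mul_inv_eq_iff_eq_mul.1 e), fun e => h (comm_of_sq ho (mul_inv_eq_iff_eq_mul.1 e)),
    fun e => h ?_⟩
  calc y * t = y⁻¹ * (y ^ 2 * t * (y ^ 2)⁻¹) * y ^ 2 := by group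
    _ = t * y := by rw [← e]; group

/-- an element of odd order whose powers keep a coprime element inside `H` centralizes it -/
theorem comm_of_cop (hk : ♯H < 2 * kpi π G) (ho : Odd (orderOf y))
    (hcop : (orderOf t).Coprime (orderOf y)) (ht : ∀ i : ℕ, y ^ i * t * (y ^ i)⁻¹ ∈ H) :
    y * t = t * y := by
  by_contra h
  have key : ∀ (u w : G), (∀ i : ℕ, w ^ i * u * (w ^ i)⁻¹ ∈ H) → (orderOf u).Coprime (orderOf w) →
      Iso H (u⁻¹ * (w * u * w⁻¹)) → w * u = u * w := fun u w h1 h2 h3 => by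
    set z := u⁻¹ * (w * u * w⁻¹) with hz
    have hu : u ∈ H := by simpa using h1 0
    have h4 : w * u * w⁻¹ = u * z := by rw [hz]; group
    have h5 : w * z * w⁻¹ = z := h3.2 w (by
      convert mul_mem (inv_mem (h1 1)) (h1 2) using 1
      rw [hz]; group)
    have h6 : ∀ i : ℕ, w ^ i * u * (w ^ i)⁻¹ = u * z ^ i := fun i => by
      induction i with
      | zero => simp
      | succ i ih =>
        rw [show w ^ (i + 1) * u * (w ^ (i + 1))⁻¹ = w * (w ^ i * u * (w ^ i)⁻¹) * w⁻¹ by group, ih,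
          ← conj_mul, ← conj_pow, h4, h5, pow_succ', mul_assoc]
    have h7 : z ^ orderOf w = 1 := by simpa using (h6 (orderOf w)).symm
    have h8 : z ^ orderOf u = 1 := by
      have := congrArg (· ^ orderOf u) h4
      simpa [Commute.mul_pow (h3.comm hu)] using this.symm
    rw [← mul_inv_eq_iff_eq_mul, h4, (pow_eq_one_iff_of_coprime h2).1 ⟨h8, h7⟩, mul_one]
  have h0 : ∀ j i : ℕ, y ^ i * (y ^ j * t * (y ^ j)⁻¹) * (y ^ i)⁻¹ ∈ H := fun j i => by
    convert ht (i + j) using 1; group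
  have h1 : ∀ j : ℕ, y * (y ^ j * t * (y ^ j)⁻¹) ≠ y ^ j * t * (y ^ j)⁻¹ * y := fun j e => h (by
    calc y * t = (y ^ j)⁻¹ * (y * (y ^ j * t * (y ^ j)⁻¹)) * y ^ j := by group
      _ = t * y := by rw [e]; group)
  have h2 : ∀ j : ℕ, (orderOf (y ^ j * t * (y ^ j)⁻¹)).Coprime (orderOf y) := fun j => by
    rwa [← (MulAut.conj (y ^ j)).orderOf_eq t] at hcop
  refine hk.not_ge (three hD hH hc (fun j => y ^ j.1 * t * (y ^ j.1)⁻¹)
    (fun j => tri_of ho (h0 j) (h1 j)) fun i j hij h3 => ?_)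
  obtain ⟨d, hd, rfl | rfl⟩ : ∃ d, j.1 = d + i.1 ∧ (d = 1 ∨ d = 2) := ⟨j.1 - i.1, by omega, by omega⟩
  · exact h1 i (key _ y (h0 i) (h2 i) (by convert h3 using 2; rw [hd]; group))
  · refine h1 i (comm_of_sq ho (key _ (y ^ 2) (fun k => by rw [← pow_mul]; exact h0 i _)
      ((h2 i).coprime_dvd_right (orderOf_pow_dvd 2)) (by convert h3 using 2; rw [hd]; group)))

theorem comm_of_odd (hk : ♯H < 2 * kpi π G) (hK : K ≤ H) (ho : Odd ♯K) : IsMulCommutative K := by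
  refine PGBasic.isMulCommutative_iff.2 fun a ha b hb => by_contra fun h => ?_
  have h1 : ∀ y ∈ K, ∀ t ∈ K, y * t ≠ t * y → Tri H t := fun y hy t ht =>
    tri_of (ho.of_dvd_nat (orderOf_dvd_card_of_mem hy)) fun i =>
      hK (mul_mem (mul_mem (pow_mem hy i) ht) (inv_mem (pow_mem hy i)))
  refine hk.not_ge (three hD hH hc ![a, b, a * b] (fun i => ?_) fun i j hij h3 => h ?_)
  · fin_cases i
    exacts [h1 b hb a ha (Ne.symm h), h1 a ha b hb h, h1 a ha _ (mul_mem ha hb) fun e => h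
      (mul_left_cancel (e.trans (mul_assoc _ _ _)))]
  · have h4 := h3.comm (hK ha)
    have h5 := h3.comm (hK hb)
    fin_cases i <;> fin_cases j <;> simp at hij h4 h5
    · calc a * b = a * (a⁻¹ * b * a) := by rw [← h4]
        _ = b * a := by group
    · exact h4
    · calc a * b = b * (b⁻¹ * (a * b) * b) * b⁻¹ := by group
        _ = b * a := by rw [← h5]; group

end

open Classical in
theorem kpi_insert_le (s : Finset ℕ) (hs : ∀ q ∈ s, q.Prime) (p : ℕ) :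
    kpi (insert p s : Finset ℕ) G ≤ kpi {p} G * ∏ q ∈ s, q ^ (Nat.card G).factorization q := by
  haveI := Fintype.ofFinite G
  refine Nat.le_of_mul_le_mul_left ?_ (Nat.card_pos (α := G))
  rw [← mul_assoc, ← sum_cent, ← sum_cent, sum_mul]
  refine le_trans ?_ (sum_le_sum fun x _ => sum_finset_le s hs 𝓒₁(x))
  rw [sum_sigma']
  refine sum_le_of_injOn (fun g => ⟨constt {p} g, constt {p}ᶜ g⟩) ?_ ?_ ?_
  · intro a _ b _ h
    simp only [Sigma.mk.injEq, heq_eq_eq] at h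
    rw [← constt_mul_compl {p} a, h.1, h.2, constt_mul_compl]
  · intro x hx
    obtain ⟨g, hg, rfl⟩ := mem_image.1 hx
    simp only [mem_filter, mem_univ, true_and, mem_sigma] at hg ⊢
    refine ⟨constt_elt _ _, cent1_le_constt _ _ (constt_mem _ (mem_cent1_self g)), fun q hq hd => ?_⟩
    have h2 := hg q hq (hd.trans (orderOf_dvd_of_mem_zpowers (constt_mem_zpowers _ _)))
    rw [coe_insert] at h2
    exact h2.resolve_left (constt_elt {p}ᶜ g q hq hd)
  · exact fun g _ => card_le_of_le (le_inf (cent1_le_constt _ _) (cent1_le_constt _ _))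

theorem kpi_le (s : Finset ℕ) (hs : ∀ q ∈ s, q.Prime) (hp : p ∈ s) (P : Sylow p G) :
    kpi s G * ♯(P : Subgroup G) ≤ kpi {p} G * ∏ q ∈ s, q ^ (Nat.card G).factorization q := by
  haveI := Fact.mk (hs p hp)
  have := kpi_insert_le (G := G) (s.erase p) (fun q hq => hs q (mem_of_mem_erase hq)) p
  rw [insert_erase hp] at this
  rw [← prod_erase_mul _ _ hp, P.card_eq_multiplicity, ← mul_assoc]
  exact Nat.mul_le_mul_right _ this

theorem kpi_eq (π : Set ℕ) : Nat.card {c : ConjClasses G // ∀ x ∈ c.carrier, ∀ r : ℕ, r.Prime →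
    r ∣ orderOf x → r ∈ π} = kpi π G :=
  Nat.card_congr (Equiv.subtypeEquivRight fun c => ⟨fun h q hq ⟨g, h1, h2⟩ =>
    h g (ConjClasses.mem_carrier_iff_mk_eq.2 h1) q hq h2, fun h g h1 q hq h2 =>
    h q hq ⟨g, ConjClasses.mem_carrier_iff_mk_eq.1 h1, h2⟩⟩)

theorem kp_eq (hp : p.Prime) : Nat.card {c : ConjClasses G // ∀ x ∈ c.carrier,
    ∃ k : ℕ, orderOf x = p ^ k} = kpi {p} G := by
  rw [← kpi_eq]
  exact Nat.card_congr (Equiv.subtypeEquivRight fun c => forall₂_congr fun x _ =>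
    ⟨fun ⟨k, h⟩ => h ▸ piNat_pow hp k, fun h => PiNat.exists_pow hp h (orderOf_pos x).ne'⟩)

/-- `k_p(G) ≤ k(P)`, with equality for `p`-nilpotent groups -/
theorem kp_sylow [hp : Fact p.Prime] (P : Sylow p G) :
    kpi {p} G ≤ Nat.card (ConjClasses (P : Subgroup G)) ∧
      (HasNormalPComplement p G → kpi {p} G = Nat.card (ConjClasses (P : Subgroup G))) := by
  have hP := isPi_of_isPGroup hp.out P.isPGroup'
  let f : ConjClasses (P : Subgroup G) → {C : ConjClasses G // ∀ q : ℕ, q.Prime →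
      (∃ g : G, ConjClasses.mk g = C ∧ q ∣ orderOf g) → q ∈ ({p} : Set ℕ)} := fun c =>
    ⟨c.map (P : Subgroup G).subtype, by
      obtain ⟨x, rfl⟩ := ConjClasses.mk_surjective c
      exact (cls_iff _ x.1).2 (hP.orderOf x.2)⟩
  have hf : Function.Surjective f := by
    rintro ⟨C, hC⟩
    obtain ⟨g, rfl⟩ := ConjClasses.mk_surjective C
    obtain ⟨c, -, h⟩ := (syl_top hp.out P).syl_conj_le hp.out (isPi_zpowers.2 ((cls_iff _ g).1 hC)) le_top
    exact ⟨ConjClasses.mk ⟨_, h (conj_mem_cj.2 (mem_zpowers g))⟩, Subtype.ext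
      (ConjClasses.mk_eq_mk_iff_isConj.2 (isConj_iff.2 ⟨c, rfl⟩).symm)⟩
  refine ⟨Nat.card_le_card_of_surjective f hf, fun h => (Nat.card_eq_of_bijective f
    ⟨fun a b e => ?_, hf⟩).symm⟩
  obtain ⟨a, rfl⟩ := ConjClasses.mk_surjective a
  obtain ⟨b, rfl⟩ := ConjClasses.mk_surjective b
  obtain ⟨g, hg⟩ := isConj_iff.1 (ConjClasses.mk_eq_mk_iff_isConj.1 (congrArg Subtype.val e))
  obtain ⟨z, hz, h1⟩ := (Hyperfocal.hasNPC_iff_controls_fusion P).1 h a a.2 g (hg.symm ▸ b.2)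
  exact ConjClasses.mk_eq_mk_iff_isConj.2 (isConj_iff.2 ⟨⟨z, hz⟩, Subtype.ext (h1.trans hg)⟩)

theorem npc_two [Fact (Nat.Prime 2)] (P : Sylow 2 G) (h : ♯(P : Subgroup G) < 2 * kpi {2} G) :
    HasNormalPComplement 2 G := by
  have hP := syl_top Nat.prime_two P
  refine Hyperfocal.hasNPC_of_forall_le_sylow P fun Q hQ _ g hg hc t ht => ?_
  exact (comm_of_cop (dp_single Nat.prime_two) hP.pi (fun K hK => (hP.syl_conj_le Nat.prime_two hK
    le_top).imp fun _ => And.right) h (Nat.coprime_two_right.1 hc) ((hP.pi.orderOf (hQ ht)).coprime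
      ((piNat_compl_iff_coprime Nat.prime_two).2 hc))
    fun i => hQ (conj_mem_of_mem_norm (pow_mem hg i) ht)).symm

theorem norm_le_cent [hp : Fact p.Prime] (P : Sylow p G)
    (h : (p + 1) * ♯(P : Subgroup G) < 2 * p * kpi {p} G) :
    𝓝((P : Subgroup G)) ≤ 𝓒((P : Subgroup G)) := by
  have hP := syl_top hp.out P
  by_contra h1
  have h2 := (count hP.pi fun K hK => (hP.syl_conj_le hp.out hK le_top).imp fun _ => And.right).1
  set Z := (P : Subgroup G) ⊓ 𝓒(𝓝((P : Subgroup G)))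
  have h3 : Nat.card {z // Iso P z} ≤ ♯Z := Nat.card_le_card_of_injective
    (fun z => ⟨z.1, z.2.1, fun g hg => mul_inv_eq_iff_eq_mul.1
      (z.2.2 g (conj_mem_of_mem_norm hg z.2.1))⟩) fun a b h => Subtype.ext
        (congrArg (fun t : Z => t.1) h)
  have h4 := Nat.le_of_dvd (Nat.pos_of_ne_zero (relIndex_ne_zero' _ _))
    (PGBasic.dvd_relIndex_of_not_le (H := Z) P.isPGroup' fun h => h1 (cent_symm (h.trans inf_le_right)))
  have h5 := card_mul_relIndex (inf_le_left : Z ≤ P)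
  nlinarith

theorem exists_compl (h : ∀ p, p.Prime → p ∈ π → HasNormalPComplement p G) :
    Hall πᶜ 𝓞(πᶜ, (⊤ : Subgroup G)) ⊤ :=
  hall_core_of_hasPC fun p hp _ h1 => by
    haveI := Fact.mk hp
    exact (hasPC_iff hp).2 (PRes.hasNPC_top_iff.2 (h p hp (not_not.1 h1)))

theorem Hall.card_eq_prod (s : Finset ℕ) (hs : ∀ q ∈ s, q.Prime) (h : Hall s H ⊤) :
    ♯H = ∏ q ∈ s, q ^ (Nat.card G).factorization q := by
  have h0 := H.card_mul_index
  conv_lhs => rw [← Nat.prod_factorization_pow_eq_self (card_ne_zero' H)]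
  rw [Finsupp.prod_of_support_subset _ (s := s) (fun q hq => h.pi q
    (Nat.prime_of_mem_primeFactors hq) (Nat.dvd_of_mem_primeFactors hq)) _ fun _ _ => pow_zero _]
  refine prod_congr rfl fun q hq => ?_
  rw [← h0, Nat.factorization_mul (card_ne_zero' H) index_ne_zero_of_finite, Finsupp.add_apply,
    Nat.factorization_eq_zero_of_not_dvd (n := H.index) fun hd => h.idx q (hs q hq)
      (relIndex_top_right H ▸ hd) hq, add_zero]

end CA.KP
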