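import Cfsg.Agent.Lib.Odd.BGMisc
import Cfsg.Agent.Lib.Odd.BGCoprime
import Cfsg.Agent.Lib.Loc.H6NPC
import Cfsg.Agent.Lib.Grp.Frob2

/-!
Normal subgroups all of whose non-central elements have maximal centralizers.
-/

set_option autoImplicit false
set_option linter.unusedSectionVars false
set_option linter.unusedVariables false
set_option linter.style.haveILetI false

namespace CA.MaxC
open Subgroup Cfsg CA.BG CA.OQuo
open scoped commutatorElement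

variable {G : Type*} [Group G] [Finite G] {π : Set ℕ} {p q : ℕ} {H K L M N P V : Subgroup G}
  {x y : G}

/-- The Glauberman-Thompson theorem, ambient form. -/
theorem gt_amb (hp : p.Prime) (hp2 : p ≠ 2) (hP : Syl p P N)
    (h : Group.IsNilpotent (N ⊓ 𝓝(H6J.Z (H6J.J 0 P)) : Subgroup G)) : HasPC p N := by
  haveI := Fact.mk hp
  obtain ⟨S, hS⟩ := hP.exists_sylow hp
  have h1 : (S : Subgroup N) = P.subgroupOf N := by
    rw [← hS]; exact (comap_map_eq_self_of_injective N.subtype_injective _).symm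
  refine (hasPC_iff hp).2 (H6NPC.glauberman_thompson hp2 (dvd_zero p) (AmbSyl.sylIn_top S) ?_)
  have h2 := (H6J.J_le 0 P).trans hP.le
  rw [h1, H6J.J_subgroupOf hP.le, H6J.Z_subgroupOf h2,
    ← subgroupOf_normalizer_eq (inf_le_left.trans h2), ← inf_subgroupOf_left]
  exact (hasPC_iff hp).1 (hasPC_of_nil p (Group.nilpotent_of_mulEquiv
    (subgroupOfEquivOfLe inf_le_left).symm))

theorem exists_solv_normal [N.Normal] (hM : IsCoatom M) (hK : M ⊓ N ≠ ⊥)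
    (hnil : Group.IsNilpotent (M ⊓ N : Subgroup G))
    (h : IsMulCommutative (M ⊓ N : Subgroup G) ∨ Odd ♯(M ⊓ N)) :
    ∃ V ≤ N, V.Normal ∧ V ≠ ⊥ ∧ Group.IsSolvable V := by
  by_contra hV
  have hN : ∀ X ≤ N, X ≠ ⊥ → Group.IsSolvable X → M ≤ 𝓝(X) → N ⊓ 𝓝(X) = M ⊓ N :=
    fun X h1 h2 h3 h4 => by
      rw [(hM.le_iff.1 h4).resolve_left fun e => hV ⟨X, h1, normalizer_eq_top_iff.1 e, h2, h3⟩,
        inf_comm]
  set K := M ⊓ N with hKd
  have hMN : M ≤ 𝓝(N) := le_normalizer_of_normal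
  have hMK : M ≤ 𝓝(K) := norm_inf le_normalizer hMN
  have hs := solv_of_nil hnil
  have h1 : ∀ p, p.Prime → p ∣ ♯K → Syl p 𝓞({p}, K) N ∧ HasPC p N := fun p hp hd => by
    haveI := Fact.mk hp
    have h2 : Syl p 𝓞({p}, K) K := nil_hall_core _ hnil
    have h3 := h2.ne_bot hp rfl hd
    have h4 := hN _ (h2.le.trans inf_le_right) h3 (solv_of_le hs h2.le) (norm_core _ hMK)
    have h5 : Syl p 𝓞({p}, K) N := Hall.syl_of_norm hp (h4.symm ▸ h2)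
    refine ⟨h5, ?_⟩
    obtain h | h := h
    · exact burnside_hasPC hp h5 (h4.le.trans (cent_of_comm h le_rfl h2.le))
    · have h6 := (inf_le_left : H6J.Z _ ≤ _).trans (H6J.J_le 0 𝓞({p}, K))
      have h7 := h2.pi.isPGroup hp
      refine gt_amb hp (ne_two_of_odd h hd) h5 ?_
      rwa [hN _ (h6.trans h5.le) (H6J.Z_ne_bot (h7.to_le (H6J.J_le _ _)) (H6J.J_ne_bot (dvd_zero p)
        (h2.pi.dvd_card h3))) (solv_of_le hs (h6.trans h2.le)) ((norm_core _ hMK).trans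
          ((H6J.normalizer_le_normalizer_J _ _).trans (H6J.normalizer_le_normalizer_Z _)))]
  have h2 : Hall (primesOf K) K N := hall_of_forall_syl inf_le_right (fun p a b => ⟨a, b⟩)
    fun p hp a _ => ⟨_, (h1 p hp a.2).1, core_le _ _⟩
  have h3 : Hall (primesOf K)ᶜ 𝓞((primesOf K)ᶜ, N) N :=
    hall_core_of_hasPC fun p hp _ a => (h1 p hp (not_not.1 a).2).2
  set R := 𝓞((primesOf K)ᶜ, N)
  have h4 : K ⊓ R = ⊥ := h2.pi.inf_eq_bot h3.pi
  have h5 : R ≠ ⊥ := fun e => by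
    have := h2.sup_compl h3
    rw [e, sup_bot_eq] at this
    exact hV ⟨N, le_rfl, ‹_›, this ▸ hK, this ▸ hs⟩
  obtain ⟨r, hr, hd⟩ := exists_prime_dvd_card h5
  have hMR : M ≤ 𝓝(R) := norm_core _ hMN
  have hc : (♯R).Coprime ♯K := h3.pi.nat.coprime' h2.pi.nat
  obtain ⟨T, hT, h6⟩ := coprime_Sylow_exists hr (inf_le_left.trans hMR) hc (Or.inl hs)
  have h7 : M ≤ 𝓝(T) := fun m hm => by
    obtain ⟨x, hx, e⟩ := coprime_Sylow_trans hr (inf_le_left.trans hMR) hc (Or.inl hs) hT h6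
      (hT.cj_norm (hMR hm)) ((cj_of_mem_norm (hMK hm)).ge.trans (norm_cj m h6))
    have : x ∈ K ⊓ R := ⟨(hN K inf_le_right hK hs hMK).le ⟨h3.le hx.1, cent_le_norm _ hx.2⟩, hx.1⟩
    rw [h4, mem_bot] at this
    rw [this, cj_one] at e
    exact mem_norm_of_cj_le e.ge
  have h8 := hT.ne_bot hr rfl hd
  refine h8 (le_bot_iff.1 (h4 ▸ le_inf ?_ hT.le))
  rw [← hN T (hT.le.trans h3.le) h8 (hT.pi.isSolvable hr) h7]
  exact le_inf (hT.le.trans h3.le) le_normalizer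

theorem coatom_quo {Z : Subgroup G} [Z.Normal] (hM : IsCoatom M) (h : Z ≤ M) :
    IsCoatom (M /ᵍ Z) := by
  have h0 : ∀ K : Subgroup G, K ≤ 𝓝(Z) := fun K => le_normalizer_of_normal
  refine ⟨fun e => hM.1 (top_le_iff.1 ((quo_le_quo_iff (h0 _) (h0 _) h).1 (e ▸ le_top))), fun X hX => ?_⟩
  have := hM.2 (mpre (qh Z) X) (lt_of_le_of_ne ((mim_le_iff (h0 _)).1 hX.le) fun e =>
    hX.ne (by rw [e, quo_mpre]))
  rw [← quo_mpre X, this, eq_top_iff, ← quo_normalizer]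
  exact mim_mono _ le_top

theorem normal_of_top (h : ⊤ ≤ 𝓝(K)) : K.Normal := normalizer_eq_top_iff.1 (top_le_iff.1 h)

theorem exists_pow_prime {n : ℕ} (hn : n ≠ 0) : ∀ x : G, x ∉ H → x ^ n ∈ H →
    ∃ y ∈ zpowers x, y ∉ H ∧ ∃ p, p.Prime ∧ y ^ p ∈ H := by
  induction n using induction_on_primes with
  | zero => exact absurd rfl hn
  | one => exact fun x h1 h2 => absurd (by simpa using h2) h1
  | prime_mul p a hp ih =>
    intro x h1 h2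
    by_cases h : x ^ a ∈ H
    · exact ih (right_ne_zero_of_mul hn) x h1 h
    · exact ⟨_, npow_mem_zpowers x a, h, p, hp, by rwa [← pow_mul, mul_comm]⟩

theorem exists_pow_prime' (h : ¬ K ≤ H) : ∃ y ∈ K, y ∉ H ∧ ∃ p, p.Prime ∧ y ^ p ∈ H := by
  obtain ⟨x, h1, h2⟩ := SetLike.not_le_iff_exists.1 h
  obtain ⟨y, h3, h4⟩ := exists_pow_prime (orderOf_pos x).ne' x h2 (by simp)
  exact ⟨y, zpowers_le.2 h1 h3, h4⟩

variable [N.Normal] (h : ∀ x ∈ N, x ∉ 𝓒(N) → IsCoatom 𝓒₁(x))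
include h

theorem le_cent_of_cop (hx : x ∈ N) (h1 : x ∉ 𝓒(N)) (hy : y ∈ N) (h2 : PiElt π x)
    (h3 : PiElt πᶜ y) (hc : x ∈ 𝓒₁(y)) : 𝓒₁(x) ⊓ N ≤ 𝓒₁(y) := by
  by_cases h4 : y ∈ 𝓒(N)
  · exact inf_le_right.trans (le_cent1_iff.2 h4)
  have h5 := cent1_le_constt π (x * y)
  have h6 := cent1_le_constt πᶜ (x * y)
  rw [constt_mul_eq h2 h3 hc] at h5
  rw [constt_mul_eq' (by simpa using h2) h3 hc] at h6
  have h7 := h _ (mul_mem hx hy) fun a => h1 (le_cent1_iff.1 ((le_cent1_iff.2 a).trans h5))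
  rw [← (h7.le_iff.1 h5).resolve_left (h x hx h1).1] at h6
  exact inf_le_left.trans h6

theorem exists_solv (hna : ¬ N ≤ 𝓒(N)) :
    ∃ V ≤ N, V.Normal ∧ ¬ V ≤ 𝓒(N) ∧ Group.IsSolvable V := by
  haveI : (𝓩(N)).Normal := inferInstance
  have h0 : ∀ K : Subgroup G, K ≤ 𝓝(𝓩(N)) := fun K => le_normalizer_of_normal
  have hZ := solv_of_comm (comm_center N)
  by_cases h2 : PiNat {2} ((𝓩(N)).relIndex N)
  · exact ⟨N, le_rfl, ‹_›, hna, isSolvable_of_quo (h0 _) hZ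
      (((isPi_quo_iff (h0 _)).2 h2).isSolvable Nat.prime_two)⟩
  obtain ⟨q, hq, hd, h2⟩ : ∃ q, q.Prime ∧ q ∣ (𝓩(N)).relIndex N ∧ q ≠ 2 := by
    simpa [PiNat] using h2
  obtain ⟨Q, hQ⟩ := syl_exists hq N
  obtain ⟨x, h3, h4⟩ := SetLike.not_le_iff_exists.1 fun hle => hQ.le_of_idx hle q hq hd rfl
  have hx := hQ.le h3
  have h5 : x ∉ 𝓒(N) := fun a => h4 ⟨hx, a⟩
  have h6 : PiElt {q} x := hQ.pi.orderOf h3
  have hZM : 𝓩(N) ≤ 𝓒₁(x) := inf_le_right.trans (cent_le_cent1 hx)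
  haveI : (N /ᵍ 𝓩(N)).Normal := normal_of_top ((quo_normalizer _).ge.trans
    (norm_quo _ le_normalizer_of_normal))
  have key : IsMulCommutative (𝓒₁(x) ⊓ N : Subgroup G) ∨
      IsPi {q} ((𝓒₁(x) ⊓ N) /ᵍ 𝓩(N)) := by
    by_cases h7 : ∃ y ∈ 𝓒₁(x) ⊓ N, PiElt {q}ᶜ y ∧ y ∉ 𝓒(N)
    · obtain ⟨y, hy, h7, h8⟩ := h7
      have h9 := le_cent_of_cop h hx h5 hy.2 h6 h7 (mem_cent1_symm.1 hy.1)
      have h10 := le_cent_of_cop h hy.2 h8 hx h7 (by simpa using h6) hy.1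
      refine Or.inl (comm_iff_le_cent.2 fun k hk => ?_)
      rw [← constt_mul_compl {q} k]
      refine mul_mem (le_cent1_iff.1 ((le_inf h9 inf_le_right).trans (le_cent_of_cop h hy.2 h8
        (constt_mem _ hk.2) h7 (by simpa using constt_elt _ k)
        (mem_cent1_symm.1 (h9 (constt_mem _ hk)))))) (le_cent1_iff.1 (le_cent_of_cop h hx h5
        (constt_mem _ hk.2) h6 (constt_elt _ k) (mem_cent1_symm.1 (constt_mem _ hk.1))))
    · refine Or.inr ((isPi_quo_iff (h0 _)).2 fun r hr hd => by_contra fun h8 => ?_)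
      obtain ⟨R, hR⟩ := syl_exists hr (𝓒₁(x) ⊓ N)
      exact hR.le_of_idx (K := 𝓩(N)) (fun y hy => ⟨(hR.le hy).2, by_contra fun a => h7 ⟨y, hR.le hy,
        (hR.pi.orderOf hy).mono (Set.singleton_subset_iff.2 h8), a⟩⟩) r hr hd rfl
  obtain ⟨V, h7, h8, h9, h10⟩ := exists_solv_normal (N := N /ᵍ 𝓩(N)) (coatom_quo (h x hx h5) hZM)
    (by
      rw [← quo_inf_left _ (h0 _) hZM, Ne, quo_eq_bot_iff (h0 _)]
      exact fun a => h4 (a ⟨mem_cent1_self x, hx⟩))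
    (by
      rw [← quo_inf_left _ (h0 _) hZM]
      exact key.elim (fun a => nil_of_comm (isMulCommutative_mim _ a)) fun a => a.isNilpotent hq)
    (by
      rw [← quo_inf_left _ (h0 _) hZM]
      exact key.imp (isMulCommutative_mim _) fun a => Nat.odd_iff.2 (Nat.two_dvd_ne_zero.1
        fun b => h2 (a 2 Nat.prime_two b).symm))
  have h11 := qpre_le (h0 _) inf_le_left h7
  refine ⟨_, h11, normal_of_top (norm_qpre (h0 _) le_normalizer_of_normal), fun a => h9 ?_,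
    isSolvable_of_quo (h0 _) hZ (by rwa [quo_mpre])⟩
  rw [← quo_mpre V]
  exact quo_eq_bot_of_le (le_inf h11 a)

/-- A minimal non-central normal subgroup. -/
theorem exists_min (hna : ¬ N ≤ 𝓒(N)) : ∃ V ≤ N, V.Normal ∧ ¬ V ≤ 𝓒(N) ∧ ⁅V, V⁆ ≤ 𝓒(N) ∧
    ∀ W ≤ V, W.Normal → W = V ∨ W ≤ 𝓒(N) := by
  obtain ⟨U, h1, h2, h3, h4⟩ := exists_solv h hna
  obtain ⟨V, h5, ⟨h6, h7⟩, h8⟩ := exists_minimal_le (P := fun W : Subgroup G =>
    W.Normal ∧ ¬ W ≤ 𝓒(N)) ⟨h2, h3⟩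
  have h9 : ∀ W ≤ V, W.Normal → W = V ∨ W ≤ 𝓒(N) := fun W a b =>
    or_iff_not_imp_right.2 fun c => h8 W ⟨b, c⟩ a
  exact ⟨V, h5.trans h1, h6, h7, (h9 _ (der_le V) inferInstance).resolve_left
    (der_lt_of_solv (solv_of_le h4 h5) fun e => h7 (e ▸ bot_le)).ne, h9⟩

theorem eq_or_eq (hx : x ∈ N) (h1 : x ∉ 𝓒(N)) (h2 : 𝓒₁(x) ⊓ N ≤ L) (h3 : L ≤ N)
    (h4 : 𝓒₁(x) ≤ 𝓝(L)) : L ≤ 𝓒₁(x) ∨ L = N := by
  refine ((h x hx h1).le_iff.1 (le_sup_left : _ ≤ 𝓒₁(x) ⊔ L)).symm.imp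
    (fun e => le_sup_right.trans e.le) fun e => ?_
  have := sup_inf_of_le_right h4 h3
  rw [e, top_inf_eq] at this
  exact le_antisymm h3 (this.le.trans (sup_le h2 le_rfl))

section
variable [V.Normal] (hV : V ≤ N) (h1 : ¬ V ≤ 𝓒(N)) (h2 : ⁅V, V⁆ ≤ 𝓒(N))
  (hm : ∀ W ≤ V, W.Normal → W = V ∨ W ≤ 𝓒(N))
include hV h1 h2 hm

theorem sup_top (hy : y ∈ N) (h3 : y ∉ 𝓒(V)) : 𝓒₁(y) ⊔ V = ⊤ :=
  ((h y hy fun a => h3 (cent_anti hV a)).le_iff.1 le_sup_left).resolve_right fun e =>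
    h3 (le_cent1_iff.1 (le_sup_right.trans e.le))

theorem exists_mul (hy : y ∈ N) (h3 : y ∉ 𝓒(V)) (g : G) : ∃ c ∈ 𝓒₁(y), ∃ v ∈ V, c * v = g :=
  (mem_sup_norm le_normalizer_of_normal).1 (by rw [sup_top h hV h1 h2 hm hy h3]; trivial)

theorem inf_le (hy : y ∈ N) (h3 : y ∉ 𝓒(V)) : 𝓒₁(y) ⊓ V ≤ 𝓒(N) :=
  (hm _ inf_le_right (normal_of_top ((sup_top h hV h1 h2 hm hy h3).ge.trans (sup_le
    (norm_inf le_normalizer le_normalizer_of_normal) (norm_of_der_le (le_inf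
      (h2.trans (cent_le_cent1 hy)) (der_le V)) inf_le_right))))).resolve_left fun e =>
    h3 (le_cent1_iff.1 (e.ge.trans inf_le_left))

theorem abel : V ≤ 𝓒(V) := fun y hy => by_contra fun h3 =>
  h3 (cent_anti hV (inf_le h hV h1 h2 hm (hV hy) h3 ⟨mem_cent1_self y, hy⟩))

omit h h2 hm in
theorem closure_aux {T : Subgroup G} (hT : ∀ y ∈ N, y ∉ 𝓒(V) → y ∈ T) : N ≤ T := fun n hn => by
  obtain ⟨y, h3, h4⟩ := SetLike.not_le_iff_exists.1 fun a : N ≤ 𝓒(V) => h1 (cent_symm a)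
  by_cases h5 : n ∈ 𝓒(V)
  · exact (mul_mem_cancel_right (hT y h3 h4)).1 (hT _ (mul_mem hn h3) fun a =>
      h4 ((mul_mem_cancel_left h5).1 a))
  · exact hT n hn h5

theorem comm_top_le : ⁅N, ⊤⁆ ≤ V := by
  have h0 : ∀ K : Subgroup G, K ≤ 𝓝(V) := fun K => le_normalizer_of_normal
  rw [← mker_qh V, ← mim_le_centralizer_iff (h0 _) (h0 _), mim_le_iff (h0 _)]
  refine closure_aux hV h1 fun y hy h3 => zpowers_le.1 ?_
  rw [← mim_le_iff (h0 _), mim_le_centralizer_iff (h0 _) (h0 _), mker_qh, ← sup_top h hV h1 h2 hm hy h3,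
    comm_symm, sup_comm, comm_sup_cent_left (cent_zpowers y).ge (h0 _)]
  exact commutator_le_left _ _

theorem normal_of_le (h3 : V ≤ L) (h4 : L ≤ N) : L.Normal := normal_of_top (norm_of_comm_le_left
  ((commutator_mono h4 le_rfl).trans ((comm_top_le h hV h1 h2 hm).trans h3)))

theorem eq_of_lt (h3 : N ⊓ 𝓒(V) < L) (h4 : L ≤ N) : L = N := by
  obtain ⟨v, h5, h6⟩ := SetLike.not_le_iff_exists.1 h1
  have h7 : 𝓒₁(v) ⊓ N ≤ N ⊓ 𝓒(V) := fun y hy => ⟨hy.2, by_contra fun a =>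
    h6 (inf_le h hV h1 h2 hm hy.2 a ⟨mem_cent1_symm.1 hy.1, h5⟩)⟩
  haveI := normal_of_le h hV h1 h2 hm ((le_inf hV (abel h hV h1 h2 hm)).trans h3.le) h4
  exact (eq_or_eq h (hV h5) h6 (h7.trans h3.le) h4 le_normalizer_of_normal).resolve_left fun a =>
    h3.not_ge ((le_inf a h4).trans h7)

theorem sup_zpowers (hy : y ∈ N) (h3 : y ∉ 𝓒(V)) : N ⊓ 𝓒(V) ⊔ zpowers y = N :=
  eq_of_lt h hV h1 h2 hm (lt_of_le_of_ne le_sup_left fun e =>
    h3 (e.ge (mem_sup_right (mem_zpowers y))).2) (sup_le inf_le_left (zpowers_le.2 hy))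

theorem exists_exp : ∃ p, p.Prime ∧ ∀ v ∈ V, v ^ p ∈ 𝓒(N) := by
  obtain ⟨u, h3, h4, p, hp, h5⟩ := exists_pow_prime' h1
  have ha := abel h hV h1 h2 hm
  let W : Subgroup G :=
    { carrier := {v | v ∈ V ∧ v ^ p ∈ 𝓒(N)}
      one_mem' := ⟨one_mem _, by simp⟩
      mul_mem' := fun {a b} c d => ⟨mul_mem c.1 d.1, by
        rw [Commute.mul_pow (ha d.1 a c.1)]; exact mul_mem c.2 d.2⟩
      inv_mem' := fun {a} c => ⟨inv_mem c.1, by rw [inv_pow]; exact inv_mem c.2⟩ }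
  have h6 : W.Normal := ⟨fun a c g => ⟨‹V.Normal›.conj_mem a c.1 g, by
    rw [conj_pow]; exact (inferInstance : (𝓒(N)).Normal).conj_mem _ c.2 g⟩⟩
  exact ⟨p, hp, fun v hv => (((hm W (fun _ a => a.1) h6).resolve_right fun a =>
    h4 (a ⟨h3, h5⟩)).ge hv).2⟩

/-- The elementary abelian case. -/
theorem elem (h3 : ⁅V, N⁆ ≤ 𝓒(N)) : ∃ p, p.Prime ∧ ⁅N, N⁆ ≤ 𝓒(N) ∧ ∀ y ∈ N, y ^ p ∈ 𝓒(N) := by
  obtain ⟨p, hp, h4⟩ := exists_exp h hV h1 h2 hm
  have h0 : ∀ K : Subgroup G, K ≤ 𝓝(𝓒(N)) := fun K => le_normalizer_of_normal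
  have h5 : ⁅N, N⁆ ≤ 𝓒(N) := by
    rw [← mker_qh 𝓒(N), ← mim_le_centralizer_iff (h0 _) (h0 _), mim_le_iff (h0 _)]
    refine closure_aux hV h1 fun y hy h3' => zpowers_le.1 ?_
    rw [← mim_le_iff (h0 _), mim_le_centralizer_iff (h0 _) (h0 _), mker_qh]
    refine (commutator_mono le_rfl le_top).trans ?_
    rw [← sup_top h hV h1 h2 hm hy h3', comm_symm, sup_comm,
      comm_sup_cent_left (cent_zpowers y).ge le_normalizer_of_normal]
    exact (commutator_mono le_rfl (zpowers_le.2 hy)).trans h3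
  refine ⟨p, hp, h5, ?_⟩
  let T : Subgroup G :=
    { carrier := {v | v ∈ N ∧ v ^ p ∈ 𝓒(N)}
      one_mem' := ⟨one_mem _, by simp⟩
      mul_mem' := fun {a b} c d => ⟨mul_mem c.1 d.1, by
        rw [← qel_eq_one_iff (h0 _ (mem_top _)), mel_pow _ (h0 _ (mem_top _)),
          mel_mul _ (h0 _ (mem_top _)) (h0 _ (mem_top _)), Commute.mul_pow,
          ← mel_pow _ (h0 _ (mem_top _)), ← mel_pow _ (h0 _ (mem_top _)),
          (qel_eq_one_iff (h0 _ (mem_top _))).2 c.2, (qel_eq_one_iff (h0 _ (mem_top _))).2 d.2,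
          mul_one]
        rw [← commutatorElement_eq_one_iff_commute, ← mel_commutator _ (h0 _ (mem_top _))
          (h0 _ (mem_top _)), qel_eq_one_iff (h0 _ (mem_top _))]
        exact h5 (commutator_mem_commutator c.1 d.1)⟩
      inv_mem' := fun {a} c => ⟨inv_mem c.1, by rw [inv_pow]; exact inv_mem c.2⟩ }
  refine fun y hy => (closure_aux (T := T) hV h1 (fun y hy h6 => ⟨hy, fun n _ => ?_⟩) hy).2
  obtain ⟨c, hc, v, hv, rfl⟩ := exists_mul h hV h1 h2 hm hy h6 n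
  have h7 : ⁅v, y⁆ ∈ 𝓒(N) := h3 (commutator_mem_commutator hv hy)
  have h8 : ∀ i : ℕ, v ^ i * y = ⁅v, y⁆ ^ i * y * v ^ i := fun i => by
    induction i with
    | zero => simp
    | succ i ih =>
      rw [pow_succ', mul_assoc, ih, ← mul_assoc, ← mul_assoc, pow_mem h7 i v (hV hv), pow_succ]
      generalize ⁅v, y⁆ ^ i = w
      rw [commutatorElement_def]; group
  have h9 : ∀ i : ℕ, v * y ^ i = ⁅v, y⁆ ^ i * y ^ i * v := fun i => by
    induction i with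
    | zero => simp
    | succ i ih =>
      rw [pow_succ, ← mul_assoc, ih, mul_assoc, show v * y = ⁅v, y⁆ * y * v by
        rw [commutatorElement_def]; group, pow_succ, mul_assoc (⁅v, y⁆ ^ i),
        ← mul_assoc (y ^ i), ← mul_assoc (y ^ i), h7 _ (pow_mem hy i)]
      group
  have h10 : ⁅v, y⁆ ^ p = 1 := by
    have := h8 p
    rwa [← h4 v hv y hy, mul_assoc, right_eq_mul] at this
  rw [mul_assoc, h9 p, h10, one_mul, ← mul_assoc, (Commute.pow_right (mem_cent1.1 hc) p).eq,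
    mul_assoc]

theorem fpf (h3 : ¬ ⁅V, N⁆ ≤ 𝓒(N)) (hy : y ∈ N) (h4 : y ∉ 𝓒(V)) {v : G} (hv : v ∈ V)
    (h5 : ⁅v, y⁆ ∈ 𝓒(N)) : v ∈ 𝓒(N) := by
  have h0 : ∀ K : Subgroup G, K ≤ 𝓝(𝓒(N)) := fun K => le_normalizer_of_normal
  have h6 : ∀ A B : Subgroup G, A ≤ mpre (qh 𝓒(N)) 𝓒(B /ᵍ 𝓒(N)) ↔ ⁅A, B⁆ ≤ 𝓒(N) := fun A B => by
    rw [← mim_le_iff (h0 _), mim_le_centralizer_iff (h0 _) (h0 _), mker_qh]
  have h7 : 𝓒₁(y) ≤ mpre (qh 𝓒(N)) 𝓒(zpowers y /ᵍ 𝓒(N)) :=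
    (h6 _ _).2 ((comm_eq_bot_iff.2 (cent_zpowers y).ge).le.trans bot_le)
  refine ((hm (V ⊓ mpre (qh 𝓒(N)) 𝓒(zpowers y /ᵍ 𝓒(N))) inf_le_left (normal_of_top
    ((sup_top h hV h1 h2 hm hy h4).ge.trans (sup_le (norm_inf le_normalizer_of_normal
      (le_norm_of_le h7)) (norm_of_comm (comm_iff_le_cent.2 (abel h hV h1 h2 hm))
        inf_le_left))))).resolve_left fun e => h3 ?_) ⟨hv, ?_⟩
  · rw [comm_symm, ← h6, ← sup_zpowers h hV h1 h2 hm hy h4]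
    refine (sup_le ((h6 _ _).2 ((comm_eq_bot_iff.2 inf_le_right).le.trans bot_le)) ((h6 _ _).2 ?_)).trans
      (by rw [sup_zpowers h hV h1 h2 hm hy h4])
    rw [comm_symm, ← h6]
    exact e.ge.trans inf_le_right
  · rw [mim_zpowers _ (h0 _ (mem_top _)), cent_zpowers]
    refine mem_mpre.2 ⟨h0 _ (mem_top _), mem_cent1.2 ?_⟩
    rw [← commutatorElement_eq_one_iff_mul_comm, ← mel_commutator _ (h0 _ (mem_top _))
      (h0 _ (mem_top _)), qel_eq_one_iff (h0 _ (mem_top _))]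
    exact h5

theorem cent_le (h3 : ¬ ⁅V, N⁆ ≤ 𝓒(N)) : N ⊓ 𝓒(V) ≤ 𝓩(N) ⊔ V := fun c hc => by
  obtain ⟨y, hy, h4⟩ := SetLike.not_le_iff_exists.1 fun a : N ≤ 𝓒(V) => h1 (cent_symm a)
  obtain ⟨v, hv, h5⟩ := SetLike.not_le_iff_exists.1 h1
  have ha := abel h hV h1 h2 hm
  obtain ⟨d, hd, u, hu, rfl⟩ := exists_mul h hV h1 h2 hm hy h4 c
  have h6 : d ∈ N ⊓ 𝓒(V) := (mul_mem_cancel_right (le_inf hV ha hu)).1 hc
  refine mul_mem_sup ⟨h6.1, ?_⟩ hu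
  have h7 : d * v ∉ 𝓒(N) := fun a => h5 (inf_le h hV h1 h2 hm hy h4
    ⟨(mul_mem_cancel_left hd).1 (cent_le_cent1 hy a), hv⟩)
  have h8 : 𝓒₁(d * v) ⊓ N ≤ N ⊓ 𝓒(V) := fun n hn => ⟨hn.2, by_contra fun a => h5 ?_⟩
  · haveI : (N ⊓ 𝓒(V)).Normal := inferInstance
    have h9 := (eq_or_eq h (mul_mem h6.1 (hV hv)) h7 h8 inf_le_left le_normalizer_of_normal).resolve_right
      fun e => h4 (e.ge hy).2
    refine le_cent1_iff.1 ((sup_zpowers h hV h1 h2 hm hy h4).ge.trans (sup_le (le_cent1_iff.2 ?_)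
      (zpowers_le.2 (mem_cent1_symm.1 hd))))
    exact (mul_mem_cancel_right (cent_symm inf_le_right hv)).1 (le_cent1_iff.1 h9)
  obtain ⟨e, he, w, hw, rfl⟩ := exists_mul h hV h1 h2 hm hy h4 n
  have h9 : e ∈ N := (mul_mem_cancel_right (hV hw)).1 hn.2
  have h10 : e * (d * v) = d * v * e := mem_cent1.1 ((mul_mem_cancel_right (mem_cent1_symm.1
    (cent_le_cent1 hw (mul_mem h6.2 (ha hv))))).1 hn.1)
  refine fpf h hV h1 h2 hm h3 (inv_mem h9) (fun b => a ((𝓒(V)).mul_mem (inv_mem_iff.1 b) (ha hw))) hv ?_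
  have h11 : ⁅v, e⁻¹⁆ = ⁅d⁻¹, e⁻¹⁆ := by
    rw [commutatorElement_def, commutatorElement_def]
    calc _ = d⁻¹ * e⁻¹ * (e * (d * v)) * e⁻¹ * v⁻¹ * e := by group
      _ = d⁻¹ * e⁻¹ * d * e := by rw [h10]; group
      _ = _ := by group
  rw [h11]
  exact inf_le h hV h1 h2 hm hy h4 ⟨comm_le_of_le le_rfl le_rfl (commutator_mem_commutator
    (inv_mem hd) (inv_mem he)), comm_top_le h hV h1 h2 hm (commutator_mem_commutator (inv_mem h6.1)
      (mem_top _))⟩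

end

/-- The structure of `N / Z(N)`. -/
theorem main {Q : Type*} [Group Q] (f : N →* Q) (hf : Function.Surjective f) (hk : mker f = 𝓩(N)) :
    (∃ p, p.Prime ∧ IsElementaryAbelian p (⊤ : Subgroup Q)) ∨ ∃ (K : Subgroup Q) (p q : ℕ) (y : Q),
      p.Prime ∧ q.Prime ∧ p ≠ q ∧ K.Normal ∧ K ≠ ⊥ ∧ IsElementaryAbelian p K ∧ orderOf y = q ∧
      K ⊔ zpowers y = ⊤ ∧ Frob2.Semireg K (zpowers y) ∧
      (N = ⊤ → ∀ W ≤ K, W.Normal → W = K ∨ W = ⊥) := by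
  haveI := Finite.of_surjective f hf
  have ht : mim f N = ⊤ := by rw [mim_dom, MonoidHom.range_eq_top.2 hf]
  have h0 : ∀ p, ∀ K ≤ N, ⁅K, K⁆ ≤ 𝓒(N) → (∀ y ∈ K, y ^ p ∈ 𝓒(N)) →
      IsElementaryAbelian p (mim f K) := fun p K a b c =>
    ⟨(isMulCommutative_mim_iff a).2 (hk ▸ le_inf (comm_le_of_le a a) b), fun x hx => by
      obtain ⟨y, hy, rfl⟩ := (mem_mim_of_le a).1 hx
      rw [← mel_pow _ (a hy), mel_eq_one_iff (pow_mem (a hy) p), hk]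
      exact ⟨pow_mem (a hy) p, c y hy⟩⟩
  by_cases hna : N ≤ 𝓒(N)
  · exact Or.inl ⟨2, Nat.prime_two, ht ▸ h0 2 N le_rfl ((der_le N).trans hna)
      fun y hy => hna (pow_mem hy 2)⟩
  obtain ⟨V, hV, _, h1, h2, hm⟩ := exists_min h hna
  by_cases h3 : ⁅V, N⁆ ≤ 𝓒(N)
  · obtain ⟨p, hp, a, b⟩ := elem h hV h1 h2 hm h3
    exact Or.inl ⟨p, hp, ht ▸ h0 p N le_rfl a b⟩
  obtain ⟨p, hp, h4⟩ := exists_exp h hV h1 h2 hm
  have hK := h0 p V hV h2 h4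
  have hn : (mim f V).Normal := normal_of_top (ht ▸ mim_le_normalizer f le_normalizer_of_normal)
  have h5 : ∀ y ∈ N, mel f y ∈ mim f V ↔ y ∈ 𝓒(V) := fun y hy => by
    rw [mel_mem_mim_iff' hy hV, hk, sup_comm]
    exact ⟨fun a => sup_le (inf_le_right.trans (cent_anti hV)) (abel h hV h1 h2 hm) a,
      fun a => cent_le h hV h1 h2 hm h3 ⟨hy, a⟩⟩
  have h6 : ∀ y ∉ mim f V, mim f V ⊔ zpowers y = ⊤ ∧ mim f V ⊓ 𝓒₁(y) = ⊥ := fun y hy => by
    obtain ⟨y, a, rfl⟩ := (mem_mim_of_le le_rfl).1 (ht.ge (mem_top y))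
    rw [h5 y a] at hy
    refine ⟨?_, eq_bot_iff.2 fun k hk' => ?_⟩
    · rw [← mim_zpowers _ a, ← mim_sup _ hV (zpowers_le.2 a), eq_top_iff, ← ht,
        mim_le_mim_iff' le_rfl (sup_le hV (zpowers_le.2 a)), hk]
      exact (sup_zpowers h hV h1 h2 hm a hy).ge.trans (sup_le ((cent_le h hV h1 h2 hm h3).trans
        (sup_le le_sup_right (le_sup_left.trans le_sup_left))) (le_sup_right.trans le_sup_left))
    · obtain ⟨v, hv, rfl⟩ := (mem_mim_of_le hV).1 hk'.1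
      have := commutatorElement_eq_one_iff_mul_comm.2 (mem_cent1.1 hk'.2)
      rw [← mel_commutator _ (hV hv) a, mel_eq_one_iff (comm_le_of_le hV le_rfl
        (commutator_mem_commutator hv a)), hk] at this
      rw [mem_bot, mel_eq_one_iff (hV hv), hk]
      exact ⟨hV hv, fpf h hV h1 h2 hm h3 a hy hv this.2⟩
  have h7 : mim f V ≠ ⊥ := fun e => h1 (((mim_eq_bot_iff hV).1 e).trans (hk ▸ inf_le_right))
  obtain ⟨y, -, h8, q, hq, h9⟩ := exists_pow_prime' (K := ⊤) (H := mim f V) fun a => h1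
    (cent_symm fun y hy => (h5 y hy).1 (a (mem_top _)))
  have h10 : y ^ q = 1 := mem_bot.1 ((h6 y h8).2.le ⟨h9, pow_mem (mem_cent1_self y) q⟩)
  haveI := Fact.mk hq
  have h11 : orderOf y = q := orderOf_eq_prime h10 fun e => h8 (e ▸ one_mem _)
  have h12 : (♯(zpowers y)).Prime := by rwa [Nat.card_zpowers, h11]
  have h13 : Frob2.Semireg (mim f V) (zpowers y) := fun z hz a => (h6 z fun b => h8
    (zpowers_le.1 (le_of_inf_ne_bot_of_prime h12 (ne_bot_of_mem ⟨hz, b⟩ a)))).2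
  refine Or.inr ⟨_, p, q, y, hp, hq, fun e => ?_, hn, h7, hK, h11, (h6 y h8).1, h13, fun e W a b => ?_⟩
  · have := h13.coprime le_normalizer_of_normal
    rw [Nat.card_zpowers, h11, ← e] at this
    exact (hp.coprime_iff_not_dvd.1 this) ((isPi_of_elem hp hK).dvd_card h7)
  · subst e
    have h14 : W = mim f (V ⊓ mpre f W) := by rw [mim_inf_mpre, inf_eq_right.2 a]
    refine (hm (V ⊓ mpre f W) inf_le_left (normal_of_top (norm_inf le_normalizer_of_normal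
      (le_normalizer_mpre le_rfl le_normalizer_of_normal)))).imp (fun e => by rw [h14, e]) fun e => ?_
    rw [h14, mim_eq_bot_iff le_top, hk]
    exact le_inf le_top e

omit h in
theorem main_top (h : ∀ x, x ∉ center G → IsCoatom 𝓒₁(x)) :
    (∃ p, p.Prime ∧ IsElementaryAbelian p (⊤ : Subgroup (G ⧸ center G))) ∨
    ∃ (K : Subgroup (G ⧸ center G)) (p q : ℕ) (y : G ⧸ center G),
      p.Prime ∧ q.Prime ∧ p ≠ q ∧ K.Normal ∧ K ≠ ⊥ ∧ IsElementaryAbelian p K ∧ orderOf y = q ∧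
      K ⊔ zpowers y = ⊤ ∧ Frob2.Semireg K (zpowers y) ∧ ∀ W ≤ K, W.Normal → W = K ∨ W = ⊥ := by
  refine (main (N := ⊤) (fun x _ a => h x fun b => a fun g _ => mem_center_iff.1 b g)
    ((QuotientGroup.mk' (center G)).comp (⊤ : Subgroup G).subtype) (fun x => ?_) ?_).imp_right
    fun ⟨K, p, q, y, a, b, c, d, e, f, g, i, j, k⟩ => ⟨K, p, q, y, a, b, c, d, e, f, g, i, j, k rfl⟩
  · obtain ⟨x, rfl⟩ := QuotientGroup.mk_surjective x
    exact ⟨⟨x, trivial⟩, rfl⟩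
  · ext x
    rw [mem_mker, mel_of_mem _ (mem_top x)]
    exact and_congr_right fun _ => (QuotientGroup.eq_one_iff x).trans
      ⟨fun b g _ => mem_center_iff.1 b g, fun b => mem_center_iff.2 fun g => b g trivial⟩

end CA.MaxC
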