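import Cfsg.Agent.Lib.Odd.BGMisc

/-!
Nilpotent minimal covers (relative version: covers of `K` by subgroups over `Z` not containing `K`).
-/

set_option autoImplicit false
set_option linter.unusedSectionVars false
set_option linter.style.haveILetI false

namespace CA.NMC

open Subgroup CA CA.BG

variable {G : Type*} [Group G]

/-- a nilpotent minimal cover of `K` modulo `Z` -/
structure IsNMC (Z K : Subgroup G) (𝓐 : Finset (Subgroup G)) : Prop where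
  nil : ∀ A ∈ 𝓐, Group.IsNilpotent A
  prop : ∀ A ∈ 𝓐, Z ≤ A ∧ ¬ K ≤ A
  cov : ∀ g ∈ K, ∃ A ∈ 𝓐, g ∈ A
  min : ∀ 𝓑 : Finset (Subgroup G), (∀ B ∈ 𝓑, Z ≤ B ∧ ¬ K ≤ B) → (∀ g ∈ K, ∃ B ∈ 𝓑, g ∈ B) →
    𝓐.card ≤ 𝓑.card

variable {Z K A B M : Subgroup G} {𝓐 : Finset (Subgroup G)}

theorem IsNMC.pair (h : IsNMC Z K 𝓐) (hA : A ∈ 𝓐) (hB : B ∈ 𝓐) (hne : A ≠ B) (h1 : A ≤ M)
    (h2 : B ≤ M) : K ≤ M := by
  classical
  by_contra hK
  have := h.min (insert M ((𝓐.erase A).erase B)) (by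
    intro C hC
    rcases Finset.mem_insert.1 hC with rfl | hC
    · exact ⟨(h.prop A hA).1.trans h1, hK⟩
    · exact h.prop C (Finset.mem_of_mem_erase (Finset.mem_of_mem_erase hC))) (by
    intro g hg
    obtain ⟨C, hC, hgC⟩ := h.cov g hg
    by_cases e1 : C = A
    · exact ⟨M, Finset.mem_insert_self _ _, h1 (e1 ▸ hgC)⟩
    by_cases e2 : C = B
    · exact ⟨M, Finset.mem_insert_self _ _, h2 (e2 ▸ hgC)⟩
    exact ⟨C, Finset.mem_insert_of_mem (Finset.mem_erase.2 ⟨e2, Finset.mem_erase.2 ⟨e1, hC⟩⟩), hgC⟩)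
  have h3 := Finset.card_insert_le M ((𝓐.erase A).erase B)
  rw [Finset.card_erase_of_mem (Finset.mem_erase.2 ⟨hne.symm, hB⟩), Finset.card_erase_of_mem hA] at h3
  have h4 : 1 < 𝓐.card := Finset.one_lt_card.2 ⟨A, hA, B, hB, hne⟩
  omega

theorem IsNMC.count (h : IsNMC Z K 𝓐) (x : G → G) (H : G → Subgroup G)
    (h1 : ∀ g ∈ K, x g ∈ K ∧ g ∈ H g ∧ Z ≤ H g ∧ ¬ K ≤ H g)
    (h2 : ∀ g ∈ K, ∀ g' ∈ K, ∀ A ∈ 𝓐, x g ∈ A → x g' ∈ A → H g = H g') {y : G} (hy : y ∈ K)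
    (h3 : ∀ g ∈ K, ∀ A ∈ 𝓐, x g ∈ A → y ∉ A) : False := by
  classical
  let f : Subgroup G → Subgroup G := fun A => if h : ∃ g ∈ K, x g ∈ A then H h.choose else ⊥
  have hf : ∀ g ∈ K, ∀ A ∈ 𝓐, x g ∈ A → f A = H g := by
    intro g hg A hA hx
    have h0 : ∃ g ∈ K, x g ∈ A := ⟨g, hg, hx⟩
    simp only [f, dif_pos h0]
    exact h2 _ h0.choose_spec.1 g hg A hA h0.choose_spec.2 hx
  have := h.min ((𝓐.filter fun A => ∃ g ∈ K, x g ∈ A).image f) (by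
    intro C hC
    obtain ⟨A, hA, rfl⟩ := Finset.mem_image.1 hC
    obtain ⟨hA, g, hg, hx⟩ := Finset.mem_filter.1 hA
    rw [hf g hg A hA hx]
    exact (h1 g hg).2.2) (by
    intro g hg
    obtain ⟨A, hA, hx⟩ := h.cov _ (h1 g hg).1
    exact ⟨f A, Finset.mem_image_of_mem _ (Finset.mem_filter.2 ⟨hA, g, hg, hx⟩),
      by rw [hf g hg A hA hx]; exact (h1 g hg).2.1⟩)
  obtain ⟨A, hA, hyA⟩ := h.cov y hy
  have h4 : (𝓐.filter fun A => ∃ g ∈ K, x g ∈ A).card < 𝓐.card :=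
    Finset.card_lt_card (Finset.filter_ssubset.2 ⟨A, hA, fun ⟨g, hg, hx⟩ => h3 g hg A hA hx hyA⟩)
  exact absurd (this.trans Finset.card_image_le) (not_le.2 h4)

theorem of_abs (h : ((∀ A ∈ 𝓐, A ≠ ⊤) ∧ (∀ g : G, ∃ A ∈ 𝓐, g ∈ A)) ∧
    (∀ 𝓑 : Finset (Subgroup G), (∀ A ∈ 𝓑, A ≠ ⊤) ∧ (∀ g : G, ∃ A ∈ 𝓑, g ∈ A) → 𝓐.card ≤ 𝓑.card) ∧
    (∀ A ∈ 𝓐, Group.IsNilpotent ↥A)) : IsNMC ⊥ ⊤ 𝓐 :=
  ⟨h.2.2, fun A hA => ⟨bot_le, fun h1 => h.1.1 A hA (top_le_iff.1 h1)⟩, fun g _ => h.1.2 g,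
    fun 𝓑 h1 h2 => h.2.1 𝓑 ⟨fun A hA e => (h1 A hA).2 (e ▸ le_rfl), fun g => h2 g trivial⟩⟩

/-- transfer from a subgroup of the central quotient -/
theorem of_quo {L : Subgroup (G ⧸ center G)} {𝓐 : Finset (Subgroup L)} (h : IsNMC ⊥ ⊤ 𝓐) :
    ∃ 𝓑, IsNMC (center G) (L.comap (QuotientGroup.mk' (center G))) 𝓑 := by
  classical
  let π := QuotientGroup.mk' (center G)
  let f : Subgroup L → Subgroup G := fun A => (A.map L.subtype).comap π
  let r : Subgroup G → Subgroup L := fun B => (B.map π).subgroupOf L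
  have hπ : Function.Surjective π := QuotientGroup.mk'_surjective _
  have hrf : ∀ A, r (f A) = A := by
    intro A
    simp only [r, f]
    rw [map_comap_eq_self_of_surjective hπ, subgroupOf, comap_map_eq_self_of_injective L.subtype_injective]
  have hinj : Function.Injective f := Function.LeftInverse.injective hrf
  have hker : ∀ A, center G ≤ f A := fun A => by
    have := ker_le_comap π (A.map L.subtype)
    rwa [QuotientGroup.ker_mk'] at this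
  refine ⟨𝓐.image f, ?_, ?_, ?_, ?_⟩
  · intro B hB
    obtain ⟨A, hA, rfl⟩ := Finset.mem_image.1 hB
    haveI := h.nil A hA
    haveI : Group.IsNilpotent (A.map L.subtype) :=
      Group.nilpotent_of_mulEquiv (A.equivMapOfInjective L.subtype L.subtype_injective)
    refine Subgroup.isNilpotent_of_ker_le_center (π.subgroupComap (A.map L.subtype)) ?_
    intro z hz
    have h1 : (z : G) ∈ center G := by
      rw [← QuotientGroup.ker_mk' (center G)]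
      exact congrArg Subtype.val hz
    exact mem_center_iff.2 fun g => Subtype.ext (mem_center_iff.1 h1 g)
  · intro B hB
    obtain ⟨A, hA, rfl⟩ := Finset.mem_image.1 hB
    refine ⟨hker A, fun h1 => (h.prop A hA).2 fun g _ => ?_⟩
    obtain ⟨a, ha⟩ := hπ g
    have : a ∈ f A := h1 (by rw [mem_comap]; exact ha ▸ g.2)
    obtain ⟨b, hb, e⟩ := this
    have : b = g := Subtype.ext (e.trans ha)
    exact this ▸ hb
  · intro g hg
    obtain ⟨A, hA, h1⟩ := h.cov ⟨π g, hg⟩ trivial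
    exact ⟨f A, Finset.mem_image_of_mem _ hA, ⟨_, h1, rfl⟩⟩
  · intro 𝓑 h1 h2
    rw [Finset.card_image_of_injective _ hinj]
    refine (h.min (𝓑.image r) ?_ ?_).trans Finset.card_image_le
    · intro A hA
      obtain ⟨B, hB, rfl⟩ := Finset.mem_image.1 hA
      refine ⟨bot_le, fun h3 => (h1 B hB).2 fun g hg => ?_⟩
      obtain ⟨b, hb, e⟩ : π g ∈ B.map π := h3 (mem_top (⟨π g, hg⟩ : L))
      obtain ⟨z, hz, e2⟩ := (QuotientGroup.mk'_eq_mk' _).1 e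
      exact e2 ▸ mul_mem hb ((h1 B hB).1 hz)
    · intro g _
      obtain ⟨a, ha⟩ := hπ g
      obtain ⟨B, hB, h3⟩ := h2 a (by rw [mem_comap]; exact ha ▸ g.2)
      exact ⟨r B, Finset.mem_image_of_mem _ hB, ⟨a, h3, ha⟩⟩

variable [Finite G] {p : ℕ} {P Q : Subgroup G} {x y : G}

/-- with abelian Sylow `p`-subgroups, `p`-subgroups of a nilpotent subgroup are central in it -/
theorem cent_of_ab (hp : p.Prime) (hP : Syl p P ⊤) (hab : IsMulCommutative P)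
    (hA : Group.IsNilpotent A) (hQ : IsPi {p} Q) (hQA : Q ≤ A) : A ≤ 𝓒(Q) := by
  rw [← nil_core_sup {p} hA]
  have h1 := nil_hall_core {p} hA
  have h2 := nil_hall_core {p}ᶜ hA
  refine sup_le ?_ (cent_symm (cent_of_nil hA hQA h2.le hQ h2.pi))
  obtain ⟨g, -, hg⟩ := hP.syl_le_conj hp h1.pi le_top
  exact cent_of_comm (comm_of_le ((isComm_cj g).2 hab) hg) le_rfl (h1.le_of_nil hA hQ hQA)

theorem IsNMC.uniq (h : IsNMC ⊥ ⊤ 𝓐) (hZ : center G = ⊥) (hp : p.Prime) (hP : Syl p P ⊤)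
    (hab : IsMulCommutative P) (hx : PiElt {p} x) (h1 : x ≠ 1) (hA : A ∈ 𝓐) (hB : B ∈ 𝓐)
    (hxA : x ∈ A) (hxB : x ∈ B) : A = B := by
  by_contra hne
  have e1 := cent_of_ab hp hP hab (h.nil A hA) (isPi_zpowers.2 hx) (zpowers_le.2 hxA)
  have e2 := cent_of_ab hp hP hab (h.nil B hB) (isPi_zpowers.2 hx) (zpowers_le.2 hxB)
  have := h.pair hA hB hne e1 e2
  rw [cent_zpowers] at this
  apply h1
  rw [← mem_bot, ← hZ, mem_center_iff]
  exact fun g => mem_cent1.1 (this (mem_top g))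

theorem IsNMC.exists_ge (h : IsNMC ⊥ ⊤ 𝓐) (hZ : center G = ⊥) (hp : p.Prime) (hP : Syl p P ⊤)
    (hab : IsMulCommutative P) (hc : IsCyclic P ∨ ¬ ∀ a ∈ P, a ^ p = 1) : ∃ A ∈ 𝓐, P ≤ A := by
  rcases hc with hc | hc
  · obtain ⟨x, rfl⟩ := (Subgroup.isCyclic_iff_exists_zpowers_eq_top P).1 hc
    obtain ⟨A, hA, hx⟩ := h.cov x trivial
    exact ⟨A, hA, zpowers_le.2 hx⟩
  push Not at hc
  obtain ⟨x, hx, hxp⟩ := hc
  obtain ⟨A, hA, hxA⟩ := h.cov x trivial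
  refine ⟨A, hA, fun y hy => ?_⟩
  have hcm : ∀ a ∈ P, ∀ b ∈ P, Commute a b := fun a ha b hb =>
    mem_cent.1 (comm_iff_le_cent.1 hab hb) a ha
  -- key step
  have key : ∀ A ∈ 𝓐, ∀ x ∈ P, x ∈ A → x ^ p ≠ 1 → ∀ y ∈ P, y ^ p = 1 → y ∈ A := by
    intro A hA x hx hxA hxp y hy hyp
    obtain ⟨C, hC, hxy⟩ := h.cov (x * y) trivial
    have e : (x * y) ^ p = x ^ p := by rw [(hcm x hx y hy).mul_pow, hyp, mul_one]
    have : C = A := h.uniq hZ hp hP hab (hP.pi.orderOf (pow_mem hx p)) hxp hC hA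
      (e ▸ pow_mem hxy p) (pow_mem hxA p)
    subst this
    simpa using mul_mem (inv_mem hxA) hxy
  by_cases hyp : y ^ p = 1
  · exact key A hA x hx hxA hxp y hy hyp
  obtain ⟨B, hB, hyB⟩ := h.cov y trivial
  have hx1 : x ≠ 1 := fun e => hxp (by rw [e, one_pow])
  have hne : zpowers x ≠ ⊥ := by simpa using hx1
  obtain ⟨X, hX, hc⟩ := (hP.pi.of_le (zpowers_le.2 hx)).exists_card_eq hne
  have hX0 : X ≠ ⊥ := fun e => by rw [e, card_bot] at hc; exact hp.one_lt.ne hc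
  obtain ⟨⟨z, hz⟩, hz1⟩ := ne_bot_iff_exists_ne_one.1 hX0
  have hz1' : z ≠ 1 := fun e => hz1 (Subtype.ext e)
  have hzP : z ∈ P := zpowers_le.2 hx (hX hz)
  have hzp : z ^ p = 1 := by
    rw [← hc]; exact congrArg Subtype.val (pow_card_eq_one' (x := (⟨z, hz⟩ : X)))
  have : A = B := h.uniq hZ hp hP hab (hP.pi.orderOf hzP) hz1' hA hB (zpowers_le.2 hxA (hX hz))
    (key B hB y hy hyB hyp z hzP hzp)
  exact this ▸ hyB

theorem IsNMC.cent_eq (h : IsNMC ⊥ ⊤ 𝓐) (hZ : center G = ⊥) (hp : p.Prime) (hP : Syl p P ⊤)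
    (hab : IsMulCommutative P) (h0 : P ≠ ⊥) (hA : A ∈ 𝓐) (hPA : P ≤ A) : 𝓒(P) = A := by
  refine le_antisymm (fun c hc => ?_) (cent_of_ab hp hP hab (h.nil A hA) hP.pi hPA)
  obtain ⟨⟨x, hx⟩, hx1⟩ := ne_bot_iff_exists_ne_one.1 h0
  have hx1' : x ≠ 1 := fun e => hx1 (Subtype.ext e)
  rw [← constt_mul_compl {p} c]
  refine mul_mem (hPA ?_) ?_
  · exact zpowers_le.1 (hP.le_of_norm (isPi_zpowers.2 (constt_elt _ c)) le_top
      (norm_of_cent (zpowers_le.2 (constt_mem _ hc))))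
  · have hd : constt {p}ᶜ c ∈ 𝓒(P) := constt_mem _ hc
    have hxd : x ∈ 𝓒₁(constt {p}ᶜ c) := mem_cent1.2 (mem_cent.1 hd x hx)
    obtain ⟨B, hB, h1⟩ := h.cov (x * constt {p}ᶜ c) trivial
    have h2 : x ∈ B := by
      rw [← constt_mul_eq (hP.pi.orderOf hx) (constt_elt {p}ᶜ c) hxd]; exact constt_mem _ h1
    have : A = B := h.uniq hZ hp hP hab (hP.pi.orderOf hx) hx1' hA hB (hPA hx) h2
    subst this
    simpa using mul_mem (inv_mem h2) h1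

theorem IsNMC.main (h : IsNMC ⊥ ⊤ 𝓐) (hZ : center G = ⊥) (hp : p.Prime) (hP : Syl p P ⊤)
    (hab : IsMulCommutative P) (hc : IsCyclic P ∨ ¬ ∀ a ∈ P, a ^ p = 1) (hn : 𝓝(P) ≠ ⊤) :
    (∃ A ∈ 𝓐, P ≤ A ∧ 𝓒(P) = A) ∧ (∀ M, 𝓒(P) ≤ M → M ≠ ⊤ → M ≤ 𝓝(P)) ∧
      ∀ g, g ∉ 𝓝(P) → ¬ p ∣ ♯(𝓝(P) ⊓ cj g 𝓝(P) : Subgroup G) := by
  have h0 : P ≠ ⊥ := fun e => hn (by
    rw [e, eq_top_iff]; exact fun g _ => mem_norm_iff_cj.2 (by simp))
  obtain ⟨A, hA, hPA⟩ := h.exists_ge hZ hp hP hab hc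
  have hC := h.cent_eq hZ hp hP hab h0 hA hPA
  have hg : ∀ g : G, g ∉ 𝓝(P) → cj g A ∈ 𝓐 ∧ cj g A ≠ A := by
    intro g hg
    have hP' : Syl p (cj g P) ⊤ := hP.cj_mem (mem_top g)
    have hab' := (isComm_cj g).2 hab
    obtain ⟨B, hB, hPB⟩ := h.exists_ge hZ hp hP' hab' (by
      rcases hc with hc | hc
      · exact Or.inl ((isCyclic_cj g).2 hc)
      · refine Or.inr fun h1 => hc fun a ha => ?_
        have := h1 _ (conj_mem_cj.2 ha)
        rwa [conj_pow, conj_eq_one_iff] at this)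
    have hC' := h.cent_eq hZ hp hP' hab' (by simpa using h0) hB hPB
    rw [← cj_cent, hC] at hC'
    refine ⟨hC' ▸ hB, fun e => hg (mem_norm_iff_cj.2 ?_)⟩
    have s1 : Syl p P A := hP.of_le hPA le_top
    exact s1.eq_of_normal (s1.le_norm_of_nil (h.nil A hA)) (hP'.of_le (e ▸ cj_mono g hPA) le_top)
  refine ⟨⟨A, hA, hPA, hC⟩, fun M h1 h2 g hgM => ?_, fun g hgn hd => ?_⟩
  · by_contra hgn
    rw [hC] at h1
    exact h2 (top_le_iff.1 (h.pair (hg g hgn).1 hA (hg g hgn).2 (cj_le_of_mem hgM h1) h1))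
  · haveI := Fact.mk hp
    obtain ⟨⟨x, hx1, hx2⟩, hx⟩ := exists_prime_orderOf_dvd_card' p hd
    rw [← orderOf_coe] at hx
    simp only at hx
    have hxp : PiElt {p} x := by
      change PiNat _ _
      rw [hx]; exact (piNat_prime hp).2 rfl
    have s1 : Syl p P 𝓝(P) := hP.of_le (le_norm_self P) le_top
    have e1 : x ∈ P := s1.mem_of_normal le_rfl hx1 hxp
    have e2 : x ∈ cj g P := (s1.cj g).mem_of_normal (by rw [cj_norm]) hx2 hxp
    exact (hg g hgn).2 (h.uniq hZ hp hP hab hxp (fun e => by rw [e, orderOf_one] at hx; exact hp.one_lt.ne hx)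
      (hg g hgn).1 hA (cj_mono g hPA e2) (hPA e1))

theorem coatom_of (hn : 𝓝(P) ≠ ⊤) (h : ∀ M, 𝓒(P) ≤ M → M ≠ ⊤ → M ≤ 𝓝(P)) : IsCoatom 𝓝(P) :=
  ⟨hn, fun M hM => by
    by_contra h1
    exact absurd (h M ((cent_le_norm P).trans hM.le) h1) (not_le_of_gt hM)⟩

/-- Sylow subgroups of prime order -/
theorem IsNMC.prime_pair (h : IsNMC ⊥ ⊤ 𝓐) (hp : p.Prime) (hd : ¬ p ^ 2 ∣ Nat.card G)
    (hx : orderOf x = p) (hy : orderOf y = p) (hxy : x * y ≠ y * x) (h1 : 𝓒₁(x) ≤ M)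
    (h2 : 𝓒₁(y) ≤ M) : M = ⊤ := by
  have key : ∀ x : G, orderOf x = p → ∀ A ∈ 𝓐, x ∈ A → A ≤ 𝓒₁(x) := by
    intro x hx A hA hxA
    have hc : ♯(zpowers x) = p := by rw [Nat.card_zpowers, hx]
    have hP : Syl p (zpowers x) ⊤ := Syl.mk'' hp le_top (isPi_of_card_eq hp hc) fun h3 => hd (by
      rw [← card_top, ← card_mul_relIndex (le_top (a := zpowers x)), hc, pow_two]
      exact mul_dvd_mul_left _ h3)
    rw [← cent_zpowers]
    exact cent_of_ab hp hP inferInstance (h.nil A hA) hP.pi (zpowers_le.2 hxA)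
  obtain ⟨A, hA, hxA⟩ := h.cov x trivial
  obtain ⟨B, hB, hyB⟩ := h.cov y trivial
  refine top_le_iff.1 (h.pair hA hB (fun e => hxy ?_) ((key x hx A hA hxA).trans h1)
    ((key y hy B hB hyB).trans h2))
  exact mem_cent1.1 (key y hy B hB hyB (e ▸ hxA))

end CA.NMC
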