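import Cfsg.Agent.Lib.Solv.NMC

/-!
Groups between `SL_n(F)` and `GL_n(F)` have no nilpotent minimal cover modulo the centre.
-/

set_option autoImplicit false
set_option linter.unusedSectionVars false
set_option linter.style.haveILetI false

namespace CA.NMC

open Subgroup CA CA.BG Matrix
open scoped commutatorElement

variable {F : Type*} [Field F] [Fintype F] {n p : ℕ}

/-- action on columns -/
@[reducible] def colAct (P : Subgroup (GL (Fin n) F)) : MulAction P (Fin n → F) where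
  smul g v := (g : GL (Fin n) F).val *ᵥ v
  one_smul v := one_mulVec v
  mul_smul _ _ v := (mulVec_mulVec v _ _).symm

/-- action on rows -/
@[reducible] def rowAct (P : Subgroup (GL (Fin n) F)) : MulAction P (Fin n → F) where
  smul g v := v ᵥ* ((g⁻¹ : P) : GL (Fin n) F).val
  one_smul v := by
    change v ᵥ* ((1⁻¹ : P) : GL (Fin n) F).val = v
    rw [inv_one]; exact vecMul_one v
  mul_smul g h v := by
    change v ᵥ* (((g * h)⁻¹ : P) : GL (Fin n) F).val = _
    rw [_root_.mul_inv_rev]; exact (vecMul_vecMul v _ _).symm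

theorem dvd_card_fun [CharP F p] (hn : 0 < n) : p ∣ Nat.card (Fin n → F) := by
  rw [Nat.card_fun, Nat.card_fin, Nat.card_eq_fintype_card]
  exact dvd_pow ((CharP.cast_eq_zero_iff F p _).1 (FiniteField.cast_card_eq_zero F)) hn.ne'

theorem exists_col [CharP F p] (hp : p.Prime) (hn : 0 < n) {P : Subgroup (GL (Fin n) F)}
    (hP : IsPi {p} P) : ∃ v : Fin n → F, v ≠ 0 ∧ ∀ g ∈ P, g.val *ᵥ v = v := by
  haveI := Fact.mk hp
  letI := colAct P
  obtain ⟨b, hb, h0⟩ := (hP.isPGroup hp).exists_fixed_point_of_prime_dvd_card_of_fixed_point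
    (Fin n → F) (dvd_card_fun hn) (a := 0) (fun g => mulVec_zero _)
  exact ⟨b, h0.symm, fun g hg => hb ⟨g, hg⟩⟩

theorem exists_row [CharP F p] (hp : p.Prime) (hn : 0 < n) {P : Subgroup (GL (Fin n) F)}
    (hP : IsPi {p} P) : ∃ v : Fin n → F, v ≠ 0 ∧ ∀ g ∈ P, v ᵥ* g.val = v := by
  haveI := Fact.mk hp
  letI := rowAct P
  obtain ⟨b, hb, h0⟩ := (hP.isPGroup hp).exists_fixed_point_of_prime_dvd_card_of_fixed_point
    (Fin n → F) (dvd_card_fun hn) (a := 0) (fun g => zero_vecMul _)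
  refine ⟨b, h0.symm, fun g hg => ?_⟩
  have : b ᵥ* (((⟨g, hg⟩ : P)⁻¹⁻¹ : P) : GL (Fin n) F).val = b := hb (⟨g, hg⟩ : P)⁻¹
  rwa [inv_inv] at this

/-- the coordinate line -/
def OnLine (j : Fin n) (v : Fin n → F) : Prop := ∀ i, i ≠ j → v i = 0

/-- stabilizer of a coordinate line -/
def lineStab (F : Type*) [Field F] (j : Fin n) : Subgroup (GL (Fin n) F) where
  carrier := {g | ∀ v, OnLine j v ↔ OnLine j (g.val *ᵥ v)}
  one_mem' := fun v => by rw [Units.val_one, one_mulVec]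
  mul_mem' := fun {a b} ha hb v => by
    rw [Units.val_mul, ← mulVec_mulVec]; exact (hb v).trans (ha _)
  inv_mem' := fun {a} ha v => by
    have := ha ((a⁻¹).val *ᵥ v)
    rw [mulVec_mulVec, Units.mul_inv, one_mulVec] at this
    exact this.symm

theorem le_lineStab {j : Fin n} {A : Subgroup (GL (Fin n) F)}
    (h : ∀ g ∈ A, ∀ v, OnLine j v → OnLine j (g.val *ᵥ v)) : A ≤ lineStab F j := fun g hg v =>
  ⟨h g hg v, fun h1 => by
    have := h _ (inv_mem hg) _ h1
    rwa [mulVec_mulVec, Units.inv_mul, one_mulVec] at this⟩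

theorem piElt_of_pow {G : Type*} [Group G] {x : G} (hp : p.Prime) {k : ℕ} (h : x ^ p ^ k = 1) :
    PiElt {p} x := (piNat_pow hp k).of_dvd (orderOf_dvd_of_pow_eq_one h)

theorem nil_le_lineStab [CharP F p] (hp : p.Prime) {j : Fin n} {A : Subgroup (GL (Fin n) F)}
    (hA : Group.IsNilpotent A) {x : GL (Fin n) F} (hx : x ∈ A) (hxp : PiElt {p} x)
    (h : ∀ v, x.val *ᵥ v = v → OnLine j v) : A ≤ lineStab F j := by
  have hP := nil_hall_core {p} hA
  have hxP := hxp.mem_core_of_nil hx hA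
  obtain ⟨w, hw0, hw⟩ := exists_col hp j.pos hP.pi
  have hwj := h w (hw x hxP)
  have hj : w j ≠ 0 := fun e => hw0 (funext fun i => by
    by_cases hi : i = j
    · rw [hi, e]; rfl
    · exact hwj i hi)
  refine le_lineStab fun g hg v hv => h _ ?_
  have e : v = (v j / w j) • w := funext fun i => by
    by_cases hi : i = j
    · rw [hi]; simp [hj]
    · simp [hv i hi, hwj i hi]
  have h1 := hw _ (conj_mem_of_mem_norm' (hP.le_norm_of_nil hA hg) hxP)
  have h2 : x.val *ᵥ (g.val *ᵥ w) = g.val *ᵥ w := by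
    conv_rhs => rw [← h1]
    simp only [mulVec_mulVec, ← Units.val_mul, ← mul_assoc, mul_inv_cancel, one_mul]
  rw [e, mulVec_smul, mulVec_smul, h2]

/-- a matrix of determinant one as an element of `GL` -/
noncomputable def slu (M : Matrix (Fin n) (Fin n) F) (h : M.det = 1) : GL (Fin n) F :=
  GeneralLinearGroup.mkOfDetNeZero M (by rw [h]; exact one_ne_zero)

theorem slu_val (M : Matrix (Fin n) (Fin n) F) (h : M.det = 1) : (slu M h).val = M := rfl

theorem not_le_lineStab {K : Subgroup (GL (Fin n) F)} (hK : ∀ g : GL (Fin n) F, g.val.det = 1 → g ∈ K)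
    {i j : Fin n} (hij : i ≠ j) : ¬ K ≤ lineStab F j := by
  intro h
  have hd : (transvection i j (1 : F)).det = 1 := det_transvection_of_ne i j hij 1
  have := h (hK (slu _ hd) hd) (Pi.single j 1)
  have := this.1 (fun k hk => by simp [hk]) i hij
  rw [slu_val] at this
  simp [transvection, hij] at this

/-- the shift matrix -/
def shift (F : Type*) [Field F] (σ : Equiv.Perm (Fin n)) : Matrix (Fin n) (Fin n) F :=
  of fun i j => if (σ j).val = (σ i).val + 1 then 1 else 0

theorem shift_pow (σ : Equiv.Perm (Fin n)) (k : ℕ) (i j : Fin n) (h : (shift F σ ^ k) i j ≠ 0) :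
    (σ i).val + k ≤ (σ j).val := by
  induction k generalizing j with
  | zero =>
    by_cases e : i = j
    · rw [e]; exact le_rfl
    · simp [e] at h
  | succ k ih =>
    rw [pow_succ, mul_apply] at h
    obtain ⟨l, -, hl⟩ := Finset.exists_ne_zero_of_sum_ne_zero h
    have h1 := ih l (left_ne_zero_of_mul hl)
    have h2 := right_ne_zero_of_mul hl
    simp only [shift, of_apply, ne_eq, ite_eq_right_iff, one_ne_zero, imp_false, not_not] at h2
    omega

theorem eq_one_of_pow [CharP F p] (hp : p.Prime) {c : F} {k : ℕ} (h : c ^ p ^ k = 1) : c = 1 := by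
  haveI := Fact.mk hp
  have : (c - 1) ^ p ^ k = 0 := by rw [sub_pow_char_pow, h, one_pow, sub_self]
  exact sub_eq_zero.1 (pow_eq_zero_iff (pow_ne_zero k hp.ne_zero) |>.1 this)

theorem exists_unip [CharP F p] (hp : p.Prime) (hn : 0 < n) (σ : Equiv.Perm (Fin n)) :
    ∃ x : GL (Fin n) F, x.val = 1 + shift F σ ∧ PiElt {p} x ∧ x.val.det = 1 := by
  haveI := Fact.mk hp
  haveI : Nonempty (Fin n) := ⟨⟨0, hn⟩⟩
  have h0 : shift F σ ^ p ^ n = 0 := by
    ext i j
    by_contra h
    have := shift_pow σ _ i j h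
    have h2 := Nat.lt_pow_self (n := n) hp.one_lt
    have := (σ j).2
    omega
  have h1 : (1 + shift F σ) ^ p ^ n = 1 := by
    rw [add_pow_char_pow_of_commute p n (Commute.one_left _), h0, one_pow, add_zero]
  have hd : (1 + shift F σ).det = 1 := eq_one_of_pow hp (k := n) (by rw [← det_pow, h1, det_one])
  exact ⟨GeneralLinearGroup.mkOfDetNeZero _ (by rw [hd]; exact one_ne_zero), rfl,
    piElt_of_pow hp (k := n) (Units.ext (by rw [Units.val_pow_eq_pow_val]; exact h1)), hd⟩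

theorem shift_col {σ : Equiv.Perm (Fin n)} {v : Fin n → F} (h : (1 + shift F σ) *ᵥ v = v)
    (j : Fin n) (hj : (σ j).val ≠ 0) : v j = 0 := by
  rw [add_mulVec, one_mulVec, add_eq_left] at h
  have := congrFun h (σ.symm ⟨(σ j).val - 1, by omega⟩)
  rw [mulVec, dotProduct, Finset.sum_eq_single j] at this
  · simp only [shift, of_apply, Equiv.apply_symm_apply] at this
    rwa [if_pos (by omega), one_mul] at this
  · intro b _ hb
    simp only [shift, of_apply, Equiv.apply_symm_apply]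
    rw [if_neg (fun e => hb (σ.injective (Fin.ext (by omega)))), zero_mul]
  · simp

theorem shift_row {σ : Equiv.Perm (Fin n)} {v : Fin n → F} (h : v ᵥ* (1 + shift F σ) = v)
    (i : Fin n) (hi : (σ i).val + 1 < n) : v i = 0 := by
  rw [vecMul_add, vecMul_one, add_eq_left] at h
  have := congrFun h (σ.symm ⟨(σ i).val + 1, hi⟩)
  rw [vecMul, dotProduct, Finset.sum_eq_single i] at this
  · simp only [shift, of_apply, Equiv.apply_symm_apply] at this
    rwa [if_pos trivial, mul_one] at this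
  · intro b _ hb
    simp only [shift, of_apply, Equiv.apply_symm_apply]
    rw [if_neg (fun e => hb (σ.injective (Fin.ext (by omega)))), mul_zero]
  · simp

theorem no_nmc_three (hn : 3 ≤ n) {K : Subgroup (GL (Fin n) F)}
    (hK : ∀ g : GL (Fin n) F, g.val.det = 1 → g ∈ K) {𝓐 : Finset (Subgroup (GL (Fin n) F))}
    (h : IsNMC (center _) K 𝓐) : False := by
  obtain ⟨p, hc⟩ := CharP.exists F
  have hp : p.Prime := CharP.char_is_prime F p
  let a : Fin n := ⟨n - 2, by omega⟩
  let b : Fin n := ⟨n - 1, by omega⟩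
  let o : Fin n := ⟨0, by omega⟩
  obtain ⟨x, ex, px, dx⟩ := exists_unip (F := F) hp (by omega) (1 : Equiv.Perm (Fin n))
  obtain ⟨y, ey, py, dy⟩ := exists_unip (F := F) hp (by omega) (Equiv.swap a b)
  obtain ⟨A, hA, hxA⟩ := h.cov x (hK x dx)
  obtain ⟨B, hB, hyB⟩ := h.cov y (hK y dy)
  have ho : Equiv.swap a b o = o :=
    Equiv.swap_apply_of_ne_of_ne (by simp [a, o]; omega) (by simp [b, o]; omega)
  refine not_le_lineStab hK (i := b) (j := o) (by simp [b, o]; omega) (h.pair hA hB ?_ ?_ ?_)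
  · rintro rfl
    obtain ⟨v, hv0, hv⟩ := exists_row hp (by omega) (nil_hall_core {p} (h.nil A hA)).pi
    have h1 := hv x (px.mem_core_of_nil hxA (h.nil A hA))
    have h2 := hv y (py.mem_core_of_nil hyB (h.nil A hA))
    rw [ex] at h1
    rw [ey] at h2
    refine hv0 (funext fun i => ?_)
    by_cases hi : i = b
    · refine shift_row h2 i ?_
      rw [hi, Equiv.swap_apply_right]; simp only [a]; omega
    · refine shift_row h1 i ?_
      have : i.val ≠ n - 1 := fun e => hi (Fin.ext e)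
      have := i.2
      simp only [Equiv.Perm.coe_one, id]; omega
  · refine nil_le_lineStab hp (h.nil A hA) hxA px fun v hv i hi => ?_
    rw [ex] at hv
    exact shift_col hv i fun e => hi (Fin.ext e)
  · refine nil_le_lineStab hp (h.nil B hB) hyB py fun v hv i hi => ?_
    rw [ey] at hv
    exact shift_col hv i fun e => hi ((Equiv.swap a b).injective (by rw [ho]; exact Fin.ext e))

/-! ### dimension two -/

theorem mem_center_two {g : GL (Fin 2) F} :
    g ∈ center (GL (Fin 2) F) ↔ g.val 0 1 = 0 ∧ g.val 1 0 = 0 ∧ g.val 0 0 = g.val 1 1 := by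
  rw [GeneralLinearGroup.mem_center_iff_val_mem_range_scalar]
  constructor
  · rintro ⟨c, hc⟩
    rw [← hc]; simp
  · rintro ⟨h1, h2, h3⟩
    refine ⟨g.val 0 0, ?_⟩
    ext i j
    fin_cases i <;> fin_cases j <;> simp [h1, h2, h3]

theorem comm_two {a b : GL (Fin 2) F} : a * b = b * a ↔
    a.val 0 1 * b.val 1 0 = b.val 0 1 * a.val 1 0 ∧
    (a.val 0 0 - a.val 1 1) * b.val 0 1 = (b.val 0 0 - b.val 1 1) * a.val 0 1 ∧
    (a.val 0 0 - a.val 1 1) * b.val 1 0 = (b.val 0 0 - b.val 1 1) * a.val 1 0 := by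
  rw [Units.ext_iff, Units.val_mul, Units.val_mul, ← Matrix.ext_iff]
  simp only [Fin.forall_fin_two, mul_apply, Fin.sum_univ_two]
  constructor
  · rintro ⟨⟨h1, h2⟩, h3, -⟩
    exact ⟨by linear_combination h1, by linear_combination h2, by linear_combination -h3⟩
  · rintro ⟨h1, h2, h3⟩
    exact ⟨⟨by linear_combination h1, by linear_combination h2⟩, by linear_combination -h3,
      by linear_combination -h1⟩

theorem comm_of_cent {a b z : GL (Fin 2) F} (hz : z ∉ center (GL (Fin 2) F)) (ha : a * z = z * a)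
    (hb : b * z = z * b) : a * b = b * a := by
  rw [comm_two] at *
  obtain ⟨a1, a2, a3⟩ := ha
  obtain ⟨b1, b2, b3⟩ := hb
  rw [mem_center_two] at hz
  generalize a.val 0 0 - a.val 1 1 = α at *
  generalize b.val 0 0 - b.val 1 1 = β at *
  by_cases h1 : z.val 0 1 = 0
  · by_cases h2 : z.val 1 0 = 0
    · have h3 : z.val 0 0 - z.val 1 1 ≠ 0 := fun e => hz ⟨h1, h2, sub_eq_zero.1 e⟩
      generalize z.val 0 0 - z.val 1 1 = ζ at *
      refine ⟨mul_left_cancel₀ h3 ?_, mul_left_cancel₀ h3 ?_, mul_left_cancel₀ h3 ?_⟩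
      · linear_combination (-b.val 1 0) * a2 + (b.val 0 1) * a3 - α * b1
      · linear_combination β * a2 - α * b2
      · linear_combination β * a3 - α * b3
    · refine ⟨mul_left_cancel₀ h2 ?_, mul_left_cancel₀ h2 ?_, mul_left_cancel₀ h2 ?_⟩
      · linear_combination (b.val 1 0) * a1 - (a.val 1 0) * b1
      · linear_combination (b.val 0 1) * a3 - β * a1 - (a.val 1 0) * b2
      · linear_combination (b.val 1 0) * a3 - (a.val 1 0) * b3
  · refine ⟨mul_left_cancel₀ h1 ?_, mul_left_cancel₀ h1 ?_, mul_left_cancel₀ h1 ?_⟩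
    · linear_combination (b.val 0 1) * a1 - (a.val 0 1) * b1
    · linear_combination (b.val 0 1) * a2 - (a.val 0 1) * b2
    · linear_combination (b.val 1 0) * a2 + β * a1 - (a.val 0 1) * b3

theorem cent1_eq {u v : GL (Fin 2) F} (hu : u ∉ center (GL (Fin 2) F)) (hv : v ∉ center (GL (Fin 2) F))
    (h : u * v = v * u) : 𝓒₁(u) = 𝓒₁(v) :=
  le_antisymm (fun _ hg => mem_cent1.2 (comm_of_cent hu (mem_cent1.1 hg) h.symm))
    (fun _ hg => mem_cent1.2 (comm_of_cent hv (mem_cent1.1 hg) h))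

theorem nil_le_cent1 {r : ℕ} (hr : r.Prime) (ho : Odd r) {A : Subgroup (GL (Fin 2) F)}
    (hA : Group.IsNilpotent A) {x : GL (Fin 2) F} (hx : x ∈ A) (hxr : x ^ r = 1)
    (h1 : x ∉ center (GL (Fin 2) F)) : A ≤ 𝓒₁(x) := by
  have hP := nil_hall_core {r} hA
  have hxP := (piElt_of_pow hr (k := 1) (by rwa [pow_one])).mem_core_of_nil hx hA
  obtain ⟨z, hz, hz1, hc⟩ := CA.PGBasic.exists_layer (N := center _) hA le_rfl hP.le
    (hP.le_norm_of_nil hA) (fun h => h1 (h hxP))
  have key : ∀ g ∈ A, g * z = z * g := by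
    intro g hg
    have h2 : ⁅z, g⁆ ∈ 𝓞({r}, A) := by
      rw [commutatorElement_def, mul_assoc, mul_assoc, ← mul_assoc g]
      exact mul_mem hz (conj_mem_of_mem_norm (hP.le_norm_of_nil hA hg) (inv_mem hz))
    obtain ⟨c, hc⟩ := GeneralLinearGroup.mem_center_iff_val_mem_range_scalar.1 (hc g hg)
    have hd : (⁅z, g⁆ : GL (Fin 2) F).val.det = 1 := by
      have : GeneralLinearGroup.det (⁅z, g⁆ : GL (Fin 2) F) = 1 := by
        rw [map_commutatorElement, commutatorElement_eq_one_iff_mul_comm, mul_comm]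
      exact congrArg Units.val this
    have h3 : ⁅z, g⁆ ^ 2 = 1 := by
      rw [← hc, scalar_apply, det_diagonal, Finset.prod_const, Finset.card_univ, Fintype.card_fin] at hd
      apply Units.ext
      rw [Units.val_pow_eq_pow_val, ← hc, ← map_pow, hd, map_one, Units.val_one]
    have h4 : PiElt {r}ᶜ ⁅z, g⁆ := PiNat.of_dvd ((piNat_prime Nat.prime_two).2 (by
      rintro rfl; exact absurd ho (by decide))) (orderOf_dvd_of_pow_eq_one h3)
    exact (commutatorElement_eq_one_iff_mul_comm.1 (PiElt.eq_one (hP.pi.orderOf h2) h4)).symm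
  exact fun g hg => mem_cent1.2 (comm_of_cent hz1 (key g hg) (key x hx))

theorem one_not_center {x : GL (Fin 2) F} {s : ℕ} (hs : ∀ c : F, c ^ s = 1 → c = 1) (hx : x ^ s = 1)
    (h1 : x.val 0 1 = 0) (h2 : x.val 1 0 = 0) : x = 1 := by
  have e : x.val = diagonal ![x.val 0 0, x.val 1 1] := by
    ext i j
    fin_cases i <;> fin_cases j <;> simp [h1, h2]
  have h3 : x.val ^ s = 1 := by rw [← Units.val_pow_eq_pow_val, hx, Units.val_one]
  rw [e, diagonal_pow] at h3
  have a0 := hs _ (show x.val 0 0 ^ s = 1 by simpa using congrFun (congrFun h3 0) 0)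
  have a1 := hs _ (show x.val 1 1 ^ s = 1 by simpa using congrFun (congrFun h3 1) 1)
  apply Units.ext
  rw [e, a0, a1]
  ext i j
  fin_cases i <;> fin_cases j <;> simp

/-- the diagonal element `diag(a, a⁻¹)` -/
noncomputable def dg (a : Fˣ) : GL (Fin 2) F :=
  slu (diagonal ![(a : F), (a⁻¹ : Fˣ)]) (by simp)

theorem dg_diag {a : Fˣ} (ha : a ^ 2 ≠ 1) {g : GL (Fin 2) F} (h : g * dg a = dg a * g) :
    g.val 0 1 = 0 ∧ g.val 1 0 = 0 := by
  rw [comm_two] at h
  have h1 : (a : F) - (a⁻¹ : Fˣ) ≠ 0 := fun e => ha (by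
    rw [pow_two, mul_eq_one_iff_eq_inv]; exact Units.ext (sub_eq_zero.1 e))
  simp only [dg, slu_val, diagonal_apply_eq, cons_val_zero, cons_val_one, ne_eq, zero_ne_one,
    not_false_eq_true, diagonal_apply_ne, mul_zero, one_ne_zero] at h
  exact ⟨(mul_eq_zero.1 h.2.1.symm).resolve_left h1, (mul_eq_zero.1 h.2.2.symm).resolve_left h1⟩

theorem no_nmc_two_a {r : ℕ} (hr : r.Prime) (ho : Odd r) (hd : r ∣ Fintype.card F - 1)
    {K : Subgroup (GL (Fin 2) F)}
    (hK : ∀ g : GL (Fin 2) F, g.val.det = 1 → g ∈ K) {𝓐 : Finset (Subgroup (GL (Fin 2) F))}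
    (h : IsNMC (center _) K 𝓐) : False := by
  classical
  obtain ⟨p, hc⟩ := CharP.exists F
  have hp : p.Prime := CharP.char_is_prime F p
  haveI := Fact.mk hr
  obtain ⟨a, ha⟩ := exists_prime_orderOf_dvd_card' (G := Fˣ) r (by
    rwa [Nat.card_units, Nat.card_eq_fintype_card])
  have ha2 : a ^ 2 ≠ 1 := fun e => by
    have := orderOf_dvd_of_pow_eq_one e
    rw [ha, Nat.prime_dvd_prime_iff_eq hr Nat.prime_two] at this
    exact absurd (this ▸ ho) (by decide)
  obtain ⟨x, ex, px, dx⟩ := exists_unip (F := F) hp two_pos (1 : Equiv.Perm (Fin 2))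
  obtain ⟨A, hA, hxA⟩ := h.cov x (hK x dx)
  obtain ⟨B, hB, hyB⟩ := h.cov (dg a) (hK _ (by simp [dg, slu_val]))
  have har : a ^ r = 1 := ha ▸ pow_orderOf_eq_one a
  have hB1 : B ≤ 𝓒₁(dg a) := nil_le_cent1 hr ho (h.nil B hB) hyB (by
    apply Units.ext
    rw [Units.val_pow_eq_pow_val, dg, slu_val, diagonal_pow]
    ext i j
    fin_cases i <;> fin_cases j <;> simp [← Units.val_pow_eq_pow_val, har]) (fun hz => by
      have := dg_diag ha2 (mem_center_iff.1 hz x)
      simp [ex, shift] at this)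
  refine not_le_lineStab hK (i := 1) (j := 0) (by decide) (h.pair hA hB ?_ ?_ ?_)
  · rintro rfl
    have := dg_diag ha2 (mem_cent1.1 (hB1 hxA))
    simp [ex, shift] at this
  · refine nil_le_lineStab hp (h.nil A hA) hxA px fun v hv i hi => ?_
    rw [ex] at hv
    exact shift_col hv i fun e => hi (Fin.ext e)
  · refine le_lineStab fun g hg v hv i hi => ?_
    obtain rfl : i = 1 := by omega
    simp [mulVec, dotProduct, (dg_diag ha2 (mem_cent1.1 (hB1 hg))).2, hv 1 hi]

theorem exists_eigen [CharP F p] (hp : p.Prime) (g : GL (Fin 2) F) {v : Fin 2 → F} (hv : v ≠ 0) {t : F}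
    (h : g.val *ᵥ v = t • v) :
    ∃ x : GL (Fin 2) F, x ^ p = 1 ∧ x ≠ 1 ∧ g * x * g⁻¹ * x = x * (g * x * g⁻¹) := by
  haveI := Fact.mk hp
  let φ : Fin 2 → F := ![-v 1, v 0]
  let N := vecMulVec v φ
  have h0 : φ ⬝ᵥ v = 0 := by simp [φ, dotProduct]; ring
  have key : ∀ (M : Matrix (Fin 2) (Fin 2) F) (t : F), M *ᵥ v = t • v → N * M * N = 0 := by
    intro M t h
    rw [mul_assoc, mul_vecMulVec, h, vecMulVec_mul_vecMulVec, dotProduct_smul, h0]
    simp
  have hN : N * N = 0 := by simpa using key 1 1 (by simp)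
  have ht : t ≠ 0 := fun e => hv (by
    have := congrArg ((g⁻¹).val *ᵥ ·) h
    simpa only [e, mulVec_mulVec, Units.inv_mul, one_mulVec, zero_smul, mulVec_zero] using this)
  have h' : (g⁻¹).val *ᵥ v = t⁻¹ • v := by
    have := congrArg ((g⁻¹).val *ᵥ ·) h
    simp only [mulVec_mulVec, Units.inv_mul, one_mulVec, mulVec_smul] at this
    conv_rhs => rw [this, smul_smul, inv_mul_cancel₀ ht, one_smul]
  have hd : (1 + N).det = 1 := by simp [det_fin_two, N, φ]; ring
  refine ⟨slu _ hd, Units.ext ?_, fun e => hv ?_, Units.ext ?_⟩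
  · rw [Units.val_pow_eq_pow_val, slu_val, add_pow_char_of_commute p (Commute.one_left _), one_pow,
      Units.val_one, add_eq_left]
    obtain ⟨k, hk⟩ := Nat.exists_eq_add_of_le hp.two_le
    rw [hk, pow_add, pow_two, hN, zero_mul]
  · have : (1 + N) = 1 := congrArg Units.val e
    rw [add_eq_left] at this
    have a0 := congrFun (congrFun this 0) 1
    have a1 := congrFun (congrFun this 1) 0
    simp [N, φ] at a0 a1
    ext i
    fin_cases i <;> simp [a0, a1]
  · have e1 := key _ _ h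
    have e2 := key _ _ h'
    simp only [Units.val_mul, slu_val]
    have e3 : g.val * (1 + N) * (g⁻¹).val = 1 + g.val * N * (g⁻¹).val := by
      rw [mul_add, add_mul, mul_one, Units.mul_inv]
    rw [e3]
    have e4 : g.val * N * (g⁻¹).val * N = 0 := by rw [mul_assoc, mul_assoc, ← mul_assoc N, e2, mul_zero]
    have e5 : N * (g.val * N * (g⁻¹).val) = 0 := by rw [← mul_assoc, ← mul_assoc, e1, zero_mul]
    simp only [mul_add, add_mul, mul_one, one_mul, e4, e5, add_zero]
    abel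

theorem card_cent1 (g : GL (Fin 2) F) (h : ∀ v : Fin 2 → F, v ≠ 0 → ∀ t : F, g.val *ᵥ v ≠ t • v) :
    ♯𝓒₁(g) = Fintype.card F ^ 2 - 1 := by
  classical
  have h10 : g.val 1 0 ≠ 0 := fun e => h (Pi.single 0 1) (by simp) (g.val 0 0) (by
    ext i
    fin_cases i <;> simp [e])
  have hdet : ∀ w : F × F, w ≠ 0 → (w.1 • (1 : Matrix (Fin 2) (Fin 2) F) + w.2 • g.val).det ≠ 0 := by
    intro w hw e
    obtain ⟨v, hv, h1⟩ := exists_mulVec_eq_zero_iff.2 e
    rw [add_mulVec, smul_mulVec, smul_mulVec, one_mulVec] at h1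
    by_cases h2 : w.2 = 0
    · rw [h2, zero_smul, add_zero, smul_eq_zero] at h1
      exact hw (Prod.ext (h1.resolve_right hv) h2)
    · refine h v hv (-(w.2⁻¹ * w.1)) ?_
      rw [add_eq_zero_iff_neg_eq] at h1
      rw [neg_smul, mul_smul, ← smul_neg, h1, smul_smul, inv_mul_cancel₀ h2, one_smul]
  let f : {w : F × F // w ≠ 0} → 𝓒₁(g) := fun w =>
    ⟨GeneralLinearGroup.mkOfDetNeZero _ (hdet w.1 w.2), mem_cent1.2 (Units.ext (by
      change (w.1.1 • (1 : Matrix (Fin 2) (Fin 2) F) + w.1.2 • g.val) * g.val = g.val * (w.1.1 • 1 + w.1.2 • g.val)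
      simp [add_mul, mul_add]))⟩
  have hf : ∀ w, (f w).1.val = w.1.1 • (1 : Matrix (Fin 2) (Fin 2) F) + w.1.2 • g.val := fun _ => rfl
  rw [← Nat.card_eq_of_bijective f ⟨fun w w' e => ?_, fun a => ?_⟩]
  · rw [Nat.card_eq_fintype_card, Fintype.card_subtype_compl, Fintype.card_prod, pow_two]; simp
  · have e1 : (f w).1.val = (f w').1.val := by rw [e]
    rw [hf, hf] at e1
    have a0 := congrFun (congrFun e1 1) 0
    have a1 := congrFun (congrFun e1 0) 0
    simp [h10] at a0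
    simp [a0] at a1
    exact Subtype.ext (Prod.ext a1 a0)
  · obtain ⟨c1, c2, c3⟩ := comm_two.1 (mem_cent1.1 a.2)
    have e : a.1.val = (a.1.val 0 0 - a.1.val 1 0 / g.val 1 0 * g.val 0 0) • (1 : Matrix (Fin 2) (Fin 2) F) +
        (a.1.val 1 0 / g.val 1 0) • g.val := by
      ext i j
      fin_cases i <;> fin_cases j <;> simp <;> field_simp
      · linear_combination c1
      · linear_combination -c3
    refine ⟨⟨(_, _), fun e0 => ?_⟩, Subtype.ext (Units.ext e.symm)⟩
    rw [Prod.mk_eq_zero] at e0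
    rw [e0.1, e0.2, zero_smul, zero_smul, add_zero] at e
    exact a.1.ne_zero e

theorem no_nmc_two_b {r : ℕ} (hr : r.Prime) (ho : Odd r) (hd : r ∣ Fintype.card F + 1)
    (h2 : (2 : F) ≠ 0) (h4 : 4 ≤ Fintype.card F) {K : Subgroup (GL (Fin 2) F)}
    (hK : ∀ g : GL (Fin 2) F, g.val.det = 1 → g ∈ K) {𝓐 : Finset (Subgroup (GL (Fin 2) F))}
    (h : IsNMC (center _) K 𝓐) : False := by
  classical
  obtain ⟨p, hc⟩ := CharP.exists F
  have hp : p.Prime := CharP.char_is_prime F p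
  have hpo : Odd p := hp.odd_of_ne_two (by rintro rfl; exact h2 (CharP.cast_eq_zero F 2))
  haveI := Fact.mk hr
  have hrc : ∀ c : F, c ^ r = 1 → c = 1 := by
    intro c hc
    have h0 : c ≠ 0 := by rintro rfl; simp [hr.ne_zero] at hc
    have h1 := FiniteField.pow_card_sub_one_eq_one c h0
    rw [← orderOf_eq_one_iff]
    refine Nat.eq_one_of_dvd_coprimes ?_ (orderOf_dvd_of_pow_eq_one hc) (orderOf_dvd_of_pow_eq_one h1)
    rw [hr.coprime_iff_not_dvd]
    intro h3
    have := Nat.dvd_sub hd h3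
    rw [show Fintype.card F + 1 - (Fintype.card F - 1) = 2 by omega,
      Nat.prime_dvd_prime_iff_eq hr Nat.prime_two] at this
    exact absurd (this ▸ ho) (by decide)
  have hx : ∀ g : GL (Fin 2) F, ∃ x : GL (Fin 2) F, (∃ s : ℕ, s.Prime ∧ Odd s ∧
      (∀ c : F, c ^ s = 1 → c = 1) ∧ x ^ s = 1) ∧ x ≠ 1 ∧ g * x * g⁻¹ * x = x * (g * x * g⁻¹) := by
    intro g
    by_cases hg : ∀ v : Fin 2 → F, v ≠ 0 → ∀ t : F, g.val *ᵥ v ≠ t • v
    · obtain ⟨⟨x, hx⟩, ox⟩ := exists_prime_orderOf_dvd_card' (G := 𝓒₁(g)) r (by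
        rw [card_cent1 g hg, ← one_pow 2, Nat.sq_sub_sq]; exact hd.mul_right _)
      rw [← orderOf_coe] at ox
      simp only at ox
      refine ⟨x, ⟨r, hr, ho, hrc, ox ▸ pow_orderOf_eq_one x⟩,
        fun e => hr.one_lt.ne (by rw [← ox, e, orderOf_one]), ?_⟩
      rw [← mem_cent1.1 hx, mul_inv_cancel_right]
    · push Not at hg
      obtain ⟨v, hv, t, ht⟩ := hg
      obtain ⟨x, a1, a2, a3⟩ := exists_eigen hp g hv ht
      exact ⟨x, ⟨p, hp, hpo, fun c hc => eq_one_of_pow hp (k := 1) (by rwa [pow_one]), a1⟩, a2, a3⟩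
  choose x hx1 hx2 hx3 using hx
  have hz : ∀ g, x g ∉ center (GL (Fin 2) F) := fun g hg => by
    obtain ⟨s, -, -, b1, b2⟩ := hx1 g
    exact hx2 g (one_not_center b1 b2 (mem_center_two.1 hg).1 (mem_center_two.1 hg).2.1)
  have hA : ∀ g, ∀ A ∈ 𝓐, x g ∈ A → A ≤ 𝓒₁(x g) := fun g A hA hx => by
    obtain ⟨s, b0, b3, -, b2⟩ := hx1 g
    exact nil_le_cent1 b0 b3 (h.nil A hA) hx b2 (hz g)
  obtain ⟨a, ha⟩ : ∃ a : Fˣ, a ^ 2 ≠ 1 := by
    by_contra h3
    push Not at h3
    have := FiniteField.forall_pow_eq_one_iff F 2 |>.1 h3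
    have := Nat.le_of_dvd two_pos this
    omega
  refine h.count x (fun g => 𝓝(𝓒₁(x g))) (fun g _ => ⟨hK _ ?_, ?_, center_le_normalizer _, ?_⟩)
    (fun g _ g' _ A hA' h1 h2 => ?_) (y := dg a) (hK _ (by simp [dg, slu_val])) fun g _ A hA' h1 h2 => ?_
  · obtain ⟨s, -, -, b1, b2⟩ := hx1 g
    exact b1 _ (by rw [← det_pow, ← Units.val_pow_eq_pow_val, b2, Units.val_one, det_one])
  · rw [mem_norm_iff_cj, cj_cent1]
    refine cent1_eq (fun h1 => hz g ?_) (hz g) (hx3 g)
    have := (inferInstance : (center (GL (Fin 2) F)).Normal).conj_mem _ h1 g⁻¹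
    simpa [mul_assoc] using this
  · intro h1
    have d1 : (!![1, 1; 0, 1] : Matrix (Fin 2) (Fin 2) F).det = 1 := by simp
    have d2 : (!![1, 0; 1, 1] : Matrix (Fin 2) (Fin 2) F).det = 1 := by simp
    have d1' : (!![1, -1; 0, 1] : Matrix (Fin 2) (Fin 2) F).det = 1 := by simp
    have d2' : (!![1, 0; -1, 1] : Matrix (Fin 2) (Fin 2) F).det = 1 := by simp
    have i1 : (slu _ d1)⁻¹ = slu _ d1' := inv_eq_of_mul_eq_one_right (Units.ext (by
      simp [slu_val, one_fin_two]))
    have i2 : (slu _ d2)⁻¹ = slu _ d2' := inv_eq_of_mul_eq_one_right (Units.ext (by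
      simp [slu_val, one_fin_two]))
    have c1 := comm_two.1 (mem_cent1.1 (conj_mem_of_mem_norm (h1 (hK (slu _ d1) d1)) (mem_cent1_self _)))
    have c2 := comm_two.1 (mem_cent1.1 (conj_mem_of_mem_norm (h1 (hK (slu _ d2) d2)) (mem_cent1_self _)))
    rw [i1] at c1
    rw [i2] at c2
    simp only [Units.val_mul, slu_val, mul_apply, Fin.sum_univ_two, of_apply, cons_val', cons_val_zero,
      cons_val_one, cons_val_fin_one] at c1 c2
    have e1 : (x g).val 1 0 = 0 := by
      have : 2 * ((x g).val 1 0 * (x g).val 1 0) = 0 := by linear_combination c1.2.2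
      simpa [h2] using this
    have e2 : (x g).val 0 1 = 0 := by
      have : 2 * ((x g).val 0 1 * (x g).val 0 1) = 0 := by linear_combination -c2.2.1
      simpa [h2] using this
    obtain ⟨s, -, -, b1, b2⟩ := hx1 g
    exact hx2 g (one_not_center b1 b2 e2 e1)
  · rw [cent1_eq (hz g') (hz g) (mem_cent1.1 (hA g A hA' h1 h2))]
  · obtain ⟨s, -, -, b1, b2⟩ := hx1 g
    have := dg_diag ha (mem_cent1.1 (hA g A hA' h1 h2)).symm
    exact hx2 g (one_not_center b1 b2 this.1 this.2)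

theorem no_nmc_two (h4 : 4 ≤ Fintype.card F) {K : Subgroup (GL (Fin 2) F)}
    (hK : ∀ g : GL (Fin 2) F, g.val.det = 1 → g ∈ K) {𝓐 : Finset (Subgroup (GL (Fin 2) F))}
    (h : IsNMC (center _) K 𝓐) : False := by
  rcases Nat.eq_two_pow_or_exists_odd_prime_and_dvd (Fintype.card F - 1) with ⟨k, hk⟩ | ⟨r, hr, hd, ho⟩
  · obtain ⟨k, rfl⟩ : ∃ j, k = j + 2 := ⟨k - 2, by
      rcases k with _ | _ | k
      · omega
      · omega
      · omega⟩
    have hq : Fintype.card F + 1 = 2 * (2 * 2 ^ k + 1) := by rw [pow_add] at hk; omega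
    have hpos : 0 < 2 ^ k := by positivity
    obtain ⟨r, hr, hd⟩ := Nat.exists_prime_and_dvd (n := 2 * 2 ^ k + 1) (by omega)
    refine no_nmc_two_b hr (Odd.of_dvd_nat ⟨2 ^ k, rfl⟩ hd) (hq ▸ hd.mul_left _) (fun h2 => ?_) h4 hK h
    have h3 : ((Fintype.card F + 1 : ℕ) : F) = 0 := by rw [hq, Nat.cast_mul, Nat.cast_ofNat, h2, zero_mul]
    rw [Nat.cast_add, FiniteField.cast_card_eq_zero, zero_add, Nat.cast_one] at h3
    exact one_ne_zero h3
  · exact no_nmc_two_a hr ho hd hK h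

end CA.NMC
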