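import Cfsg.Agent.Lib.Solv.HH5
import Cfsg.Agent.Lib.Grp.Frob2

/-!
The order of an irreducible module for a group of prime order; `p`-closed groups.
-/

set_option autoImplicit false
set_option linter.unusedSectionVars false
set_option linter.unusedVariables false
set_option linter.style.haveILetI false

namespace CA.PX
open Subgroup Cfsg CA.OQuo CA.BG CA.BGRep CA.HH Module Polynomial
open scoped commutatorElement

theorem finrank_le_natDegree {k W : Type*} [Field k] [AddCommGroup W] [Module k W] [Nontrivial W]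
    {T : End k W} (hi : ∀ U : Submodule k W, (∀ w ∈ U, T w ∈ U) → U = ⊥ ∨ U = ⊤) {f : k[X]}
    (hf : f.Monic) (h : aeval T f = 0) : finrank k W ≤ f.natDegree := by
  obtain ⟨v, hv⟩ := exists_ne (0 : W)
  let φ : k[X] →ₗ[k] W := (LinearMap.applyₗ v).comp (aeval T).toLinearMap
  have hφ : ∀ g, φ g = aeval T g v := fun g => rfl
  have h1 : LinearMap.range φ = ⊤ := (hi _ (by
    rintro _ ⟨g, rfl⟩
    exact ⟨X * g, by rw [hφ, hφ, map_mul, aeval_X]; rfl⟩)).resolve_left fun h1 =>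
      hv ((Submodule.mem_bot k).1 (h1.le ⟨1, by rw [hφ, map_one]; rfl⟩))
  have h2 : (degreeLT k f.natDegree).map φ = ⊤ := by
    refine top_le_iff.1 (h1.ge.trans ?_)
    rintro _ ⟨g, rfl⟩
    refine ⟨g %ₘ f, mem_degreeLT.2 (degree_eq_natDegree hf.ne_zero ▸ degree_modByMonic_lt g hf), ?_⟩
    rw [hφ, hφ, aeval_modByMonic_eq_self_of_root h]
  have h3 := Submodule.finrank_map_le φ (degreeLT k f.natDegree)
  rwa [h2, finrank_top, (degreeLTEquiv k f.natDegree).finrank_eq, finrank_fin_fun] at h3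

theorem irreducible_minpoly {k W : Type*} [Field k] [AddCommGroup W] [Module k W] [Nontrivial W]
    [FiniteDimensional k W] {T : End k W}
    (hi : ∀ U : Submodule k W, (∀ w ∈ U, T w ∈ U) → U = ⊥ ∨ U = ⊤) :
    Irreducible (minpoly k T) := by
  have hT : IsIntegral k T := Algebra.IsIntegral.isIntegral T
  obtain ⟨f, hf, g, hg⟩ := exists_irreducible_of_natDegree_pos (minpoly.natDegree_pos hT)
  rcases hi (LinearMap.ker (aeval T f)) (fun w hw => by
    have h1 : aeval T (f * X) = aeval T (X * f) := by rw [mul_comm]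
    rw [map_mul, map_mul, aeval_X] at h1
    rw [LinearMap.mem_ker, ← Module.End.mul_apply, h1, Module.End.mul_apply,
      LinearMap.mem_ker.1 hw, map_zero]) with h | h
  · have h1 : aeval T g = 0 := LinearMap.ext fun w => LinearMap.ker_eq_bot'.1 h _ (by
      rw [← Module.End.mul_apply, ← map_mul, ← hg, minpoly.aeval]; rfl)
    have h2 := minpoly.dvd k T h1
    have h3 : g ≠ 0 := fun h => minpoly.ne_zero hT (by rw [hg, h, mul_zero])
    rw [hg] at h2
    exact absurd (isUnit_of_dvd_one ((mul_dvd_mul_iff_right h3).1 (by rwa [one_mul]))) hf.not_isUnit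
  · exact (associated_of_dvd_dvd ⟨g, hg⟩ (minpoly.dvd k T (LinearMap.ker_eq_top.1 h))).irreducible hf

variable {G : Type*} [Group G] [Finite G] {p q : ℕ} {A H N P : Subgroup G} {x : G}

theorem card_dvd_of_irr (hq : q.Prime) (hA : IsElementaryAbelian q A) (hx : x ∈ 𝓝(A)) {e : ℕ}
    (he : e ≠ 0) (h : x ^ q ^ e = x) (hmin : ∀ B ≤ A, x ∈ 𝓝(B) → B = ⊥ ∨ B = A) : ♯A ∣ q ^ e := by
  haveI := Fact.mk hq
  rw [← pow_finrank_erep (hV := hA)]
  refine pow_dvd_pow q ?_
  rcases subsingleton_or_nontrivial (EV hA) with h0 | h0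
  · rw [finrank_zero_of_subsingleton]; exact Nat.zero_le e
  have hi : ∀ U : Submodule (ZMod q) (EV hA), (∀ w ∈ U, rp (erep hA) x w ∈ U) → U = ⊥ ∨ U = ⊤ := by
    intro U hU
    refine (hmin (esub U) (esub_le U) (mem_norm_of_cj_le ?_)).imp (fun h => eq_bot_iff.2 fun w hw =>
      EV.val_eq_one.1 (mem_bot.1 (h.le (val_mem_esub.2 hw)))) fun h => eq_top_iff.2 fun w _ =>
        val_mem_esub.1 (h.ge w.val_mem)
    rintro _ ⟨_, ⟨w, hw, rfl⟩, rfl⟩
    exact ⟨_, hU w hw, val_erep hx w⟩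
  refine (finrank_le_natDegree hi (minpoly.monic (Algebra.IsIntegral.isIntegral _))
    (minpoly.aeval _ _)).trans (Nat.le_of_dvd (Nat.pos_of_ne_zero he)
      ((irreducible_minpoly hi).natDegree_dvd_of_dvd_X_pow_card_pow_sub_X (minpoly.dvd _ _ ?_)))
  rw [map_sub, map_pow, aeval_X, Nat.card_zmod, ← rp_pow _ hx, h, sub_self]

/-- the order of a faithful irreducible module for a group of order `p` -/
theorem card_eq_of_irr [hp : Fact p.Prime] (hq : q.Prime) (hpq : q ≠ p)
    (hA : IsElementaryAbelian q A) (hx : x ∈ 𝓝(A)) (ho : orderOf x = p) (hc : x ∉ 𝓒(A))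
    (hmin : ∀ B ≤ A, x ∈ 𝓝(B) → B = ⊥ ∨ B = A) : ♯A = q ^ orderOf (q : ZMod p) := by
  have hq0 : (q : ZMod p) ≠ 0 := fun h => hpq ((Nat.prime_dvd_prime_iff_eq hp.out hq).1
    ((ZMod.natCast_eq_zero_iff _ _).1 h)).symm
  have he : 0 < orderOf (q : ZMod p) := (isOfFinOrder_iff_pow_eq_one.2
    ⟨p - 1, Nat.sub_pos_of_lt hp.out.one_lt, ZMod.pow_card_sub_one_eq_one hq0⟩).orderOf_pos
  obtain ⟨d, hd⟩ := (isPi_of_elem hq hA).exists_card hq
  have h1 := card_dvd_of_irr hq hA hx he.ne' (by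
    rw [← pow_one x, ← pow_mul, pow_eq_pow_iff_modEq, one_mul, ho, ← ZMod.natCast_eq_natCast_iff]
    push_cast; exact pow_orderOf_eq_one _) hmin
  have hX : (♯(zpowers x)).Prime := by rw [Nat.card_zpowers, ho]; exact hp.out
  have h2 : A ⊓ 𝓒₁(x) = ⊥ := (hmin _ inf_le_left (norm_inf (zpowers_le.2 hx) (norm_cent1
    (zpowers_le.2 (mem_cent1_self x))) (mem_zpowers x))).resolve_right fun h =>
      hc (le_cent1_iff.1 (h.ge.trans inf_le_right))
  have h3 := Frob2.Semireg.card_dvd (K := A) (H := zpowers x) (fun y hy h1 => by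
    rw [← cent_eq_cent1_of_prime hX hy h1, cent_zpowers, h2]) (zpowers_le.2 hx)
  rw [Nat.card_zpowers, ho, hd, ← ZMod.natCast_eq_zero_iff,
    Nat.cast_sub (Nat.one_le_pow _ _ hq.pos), sub_eq_zero] at h3
  push_cast at h3
  rw [hd] at h1 ⊢
  refine congrArg _ (le_antisymm ((Nat.pow_dvd_pow_iff_le_right hq.one_lt).1 h1)
    (Nat.le_of_dvd (Nat.pos_of_ne_zero fun h0 => hc ?_) (orderOf_dvd_of_pow_eq_one h3)))
  rw [card_eq_one.1 (hd.trans (by rw [h0, pow_zero]))]
  exact cent_symm bot_le (mem_top x)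

theorem closed_of_pgroup [Fact p.Prime] (h : IsPGroup p G) : IsPClosed p G := fun P => by
  rw [(P.is_maximal' (h.to_subgroup ⊤) le_top).symm]; infer_instance

theorem closed_of_not_dvd [hp : Fact p.Prime] (h : ¬ p ∣ Nat.card G) : IsPClosed p G := fun P => by
  rw [(isPi_of_isPGroup hp.out P.isPGroup').eq_bot ((isPi_compl_iff hp.out).2
    fun h1 => h (h1.trans (card_subgroup_dvd_card _)))]
  infer_instance

theorem closed_of_norm [hp : Fact p.Prime] (h : Syl p P ⊤) (hn : ⊤ ≤ 𝓝(P)) : IsPClosed p G :=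
  fun S => by
    rw [h.eq_of_normal hn (syl_top hp.out S)]
    exact normalizer_eq_top_iff.1 (top_le_iff.1 hn)

theorem norm_of_closed (hp : p.Prime) (h : IsPClosed p H) (hP : Syl p P H) : H ≤ 𝓝(P) := by
  obtain ⟨S, rfl⟩ := hP.exists_sylow hp
  rw [← normal_subgroupOf_iff_le_normalizer (map_subtype_le _), subgroupOf,
    comap_map_eq_self_of_injective H.subtype_injective]
  exact h S

theorem normal_sup_of_closed [hp : Fact p.Prime] [N.Normal] (h : IsPClosed p (G ⧸ N))
    (hP : Syl p P ⊤) : (P ⊔ N).Normal := by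
  obtain ⟨S, rfl⟩ := hP.exists_sylow_top hp.out
  have := (h (S.mapSurjective (QuotientGroup.mk'_surjective N))).comap (QuotientGroup.mk' N)
  rwa [Sylow.coe_mapSurjective, comap_map_eq, QuotientGroup.ker_mk'] at this

theorem closed_of_exp [hp : Fact p.Prime] (h : ∀ x : G, PiNat {p} (orderOf x) → x ^ p = 1)
    (hE : (H : Set G) = {g : G | g ^ p = 1}) : IsPClosed p G := fun P => by
  have h1 : ∀ x, x ∈ H ↔ x ^ p = 1 := fun x => Set.ext_iff.1 hE x
  haveI : H.Normal := ⟨fun x hx g => (h1 _).2 (by rw [conj_pow, (h1 x).1 hx]; simp)⟩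
  have h2 : IsPGroup p H := fun x => ⟨1, Subtype.ext (by rw [pow_one]; exact (h1 x).1 x.2)⟩
  rw [(P.is_maximal' h2 fun x hx => (h1 x).2
    (h x ((isPi_of_isPGroup hp.out P.isPGroup').orderOf hx))).symm]
  infer_instance

end CA.PX
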