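import Cfsg.Agent.Lib.Solv.SS2

/-! Core-free maximal subgroups; families of subnormal subgroups. -/
set_option autoImplicit false
set_option linter.unusedSectionVars false
namespace CA.BG
open Subgroup Cfsg CA.OQuo CA.Subn
variable {G : Type*} [Group G] [Finite G] {π : Set ℕ}
variable {p q m : ℕ} {x y g : G} {A B H K L M N P Q R U V W X : Subgroup G}

/-- `U` is a core-free maximal subgroup of `H`. -/
structure Prim (U H : Subgroup G) : Prop where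
  lt : U < H
  max : ∀ L, U < L → L ≤ H → L = H
  cf : ∀ N, N ≤ U → H ≤ 𝓝(N) → N = ⊥

theorem prim_top (hU : IsCoatom U) (hc : U.normalCore = ⊥) : Prim U ⊤ :=
  ⟨hU.lt_top, fun L a _ => hU.2 L a, fun N a b => by
    have := normal_of_top_le_norm b
    exact eq_bot_mono (normal_le_normalCore.2 a) hc⟩

theorem prim_quo (hM : M < H) (hmax : ∀ L, M < L → L ≤ H → L = H) (hV : V ≤ M) (hn : H ≤ 𝓝(V))
    (h : ∀ L, L ≤ H ⊓ M → H ≤ 𝓝(L) → L ≤ V) : Prim (M /ᵍ V) (H /ᵍ V) := by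
  have hM' := hM.le.trans hn
  refine ⟨mim_lt_mim hn (mker_qh_le hV) hM, fun L a b => ?_, fun N a b => ?_⟩
  · rw [← quo_mpre L, hmax _ (lt_of_le_not_ge ((quo_le_iff hM').1 a.le) fun i =>
      a.not_ge ((qpre_le_iff hM' hV).1 i)) (qpre_le hn (hV.trans hM.le) b)]
  · have c := qpre_le hM' hV a
    exact qpre_eq_self_iff.1 (le_antisymm (h _ (le_inf (c.trans hM.le) c) (norm_qpre hn b))
      (le_qpre N))

namespace Prim
variable (h : Prim U H)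
include h

theorem sup (hN : N ≤ H) (hn : H ≤ 𝓝(N)) (h1 : N ≠ ⊥) : N ⊔ U = H :=
  h.max _ (right_lt_sup.2 fun i => h1 (h.cf N i hn)) (sup_le hN h.lt.le)

theorem cent_inf (hN : N ≤ H) (hn : H ≤ 𝓝(N)) (h1 : N ≠ ⊥) : 𝓒(N) ⊓ U = ⊥ :=
  h.cf _ inf_le_right (h.sup hN hn h1 ▸ sup_le (norm_of_cent (cent_symm inf_le_left))
    (norm_inf (norm_cent (h.lt.le.trans hn)) (le_norm_self U)))

theorem cent_eq (hN : N ≤ H) (hn : H ≤ 𝓝(N)) (h1 : N ≠ ⊥) (hK : K ≤ H) (hc : K ≤ 𝓒(N))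
    (hKn : H ≤ 𝓝(K)) (h2 : K ≠ ⊥) : H ⊓ 𝓒(N) = K := by
  rw [← h.sup hK hKn h2, sup_comm, sup_inf_of_le_right (h.lt.le.trans hKn) hc, inf_comm,
    h.cent_inf hN hn h1, bot_sup_eq]

theorem sdprod (hN : N ≤ H) (hn : H ≤ 𝓝(N)) (h1 : N ≠ ⊥) (hK : K ≤ H) (hc : K ≤ 𝓒(N))
    (hKn : H ≤ 𝓝(K)) (h2 : K ≠ ⊥) : SDProd K U H :=
  ⟨h.lt.le.trans hKn, eq_bot_mono (inf_le_inf_right U hc) (h.cent_inf hN hn h1), h.sup hK hKn h2⟩

/-- A nontrivial nilpotent normal subgroup is the self-centralizing socle. -/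
theorem nil (hL : L ≤ H) (hn : H ≤ 𝓝(L)) (h1 : L ≠ ⊥) (hs : Group.IsNilpotent L) :
    MinNormal L H ∧ H ⊓ 𝓒(L) = L ∧ SDProd L U H ∧ ∃ p, p.Prime ∧ IsElementaryAbelian p L := by
  obtain ⟨N, a, b⟩ := exists_minNormal hn h1
  obtain ⟨p, hp, he⟩ := b.elem (solv_of_nil (nil_of_le hs a))
  have c := a.trans hL
  have d := comm_iff_le_cent.1 he.1
  have e := h.cent_eq c b.2.1 b.1 c d b.2.1 b.1
  obtain rfl := (h.cent_eq c b.2.1 b.1 hL (b.cent_of_nil c hL hn hs) hn h1).symm.trans e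
  exact ⟨b, e, h.sdprod c hn h1 c d hn h1, p, hp, he⟩

theorem norm_eq (hX : X ≤ U) (hn : U ≤ 𝓝(X)) (h1 : X ≠ ⊥) : H ⊓ 𝓝(X) = U :=
  ((le_inf h.lt.le hn).eq_or_lt.resolve_right fun i =>
    h1 (h.cf X hX (inf_eq_left.1 (h.max _ i inf_le_left)))).symm

theorem core_eq_bot (hp : p.Prime) (hL : L ≤ H) (hn : H ≤ 𝓝(L)) (h1 : L ≠ ⊥) (hs : IsPi {p} L) :
    𝓞({p}, U) = ⊥ := by
  obtain ⟨a, -, c, -⟩ := h.nil hL hn h1 (hs.isNilpotent hp)
  have d := (core_le {p} U).trans c.norm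
  have e := a.2.2 _ inf_le_left ((core_pi {p} U).meet_cent hs d h1) (c.sup ▸ sup_le
    (norm_of_comm (h.nil hL hn h1 (hs.isNilpotent hp)).2.2.2.choose_spec.2.1 inf_le_left)
    (norm_inf c.norm (norm_cent (le_norm_core _ _))))
  exact eq_bot_mono (le_inf (cent_symm (inf_eq_left.1 e)) (core_le _ _)) (h.cent_inf hL hn h1)

theorem conj (h' : Prim V H) (hs : Group.IsSolvable H) : ∃ g ∈ H, cj g U = V := by
  have h0 := fit_ne_bot hs h.lt.ne_bot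
  obtain ⟨a, b, c, p, hp, d⟩ := h.nil (fit_le H) (le_norm_fit H) h0 (fit_nil H)
  obtain ⟨-, -, c', -⟩ := h'.nil (fit_le H) (le_norm_fit H) h0 (fit_nil H)
  rcases (fit_le H).eq_or_lt with e | e
  · have : ∀ W, SDProd 𝓕(H) W H → W = ⊥ := fun W i => by
      rw [← i.disj, e, inf_eq_right.2 i.le_right]
    exact ⟨1, one_mem _, by rw [cj_one, this U c, this V c']⟩
  obtain ⟨K, -, hK⟩ := exists_chief_above e le_rfl (le_norm_fit H) (le_norm_self H)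
  obtain ⟨q, hq, -, -, i⟩ := sol_chief_abelem hK (solv_of_le hs hK.2.1)
  have hF := isPi_of_elem hp d
  have hqp : p ≠ q := by
    rintro rfl
    exact hK.1.not_ge (le_fit ((IsPi.of_relIndex (hF.inf_left K) i).isNilpotent hp) hK.2.1 hK.2.2.1)
  have key : ∀ W, Prim W H → SDProd 𝓕(H) W H → Syl q (W ⊓ K) K ∧ H ⊓ 𝓝(W ⊓ K) = W := fun W j k => by
    have l := k.inf_left hK.1.le hK.2.1
    exact ⟨l.hall_right (hF.ne hqp) (isPi_iff.2 (l.relIndex ▸ i)), j.norm_eq inf_le_left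
      (norm_inf (le_norm_self W) (k.le_right.trans hK.2.2.1)) fun e =>
        hK.1.ne (by simpa [e] using l.sup)⟩
  obtain ⟨k1, k2⟩ := key U h c
  obtain ⟨k3, k4⟩ := key V h' c'
  obtain ⟨g, hg, e⟩ := k1.syl_conj hq k3
  exact ⟨g, hK.2.1 hg, by rw [← k2, cj_inf, cj_norm, e, cj_of_mem (hK.2.1 hg), k4]⟩

theorem metab (hc : IsMulCommutative U) : ⁅⁅H, H⁆, ⁅H, H⁆⁆ = ⊥ := by
  have hS : ∀ p, p.Prime → p ∣ ♯U → ∃ P, Syl p P H ∧ P ≤ U ∧ H ⊓ 𝓝(P) = U := fun p hp hd => by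
    obtain ⟨P, hP⟩ := syl_exists hp U
    have e := h.norm_eq hP.le (norm_of_comm hc hP.le) (hP.ne_bot hp rfl hd)
    exact ⟨P, hP.syl_of_norm_le hp (hP.le.trans h.lt.le) e.le, hP.le, e⟩
  have h1 : Hall (primesOf U) U H := hall_of_forall_syl h.lt.le (isPi_primesOf U) fun p a b _ =>
    (hS p a b.2).imp fun _ c => ⟨c.1, c.2.1⟩
  have h2 : Hall (primesOf U)ᶜ 𝓞((primesOf U)ᶜ, H) H := hall_core_of_hasPC fun p a _ b => by
    obtain ⟨P, c, d, e⟩ := hS p a (not_not.1 b).2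
    exact burnside_hasPC a c (e ▸ cent_of_comm hc le_rfl d)
  have h3 := h2.sdprod' (le_norm_core _ _) h1
  set K := 𝓞((primesOf U)ᶜ, H)
  have h4 : K ≠ ⊥ := fun e => h.lt.ne (by simpa [e] using h3.sup)
  obtain ⟨q, hq, hd⟩ := exists_prime_dvd_card h4
  obtain ⟨Q, hQ, hn⟩ := coprime_Sylow_exists hq h3.norm (h2.pi.coprime' h1.pi)
    (.inl (solv_of_comm hc))
  have h5 : U ⊔ Q = H := h.max _ (left_lt_sup.2 fun i => hQ.ne_bot hq rfl hd
    (eq_bot_mono (le_inf hQ.le i) h3.disj)) (sup_le h.lt.le (hQ.le.trans h2.le))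
  have h6 := sup_inf_of_le_right hn hQ.le
  rw [h5, inf_eq_right.2 h2.le, h3.disj', bot_sup_eq] at h6
  obtain ⟨-, -, -, r, -, e⟩ := h.nil h2.le h3.normal h4 (h6 ▸ hQ.pi.isNilpotent hq)
  exact comm_iff_der_eq_bot.1 (comm_of_le e.1 (h3.der_le_of_comm hc))

end Prim

theorem SDProd.compl' (h : SDProd K R ⊤) : IsComplement' K R := by
  have := normal_of_top_le_norm h.normal
  exact isComplement'_of_disjoint_and_mul_eq_univ (disjoint_iff.2 h.disj)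
    (by rw [← normal_mul, h.sup, coe_top])

theorem minNormal_top [N.Normal] (h1 : N ≠ ⊥)
    (h : ∀ K : Subgroup G, K.Normal → K ≤ N → K = ⊥ ∨ K = N) : MinNormal N ⊤ :=
  ⟨h1, top_le_norm N ⊤, fun L a b c => (h L (normal_of_top_le_norm c) a).resolve_left b⟩

theorem MinNormal.top (h : MinNormal N ⊤) (K : Subgroup G) (hK : K.Normal) (h1 : K ≤ N) :
    K = ⊥ ∨ K = N := or_iff_not_imp_left.2 fun i => h.2.2 K h1 i (top_le_norm K ⊤)

theorem prim_stabilizer {Ω : Type*} [MulAction G Ω] [FaithfulSMul G Ω]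
    (hprim : MulAction.IsPreprimitive G Ω) (hM : M ≠ ⊥) (ω : Ω) :
    Prim (MulAction.stabilizer G ω) ⊤ := by
  obtain ⟨x, -, hx⟩ := exists_ne_one hM
  have : Nontrivial Ω := by
    by_contra i
    rw [not_nontrivial_iff_subsingleton] at i
    exact hx (eq_of_smul_eq_smul (α := Ω) fun _ => Subsingleton.elim _ _)
  have h := MulAction.IsPreprimitive.isCoatom_stabilizer_of_isPreprimitive G ω
  refine ⟨h.lt_top, fun L a _ => h.2 L a, fun N a b => eq_bot_iff.2 fun n hn => ?_⟩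
  refine eq_of_smul_eq_smul (α := Ω) fun z => ?_
  obtain ⟨g, rfl⟩ := MulAction.exists_smul_eq G ω z
  have := a (conj_mem_of_mem_norm' (b (mem_top g)) hn)
  rw [MulAction.mem_stabilizer_iff, mul_smul, mul_smul, inv_smul_eq_iff] at this
  rw [this, one_smul]

theorem exists_norm_sSup {S S₀ : Set (Subgroup G)} (hS : ∀ U ∈ S, SN U V)
    (hc : ∀ U ∈ S, ∀ g ∈ V, cj g U ∈ S) (h₀ : S₀ ⊂ S) : ∃ X ∈ S, X ∉ S₀ ∧ X ≤ 𝓝(sSup S₀) := by
  have h1 : SN (sSup S₀) V := sSup_eq_iSup' S₀ ▸ SN.iSup fun U => hS U (h₀.1 U.2)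
  by_contra! h2
  obtain ⟨X, a, b, c⟩ := h1.induction (P := fun A => sSup S₀ ≤ A → ∃ X ∈ S, X ∉ S₀ ∧ X ≤ A)
    (fun _ => by
      obtain ⟨X, a, b⟩ := Set.exists_of_ssubset h₀
      exact ⟨X, a, b, (hS X a).le⟩)
    (fun A B i j k ih l => by
      obtain ⟨X, a, b, c⟩ := ih (l.trans i)
      by_contra! h3
      refine h2 X a b fun x hx => mem_norm_of_cj_le (cj_le_iff.2 (sSup_le fun U hU =>
        cj_le_iff.1 (le_sSup (by_contra fun i => ?_))))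
      exact h3 _ (hc U (h₀.1 hU) x (k.le (c hx))) i
        ((cj_mono x ((le_sSup hU).trans l)).trans (cj_of_mem_norm (j (c hx))).le)) le_rfl
  exact h2 X a b (le_norm_of_le c)

theorem Hall.inf_subnormal (h : Hall π P H) (hK : SN K H) : Hall π (P ⊓ K) K :=
  hK.induction (P := fun K => Hall π (P ⊓ K) K) (by rwa [inf_eq_left.2 h.le]) fun A B a b _ c => by
    have := c.inf_normal a (inf_le_right.trans b)
    rwa [inf_assoc, inf_eq_right.2 a] at this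

theorem sn_cj (h : SN K H) (hg : g ∈ H) : SN (cj g K) H := by
  have := h.map (MulAut.conj g).toMonoidHom
  rwa [← cj_def, ← cj_def, cj_of_mem hg] at this

end CA.BG
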