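import Cfsg.Agent.Lib.Solv.SS3
import Cfsg.Agent.Lib.Grp.H1Prod
import Cfsg.Agent.Lib.Char.CharBurn

/-! Products of subgroups: the Kegel-Wielandt theorem. -/
set_option autoImplicit false
set_option linter.unusedSectionVars false
namespace CA.BG
open Subgroup Cfsg CA.OQuo CA.H1Prod
universe u
variable {G : Type*} [Group G] [Finite G] {π σ τ : Set ℕ}
variable {p q r : ℕ} {x y z g : G} {A B H K L M N P Q R U V W X Y : Subgroup G}

/-- `L = (L ⊓ H)(L ⊓ K)`. -/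
def FacIn (L H K : Subgroup G) : Prop := ∀ g ∈ L, ∃ a ∈ L ⊓ H, ∃ b ∈ L ⊓ K, g = a * b

theorem facIn_top (h : Fac H K) : FacIn ⊤ H K := fun g _ => by simpa using h g

theorem facIn_left (h : Fac H K) (hL : H ≤ L) : FacIn L H K :=
  fac_subgroupOf_iff.1 (h.subgroupOf_left hL)

theorem FacIn.hall (h : FacIn L A B) (hA : IsPi π A) (hB : IsPi πᶜ B) : Hall π (L ⊓ A) L :=
  Hall.mk' inf_le_left (hA.inf_right L) (hB.nat.of_dvd (by
    rw [inf_comm, inf_relIndex_right]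
    refine (fac_subgroupOf_iff.2 h).index_dvd_card.trans ?_
    rw [← card_map_of_injective L.subtype_injective]
    exact card_dvd (map_le_iff_le_comap.2 le_rfl)))

theorem FacIn.symm (h : FacIn L A B) : FacIn L B A :=
  fac_subgroupOf_iff.1 (fac_subgroupOf_iff.2 h).symm

theorem FacIn.common (h : FacIn L H K) (hg : g ∈ L) (hA : A ≤ R) (hB : B ≤ cj g R) :
    ∃ a ∈ L ⊓ H, ∃ b ∈ L ⊓ K, cj a A ≤ cj a R ∧ cj b B ≤ cj a R := by
  obtain ⟨a, i, b, j, e⟩ := h _ (inv_mem hg)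
  exact ⟨a⁻¹, inv_mem i, b, j, cj_mono _ hA, cj_le_iff.1 (by rwa [← cj_mul, ← e, ← le_cj_iff])⟩

open Pointwise in
theorem fac_syl (h : Fac H K) (hp : p.Prime) : ∃ P Q R : Subgroup G, Syl p P H ∧ Syl p Q K ∧
    Syl p R ⊤ ∧ (R : Set G) = (P : Set G) * (Q : Set G) := by
  obtain ⟨P, hP⟩ := syl_exists hp H
  obtain ⟨Q, hQ⟩ := syl_exists hp K
  obtain ⟨R, hR, a⟩ := syl_superset hp hP.pi le_top
  obtain ⟨g, hg, b⟩ := hR.syl_le_conj hp hQ.pi le_top
  obtain ⟨u, i, v, j, c, d⟩ := (facIn_top h).common hg a b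
  replace hP := hP.cj_mem i.2
  replace hQ := hQ.cj_mem j.2
  replace hR := hR.cj_mem i.1
  refine ⟨_, _, _, hP, hQ, hR, coe_eq_mul_of_card c d (Nat.le_of_dvd (Nat.mul_pos (card_pos' _)
    (card_pos' _)) (((hR.pi.nat.mul (hP.pi.inf_left _)).coprime
      (hP.idx.mul hQ.idx)).dvd_of_dvd_mul_right ?_))⟩
  rw [mul_mul_mul_comm, card_mul_relIndex hP.le, card_mul_relIndex hQ.le, ← h.card_mul]
  exact mul_dvd_mul (card_subgroup_dvd_card _) (card_dvd (inf_le_inf hP.le hQ.le))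

theorem fac_core (h : Fac A B) (hA : Group.IsNilpotent A) (hB : Group.IsNilpotent B) (hp : p.Prime) :
    Pm 𝓞({p}, A) 𝓞({p}, B) ∧ Syl p (𝓞({p}, A) ⊔ 𝓞({p}, B)) ⊤ := by
  obtain ⟨P, Q, R, a, b, c, d⟩ := fac_syl h hp
  rw [← a.eq_core_of_nil hA, ← b.eq_core_of_nil hB, ← eq_sup_of_coe_eq d]
  exact ⟨pm_of_coe_eq d, c⟩

theorem exists_cj_pair (h : Fac H K) (hA : H ≤ 𝓝(A)) (hB : K ≤ 𝓝(B)) (x y : G) :
    ∃ g, cj x A = cj g A ∧ cj y B = cj g B := by
  obtain ⟨a, i, b, j, e⟩ := h (x⁻¹ * y)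
  refine ⟨x * a, by rw [cj_mul, cj_of_mem_norm (hA i)], ?_⟩
  rw [eq_mul_of_inv_mul_eq e, ← mul_assoc, cj_mul _ b, cj_of_mem_norm (hB j)]

theorem pm_of_hall (hs : Group.IsSolvable L) (h : FacIn L H K) (hA : H ≤ 𝓝(A)) (hB : K ≤ 𝓝(B))
    (h1 : Hall σ A L) (h2 : Hall τ B L) : Pm A B := by
  obtain ⟨R, hR, a⟩ := hall_superset hs (h1.pi.mono (Set.subset_union_left (t := τ))) h1.le
  obtain ⟨g, hg, b⟩ := hR.le_conj hs (h2.pi.mono Set.subset_union_right) h2.le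
  obtain ⟨u, i, v, j, c, d⟩ := h.common hg a b
  rw [cj_of_mem_norm (hA i.2)] at c
  rw [cj_of_mem_norm (hB j.2)] at d
  replace hR := hR.cj_mem i.1
  refine pm_of_mem_sup fun x hx => ?_
  obtain ⟨s, k, t, l, e⟩ := exists_mul_of_cop c d (Nat.coprime_of_dvd fun r hr k l =>
    (hR.pi.relIndex A r hr k).elim ((h1.of_le c hR.le).idx r hr k) ((h2.of_le d hR.le).idx r hr l))
    (sup_le c d hx)
  exact ⟨s, k, t, l, e.symm⟩

theorem facIn_norm (h : Fac H K) (hA : H ≤ 𝓝(A)) (hB : K ≤ 𝓝(B)) : FacIn 𝓝(A ⊔ B) H K := by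
  intro g hg
  obtain ⟨a, i, b, j, rfl⟩ := h g
  have e : cj a⁻¹ (A ⊔ B) = cj b (A ⊔ B) := by
    rw [cj_eq_iff, inv_inv, ← cj_mul, cj_of_mem_norm hg]
  have hb : b ∈ 𝓝(A ⊔ B) := mem_norm_iff_cj.2 (eq_of_le_of_card_eq (sup_le
    (e ▸ (cj_of_mem_norm (hA (inv_mem i))).ge.trans (cj_mono _ le_sup_left))
    ((cj_of_mem_norm (hB j)).ge.trans (cj_mono _ le_sup_right))) (card_cj _ _).symm).symm
  exact ⟨a, ⟨(mul_mem_cancel_right hb).1 hg, i⟩, b, ⟨hb, j⟩, rfl⟩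

theorem facIn_cent (h : Fac A B) (hd : A ⊓ B = ⊥) (h1 : x ∈ 𝓝(A)) (h2 : x ∈ 𝓝(B)) :
    FacIn 𝓒₁(x) A B := by
  intro g hg
  obtain ⟨a, i, b, j, rfl⟩ := h g
  have e := mem_cent1.1 hg
  have e1 : a⁻¹ * (x * a * x⁻¹) = b * (x * b * x⁻¹)⁻¹ := by
    calc _ = a⁻¹ * (x * (a * b)) * b⁻¹ * x⁻¹ := by group
      _ = _ := by rw [← e]; group
  have e2 : a⁻¹ * (x * a * x⁻¹) = 1 := hd.le (mem_inf.2 ⟨mul_mem (inv_mem i)
    (conj_mem_of_mem_norm h1 i), e1 ▸ mul_mem j (inv_mem (conj_mem_of_mem_norm h2 j))⟩)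
  have ha : a ∈ 𝓒₁(x) := mem_cent1.2 (eq_mul_inv_iff_mul_eq.1 (inv_mul_eq_one.1 e2))
  exact ⟨a, ⟨ha, i⟩, b, ⟨(mul_mem_cancel_left ha).1 hg, j⟩, rfl⟩

theorem iSup_cj_norm (B : Subgroup G) : ⊤ ≤ 𝓝(⨆ g, cj g B) := fun x _ =>
  mem_norm_of_cj_le (cj_le_iff.2 (iSup_le fun g => cj_le_iff.1 (cj_mul x g B ▸ le_iSup (cj · B) _)))

theorem le_iSup_cj (B : Subgroup G) : B ≤ ⨆ g, cj g B := le_iSup_of_le 1 (cj_one B).ge

theorem exists_pm_max {T : Subgroup G → Prop} (hA : T A) (h : ∀ x, Pm A (cj x B))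
    (hT : ∀ X Y x, T X → (∀ x, Pm X (cj x B)) → (∀ x, Pm Y (cj x B)) → Y ≤ X ⊔ cj x B → T Y) :
    ∃ X, A ≤ X ∧ T X ∧ (⨆ g, cj g B) ≤ 𝓝(X) := by
  obtain ⟨X, a, ⟨b, c⟩, d⟩ := exists_maximal_ge (P := fun X => T X ∧ ∀ x, Pm X (cj x B)) ⟨hA, h⟩
  refine ⟨X, a, b, iSup_le fun g y hy => mem_norm_of_cj_le ?_⟩
  have e : ∀ x, Pm (X ⊔ cj y X) (cj x B) := fun x => (c x).sup_left (by
    have : Pm (cj y X) (cj y (cj (y⁻¹ * x) B)) := (c (y⁻¹ * x)).conj y
    rwa [← cj_mul, mul_inv_cancel_left] at this)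
  exact le_sup_right.trans (d _ ⟨hT X _ g b c e (sup_le le_sup_left
    (cj_le_of_mem (mem_sup_right hy) le_sup_left)), e⟩ le_sup_left).le

/-- Kegel's lemma. -/
theorem kegel_normal (h : ∀ x, Pm A (cj x B)) (h' : A ⊔ B ≠ ⊤) :
    ∃ N : Subgroup G, ⊤ ≤ 𝓝(N) ∧ N ≠ ⊤ ∧ (A ≤ N ∨ B ≤ N) := by
  obtain ⟨X, a, b, c⟩ := exists_pm_max (T := fun X => X ⊔ B ≠ ⊤) h' h fun X Y x i j k l e => by
    have m := ((cj_one B ▸ k 1).fac e).conj 1 x
    have := ((j x).fac (top_le_iff.1 (m.sup_eq_top.ge.trans (sup_le (by simpa using l)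
      le_sup_right)))).conj 1 x⁻¹
    rw [← cj_eq_smul, ← cj_eq_smul, ← cj_mul, inv_mul_cancel, cj_one, cj_one] at this
    exact i this.sup_eq_top
  by_cases e : (⨆ g, cj g B) = ⊤
  · exact ⟨X, e ▸ c, fun i => b (by simp [i]), .inl a⟩
  · exact ⟨_, iSup_cj_norm B, e, .inr (le_iSup_cj B)⟩

theorem comm_le_pcore (hX : IsPi {p} X) (hY : IsPi {p} Y) (h : ∀ g, Pm X (cj g Y)) :
    ⁅X, ⨆ g, cj g Y⁆ ≤ 𝓞({p}, ⊤) := by
  obtain ⟨Z, a, b, c⟩ := exists_pm_max (T := IsPi {p}) hX h fun X _ x i j _ l =>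
    IsPi.of_le ((i.nat.mul (hY.cj x)).of_dvd (j x).card_sup_dvd) l
  exact (comm_mono a le_rfl).trans ((comm_le_inf (le_top.trans (iSup_cj_norm Y)) c).trans
    ((le_core (b.inf_left _) inf_le_right (norm_inf c (le_norm_self _))).trans
      (core_le_core le_top (iSup_cj_norm Y))))

theorem center_core_le (hA : Group.IsNilpotent A) : 𝓩(𝓞(π, A)) ≤ 𝓩(A) :=
  le_inf (inf_le_left.trans (core_le _ _)) ((le_cent_sup inf_le_right
    (inf_le_left.trans (core_cent_core _ _))).trans (cent_anti (nil_core_sup π hA).ge))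

theorem exists_central (hA : Group.IsNilpotent A) (hp : p.Prime) (hd : p ∣ ♯A) :
    ∃ z ∈ 𝓩(A), z ∈ 𝓩(𝓞({p}, A)) ∧ z ≠ 1 ∧ IsPi {p} (zpowers z) := by
  obtain ⟨z, a, b⟩ := exists_ne_one ((core_pi {p} A).center_ne_bot
    ((nil_hall_core _ hA).ne_bot hp rfl hd))
  exact ⟨z, center_core_le hA a, a, b, (core_pi _ _).of_le (zpowers_le.2 a.1)⟩

theorem dvd_card_center (hA : Group.IsNilpotent A) (hp : p.Prime) (hd : p ∣ ♯A) : p ∣ ♯𝓩(A) := by
  obtain ⟨z, a, -, b, c⟩ := exists_central hA hp hd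
  exact (c.dvd_card (mt zpowers_eq_bot.1 b)).trans (card_dvd (zpowers_le.2 a))

/-- A minimal counterexample to Wielandt's theorem. -/
structure WC (π : Set ℕ) (A B : Subgroup G) : Prop where
  simple : ∀ N : Subgroup G, ⊤ ≤ 𝓝(N) → N ≠ ⊥ → N = ⊤
  fac : Fac A B
  nA : Group.IsNilpotent A
  nB : Group.IsNilpotent B
  piA : IsPi π A
  piB : IsPi πᶜ B
  twoA : ∀ p, ¬ IsPi {p} A
  twoB : ∀ p, ¬ IsPi {p} B
  ih : ∀ A B L : Subgroup G, Group.IsNilpotent A → Group.IsNilpotent B → L ≠ ⊤ → FacIn L A B →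
    Group.IsSolvable L

namespace WC
variable (h : WC π A B)
include h

theorem symm : WC πᶜ B A :=
  ⟨h.simple, h.fac.symm, h.nB, h.nA, h.piB, (compl_compl π).symm ▸ h.piA, h.twoB, h.twoA, h.ih⟩

theorem conj (x y : G) : WC π (cj x A) (cj y B) :=
  ⟨h.simple, h.fac.conj x y, (isNilpotent_cj x).2 h.nA, (isNilpotent_cj y).2 h.nB, h.piA.cj x,
    h.piB.cj y, fun p i => h.twoA p (isPi_cj.1 i), fun p i => h.twoB p (isPi_cj.1 i), h.ih⟩

theorem conjR (y : G) : WC π A (cj y B) := cj_one A ▸ h.conj 1 y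
theorem conjL (x : G) : WC π (cj x A) B := cj_one B ▸ h.conj x 1
theorem hall : Hall π A ⊤ := top_inf_eq A ▸ (facIn_top h.fac).hall h.piA h.piB
theorem ne_bot : A ≠ ⊥ := fun e => h.twoA 2 (e ▸ isPi_bot _)
theorem ne_top : A ≠ ⊤ := fun e => h.symm.ne_bot ((h.piA.of_le (e ▸ le_top)).eq_bot h.piB)
theorem center_ne : 𝓩(A) ≠ ⊥ := center_ne_bot_of_nil h.nA h.ne_bot

theorem norm_ne (h1 : X ≠ ⊥) (h2 : X ≠ ⊤) : 𝓝(X) ≠ ⊤ := fun e => h2 (h.simple X e.ge h1)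

theorem norm_ne' (h1 : X ≠ ⊥) (h2 : X ≤ A) : ¬ ⊤ ≤ 𝓝(X) := fun e =>
  h.ne_top (top_le_iff.1 (h.simple X e h1 ▸ h2))

theorem core_ne (p : ℕ) : 𝓞({p}ᶜ, A) ≠ ⊥ := fun e =>
  h.twoA p (compl_compl ({p} : Set ℕ) ▸ (e ▸ nil_hall_core _ h.nA).isPi_compl_of_eq_bot)

theorem gen_hall (p q : ℕ) : 𝓞({p}ᶜ, A) ⊔ 𝓞({q}ᶜ, B) = ⊤ := by
  by_contra e
  have a := le_norm_core {p}ᶜ A
  have b := le_norm_core {q}ᶜ B
  have c := facIn_norm h.fac a b
  have key : ∀ {π A B p}, WC π A B → Hall (π ∩ {p}ᶜ) 𝓞({p}ᶜ, A) (⊤ : Subgroup G) := fun h =>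
    ((nil_hall_core _ h.nA).congr fun r i j => ⟨fun k => Set.mem_inter (h.piA r i j) k, And.right⟩).trans h.hall
      Set.inter_subset_left
  have d := pm_of_hall (h.ih _ _ _ h.nA h.nB (h.norm_ne (ne_bot_mono le_sup_left (h.core_ne p)) e) c)
    c a b ((key h).of_le (le_norm_of_le le_sup_left) le_top)
    ((key h.symm).of_le (le_norm_of_le le_sup_right) le_top)
  obtain ⟨N, i, j, k⟩ := kegel_normal (fun x => by
    obtain ⟨g, k, l⟩ := exists_cj_pair h.fac a b 1 x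
    rw [← cj_one 𝓞({p}ᶜ, A), k, l]; exact d.conj g) e
  exact j (h.simple N i (k.elim (fun k => ne_bot_mono k (h.core_ne p))
    fun k => ne_bot_mono k (h.symm.core_ne q)))

theorem core_le_A (hX : A ≤ 𝓝(X)) (hY : B ≤ 𝓝(Y)) (hp : p ∈ π) : 𝓞({p}, 𝓝(X ⊔ Y)) ≤ A :=
  (core_mono_pi (singleton_sub hp) _).trans
    (((facIn_norm h.fac hX hY).hall h.piA h.piB).core_le.trans inf_le_right)

theorem gen_aux (hX : A ≤ 𝓝(X)) (hY : B ≤ 𝓝(Y)) (h1 : Y ≠ ⊥) (hp : p ∈ π) :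
    𝓞({p}, 𝓝(X ⊔ Y)) = ⊥ := by
  by_contra e
  have cn : ∀ {π A B Z r}, WC π A B → Z ≤ A → IsPi {r} Z → 𝓞({r}ᶜ, A) ≤ 𝓝((Z : Subgroup G)) :=
    fun h a b => norm_of_cent (cent_symm (cent_of_nil h.nA a (core_le _ _) b (core_pi _ _)))
  have a := h.core_le_A hX hY hp
  have b : X ⊔ 𝓞({p}ᶜ, A) ⊔ Y ≠ ⊤ := fun i => h.norm_ne' e a (i ▸ sup_le (sup_le
    (norm_core _ (le_norm_of_le (le_norm_of_le le_sup_left))) (cn h a (core_pi _ _)))
    (norm_core _ (le_norm_of_le (le_norm_of_le le_sup_right))))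
  have hX' := norm_sup hX (le_norm_core {p}ᶜ A)
  have c := h.ih _ _ _ h.nA h.nB (h.norm_ne (ne_bot_mono le_sup_right h1) b)
    (facIn_norm h.fac hX' hY)
  set L := 𝓝(X ⊔ 𝓞({p}ᶜ, A) ⊔ Y)
  have d : 𝓞({p}ᶜ, A) ≤ L := le_norm_of_le (le_sup_of_le_left le_sup_right)
  have f : 𝓕(L) ≤ 𝓞({p}, L) := fit_le_of_core fun r _ _ => by
    by_cases i : r = p
    · rw [i]
    refine (by_contra fun j => ?_ : 𝓞({r}, L) = ⊥) ▸ bot_le
    have k := d.trans (le_norm_core {r} L)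
    by_cases hr : r ∈ π
    · have l := h.core_le_A hX' hY hr
      have m := (h.fac.symm.mono le_rfl ((nil_core_sup {p} h.nA).ge.trans (sup_le ((core_mono_pi
        (singleton_sub (Ne.symm i)) A).trans (cn h l (core_pi _ _))) k))).le_normalCore
        ((le_norm_of_le le_sup_right).trans (le_norm_core {r} L)) hY
      exact h.norm_ne' j l ((h.simple _ (top_le_norm _ ⊤) (ne_bot_mono m h1)).ge.trans
        (normalCore_le _))
    · have l := h.symm.core_le_A hY hX' hr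
      rw [sup_comm] at l
      exact h.symm.norm_ne' j l (h.gen_hall p r ▸ sup_le k (cn h.symm l (core_pi _ _)))
  exact h.core_ne p (((core_pi {p} L).of_le (((le_inf d ((cent_symm (cent_of_nil h.nA
    (h.core_le_A hX' hY hp) (core_le _ _) (core_pi _ _) (core_pi _ _))).trans (cent_anti f))).trans
    (cent_fit_le c)).trans f)).eq_bot (core_pi _ _))

theorem gen (hX : A ≤ 𝓝(X)) (hY : B ≤ 𝓝(Y)) (h1 : X ≠ ⊥) (h2 : Y ≠ ⊥) : X ⊔ Y = ⊤ := by
  by_contra e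
  obtain ⟨p, -, a⟩ := exists_core_ne_bot (h.ih _ _ _ h.nA h.nB (h.norm_ne
    (ne_bot_mono le_sup_left h1) e) (facIn_norm h.fac hX hY))
    (ne_bot_mono (le_norm_of_le le_sup_left) h1)
  by_cases hp : p ∈ π
  · exact a (h.gen_aux hX hY h2 hp)
  · exact a (sup_comm Y X ▸ h.symm.gen_aux hY hX h1 hp)

theorem cent_z (hz : z ∈ 𝓩(A)) (h1 : z ≠ 1) : 𝓒₁(z) = A := by
  refine le_antisymm (fun c hc => ?_) (le_cent1_iff.2 hz.2)
  obtain ⟨a, i, y, ⟨j, k⟩, rfl⟩ := facIn_left h.fac (le_cent1_iff.2 hz.2) c hc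
  by_cases e : y = 1
  · simpa [e] using i.2
  refine absurd (norm_of_cent ?_) (h.symm.norm_ne' (mt zpowers_eq_bot.1 e) (zpowers_le.2 k))
  rw [← h.gen (norm_of_cent (cent_symm (zpowers_le.2 hz.2))) ((le_norm_self B).trans (norm_center B))
    (mt zpowers_eq_bot.1 h1) h.symm.center_ne, cent_zpowers]
  exact sup_le (zpowers_le.2 (mem_cent1_symm.1 j)) (inf_le_right.trans (cent_le_cent1 k))

theorem exists_le_conj (hq : q.Prime) (h1 : q ∈ π) (hX : IsPi {q} X) : ∃ g, X ≤ cj g A := by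
  obtain ⟨P, a, b⟩ := h.hall.exists_syl_le hq h1
  obtain ⟨g, -, c⟩ := a.syl_le_conj hq hX le_top
  exact ⟨g, c.trans (cj_mono g b)⟩

theorem no_inv (hK : IsPi πᶜ K) (hn : 𝓩(A) ≤ 𝓝(K)) : K = ⊥ := by
  by_contra e
  obtain ⟨q, hq, hd⟩ := exists_prime_dvd_card e
  obtain ⟨S, a, b⟩ := coprime_Sylow_exists hq hn (hK.coprime' (h.piA.inf_left _))
    (.inl (solv_of_comm (comm_center A)))
  obtain ⟨g, c⟩ := h.symm.exists_le_conj hq (hK q hq hd) a.pi
  have w := h.conjR g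
  exact w.symm.norm_ne' (a.ne_bot hq rfl hd) c (w.gen ((le_norm_self _).trans (norm_center _))
    ((le_norm_self _).trans (norm_center _)) w.center_ne w.symm.center_ne ▸
      sup_le b (norm_of_cent (inf_le_right.trans (cent_anti c))))

theorem cj_eq (hp : p.Prime) (hd : p ∣ ♯A) (h1 : 𝓞({p}, A) ≤ cj g A) : g ∈ 𝓝(A) := by
  obtain ⟨z, a, b, c, -⟩ := exists_central h.nA hp hd
  have w := h.conjL g
  have e := (((nil_hall_core {p} h.nA).trans_syl h.hall (h.piA p hp hd)).of_le h1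
    le_top).eq_core_of_nil w.nA
  rw [mem_norm_iff_cj, ← w.cent_z (center_core_le w.nA (e ▸ b)) c, h.cent_z a c]

theorem mem_norm (hz : z ∈ 𝓩(A)) (h1 : z ≠ 1) (hr : IsPi {r} (zpowers z)) (h2 : g * z * g⁻¹ ∈ A) :
    g ∈ 𝓝(A) := by
  obtain ⟨p, hp, hd, e⟩ := exists_other_prime (h.twoA r)
  refine h.cj_eq hp hd ?_
  rw [← h.cent_z hz h1, cj_cent1, h.cent_z hz h1, ← cent_zpowers]
  exact cent_of_nil_cop h.nA (core_le _ _) (zpowers_le.2 h2)
    ((core_pi _ _).coprime_ne (cj_zpowers g z ▸ hr.cj g) e)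

theorem solv_le (hs : Group.IsSolvable L) (hL : Hall π (L ⊓ A) L) (hr : r.Prime) (hd : r ∣ ♯A)
    (h1 : 𝓞({r}ᶜ, A) ≤ L) (h2 : 𝓩(A) ≤ L) : L ≤ 𝓝(A) := by
  have a : 𝓕(L) ≤ A := fit_le_of_core fun s _ _ => by
    by_cases i : s ∈ π
    · exact (core_mono_pi (singleton_sub i) _).trans (hL.core_le.trans inf_le_right)
    · exact h.no_inv ((core_pi _ _).sub i) (h2.trans (le_norm_core _ _)) ▸ bot_le
  obtain ⟨z, b, -, c, d⟩ := exists_central h.nA hr hd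
  have e : L ⊓ 𝓒(𝓞({r}, L)) ≤ A := h.cent_z b c ▸ inf_le_right.trans (cent_le_cent1
    (d.le_core_of_le_fit (zpowers_le.2 (cent_fit_le hs ⟨h2 b, cent_anti a b.2⟩)) (mem_zpowers z)))
  obtain ⟨p, hp, i, j⟩ := exists_other_prime (h.twoA r)
  have k := ((nil_hall_core {p} h.nA).of_le (le_inf ((core_mono_pi (singleton_sub j) A).trans h1)
    (cent_of_nil_cop h.nA (core_le _ _) ((core_p_le_fit hr L).trans a)
      ((core_pi _ _).coprime_ne (core_pi _ _) j))) e).norm_of_normal (e.trans (le_norm_core _ _))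
  exact fun n hn => h.cj_eq hp i ((cj_of_mem_norm (k (norm_inf (le_norm_self L)
    (norm_cent (le_norm_core _ _)) hn))).ge.trans (cj_mono n (core_le _ _)))

theorem cent_le_of_norm (hx : x ∈ A) (hr : r.Prime) (ho : orderOf x = r) (hB : x ∈ 𝓝(B)) :
    𝓒₁(x) ≤ 𝓝(A) := by
  have a := facIn_cent h.fac (h.piA.inf_eq_bot h.piB) (le_norm_self A hx) hB
  have b : ♯(zpowers x) = r := ho ▸ Nat.card_zpowers x
  exact h.solv_le (h.ih _ _ _ h.nA h.nB (fun e => h.norm_ne' (ne_bot_of_prime (b ▸ hr))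
    (zpowers_le.2 hx) (norm_of_cent (cent_zpowers x ▸ e.ge))) a) (a.hall h.piA h.piB) hr
    (ho ▸ orderOf_dvd_card_of_mem hx) (cent_zpowers x ▸ cent_symm (cent_of_nil h.nA (zpowers_le.2 hx)
      (core_le _ _) (isPi_of_card_eq hr b) (core_pi _ _))) (inf_le_right.trans (cent_le_cent1 hx))

theorem cent_le (hx : x ∈ A) (hr : r.Prime) (ho : orderOf x = r) : 𝓒₁(x) ≤ 𝓝(A) := by
  by_cases h1 : IsPi π (𝓒₁(x) ⊓ 𝓝(A))
  · have a := h.hall.le_of_norm h1 le_top inf_le_right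
    have b : 𝓩(A) ≤ 𝓒₁(x) ⊓ A := le_inf (inf_le_right.trans (cent_le_cent1 hx)) inf_le_left
    have c := nil_of_le h.nA (inf_le_right : 𝓒₁(x) ⊓ A ≤ A)
    obtain ⟨d, e⟩ := hall_of_norm_syl inf_le_left c (fun p i => h.twoA p fun q hq j =>
      i.of_le b q hq (dvd_card_center h.nA hq j)) fun p hp i n hn => by
        obtain ⟨z, j, -, k, l⟩ := exists_central h.nA hp (i.trans (card_dvd inf_le_right))
        exact ⟨hn.1, a ⟨hn.1, h.mem_norm j k l (core_le _ _ (conj_mem_of_mem_norm hn.2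
          (l.le_core_of_nil (zpowers_le.2 (b j)) c (mem_zpowers z)))).2⟩⟩
    have f := h.no_inv (fun s hs i j => e.pi s hs i ⟨hs, (dvd_card_center h.nA hs
      (h.hall.dvd_card hs j (i.trans (card_dvd le_top)))).trans (card_dvd b)⟩)
      ((b.trans inf_le_left).trans (le_norm_core _ _))
    rw [← d.sup_compl e, f, sup_bot_eq]
    exact le_norm_of_le inf_le_right
  · obtain ⟨q, hq, a, b⟩ : ∃ q, q.Prime ∧ q ∣ ♯(𝓒₁(x) ⊓ 𝓝(A)) ∧ q ∉ π := by
      by_contra! i; exact h1 i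
    obtain ⟨y, c, d⟩ := exists_orderOf_eq hq a
    obtain ⟨g, e⟩ := h.symm.exists_le_conj hq b (isPi_of_card_eq hq (d ▸ Nat.card_zpowers y))
    have w := h.conjR g
    exact w.cent_le_of_norm hx hr ho (w.symm.cent_le_of_norm (e (mem_zpowers y)) hq d c.2
      (mem_cent1_symm.1 c.1))

theorem not_lt' : ¬ ♯B < ♯A := fun hlt => by
  obtain ⟨g, -, hg⟩ := SetLike.not_le_iff_exists.1 (h.norm_ne' h.ne_bot le_rfl)
  have a : A ⊓ cj g A ≠ ⊥ := fun e => by
    have i := card_mul_card_le (A := A) (B := cj g A) le_top le_top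
    have j := h.fac.card_mul
    rw [h.piA.inf_eq_bot h.piB, card_bot] at j
    rw [e, card_bot, card_top, j, card_cj] at i
    exact (Nat.le_of_mul_le_mul_left i (card_pos' A)).not_gt hlt
  obtain ⟨r, hr, b⟩ := exists_prime_dvd_card a
  obtain ⟨x, c, d⟩ := exists_orderOf_eq hr b
  have w := h.conjL g
  obtain ⟨p, hp, i, j⟩ := exists_other_prime (w.twoA r)
  have k : 𝓞({p}, cj g A) ≤ A := h.hall.le_of_norm (w.piA.of_le (core_le _ _)) le_top
    (le_trans (cent_zpowers x ▸ cent_of_nil_cop w.nA (core_le _ _) (zpowers_le.2 c.2)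
      ((core_pi _ _).coprime_ne (isPi_of_card_eq hr (d ▸ Nat.card_zpowers x)) j))
      (h.cent_le c.1 hr d))
  have l := mem_norm_iff_cj.1 (w.cj_eq (g := g⁻¹) hp i (by rwa [← cj_mul, inv_mul_cancel, cj_one]))
  rw [← cj_mul, inv_mul_cancel, cj_one] at l
  exact hg (mem_norm_iff_cj.2 l.symm)

theorem false : False := by
  have a := h.piA.coprime h.piB
  rw [le_antisymm (not_lt.1 h.not_lt') (not_lt.1 h.symm.not_lt'), Nat.coprime_self] at a
  exact h.symm.ne_bot (card_eq_one.1 a)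

end WC

theorem nil_subgroupOf (h : Group.IsNilpotent A) (L : Subgroup G) :
    Group.IsNilpotent (A.subgroupOf L) := by
  have := nil_of_le h (map_le_iff_le_comap.2 le_rfl : (A.subgroupOf L).map L.subtype ≤ A)
  exact Group.nilpotent_of_mulEquiv ((A.subgroupOf L).equivMapOfInjective _ L.subtype_injective).symm

theorem nil_map {G' : Type*} [Group G'] (h : Group.IsNilpotent A) (f : G →* G') :
    Group.IsNilpotent (A.map f) := Group.nilpotent_of_surjective _ (f.subgroupMap_surjective A)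

theorem card_quot_lt [N.Normal] (h : N ≠ ⊥) : Nat.card (G ⧸ N) < Nat.card G := by
  rw [← N.card_mul_index, ← index]
  exact lt_mul_of_one_lt_left (Nat.pos_of_ne_zero N.index_ne_zero_of_finite)
    (one_lt_card_iff_ne_bot N |>.2 h)

theorem card_lt_top (h : L ≠ ⊤) : ♯L < Nat.card G := card_top (G := G) ▸ card_lt_of_lt h.lt_top

theorem kw_aux (n : ℕ) : ∀ {G : Type u} [Group G] [Finite G] {A B : Subgroup G}, Nat.card G ≤ n →
    Group.IsNilpotent A → Group.IsNilpotent B → Fac A B → Group.IsSolvable G := by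
  induction n with
  | zero => exact fun h => absurd h Nat.card_pos.not_ge
  | succ n ih =>
    intro G _ _ A B hc hA hB h
    by_contra hs
    have q1 : ∀ (N : Subgroup G) [N.Normal], N ≠ ⊥ → Group.IsSolvable (G ⧸ N) := fun N _ i =>
      ih (Nat.le_of_lt_succ ((card_quot_lt i).trans_le hc)) (nil_map hA _) (nil_map hB _) (h.map_mk N)
    have q2 : ∀ N : Subgroup G, ⊤ ≤ 𝓝(N) → Group.IsSolvable N → N = ⊥ := fun N i j =>
      by_contra fun k => by
        have := normal_of_top_le_norm i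
        have := q1 N k
        exact hs (Group.isSolvable_of_ker_le_range N.subtype (QuotientGroup.mk' N) (by simp))
    have q3 : ∀ A B L : Subgroup G, Group.IsNilpotent A → Group.IsNilpotent B → L ≠ ⊤ →
        FacIn L A B → Group.IsSolvable L := fun A B L i j k l =>
      ih (Nat.le_of_lt_succ ((card_lt_top k).trans_le hc)) (nil_subgroupOf i L)
        (nil_subgroupOf j L) (fac_subgroupOf_iff.2 l)
    have q4 : (⊤ : Subgroup G) ≠ ⊥ := fun e => hs (Group.isSolvable_of_top_eq_bot G e)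
    by_cases hcop : (♯A).Coprime ♯B
    · have a := isPi_primesOf A
      have b := isPi_compl_primesOf hcop.symm
      have c : ∀ N : Subgroup G, ⊤ ≤ 𝓝(N) → N ≠ ⊥ → N = ⊤ := fun N i j => by_contra fun k =>
        j (q2 N i (q3 A B N hA hB k fun g hg => by
          have l := (facIn_top h).hall a b
          have m := (facIn_top h.symm).hall b (by rwa [compl_compl])
          rw [top_inf_eq] at l m
          obtain ⟨s, o, t, u, e⟩ := (l.inf_normal' le_top (le_top.trans i)).exists_mul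
            (m.inf_normal' le_top (le_top.trans i)) hg
          exact ⟨s, o, t, u, e.symm⟩))
      have : Nontrivial G := (Subgroup.nontrivial_iff (G := G)).1 ⟨_, _, q4⟩
      have : IsSimpleGroup G := ⟨fun N _ => or_iff_not_imp_left.2 (c N (top_le_norm N ⊤))⟩
      have two : ∀ A B : Subgroup G, Group.IsNilpotent A → Group.IsNilpotent B → Fac A B →
          ∀ p, ¬ IsPi {p} A := fun A B i j k p l => by
        have m : A ≠ ⊥ := fun e => q4 (q2 ⊤ (le_norm_self _) (by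
          rw [← k.sup_eq_top, e, bot_sup_eq]; exact solv_of_nil j))
        have o : B ≠ ⊥ := fun e => q4 (q2 ⊤ (le_norm_self _) (by
          rw [← k.sup_eq_top, e, sup_bot_eq]; exact solv_of_nil i))
        have hp := l.prime_of_ne_bot m
        obtain ⟨z, s, t⟩ := exists_ne_one (center_ne_bot_of_nil j o)
        obtain ⟨e, u⟩ := (l.nat.of_dvd (k.symm.mono (le_cent1_iff.2 s.2)
          le_rfl).index_dvd_card).exists_pow hp index_ne_zero_of_finite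
        exact hs (Group.isSolvable_of_comm (CChar.CharBurn.comm_of_simple_of_class hp t u))
      exact WC.false ⟨c, h, hA, hB, a, b, two A B hA hB h, two B A hB hA h.symm, q3⟩
    obtain ⟨p, hp, a, b⟩ := Nat.Prime.not_coprime_iff_dvd.1 hcop
    have c := comm_le_pcore (core_pi {p} A) (core_pi {p} B) fun x => by
      obtain ⟨g, k, l⟩ := exists_cj_pair h (le_norm_core {p} A) (le_norm_core {p} B) 1 x
      rw [← cj_one 𝓞({p}, A), k, l]; exact (fac_core h hA hB hp).1.conj g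
    rw [q2 _ (le_norm_core _ _) ((core_pi _ _).isSolvable hp), le_bot_iff, comm_eq_bot_iff] at c
    have d := iSup_cj_norm 𝓞({p}, B)
    set N := ⨆ g, cj g 𝓞({p}, B)
    have := normal_of_top_le_norm (norm_cent d)
    have := q1 _ (ne_bot_mono c ((nil_hall_core {p} hA).ne_bot hp rfl a))
    have e := q2 _ (d.trans (norm_center N)) (solv_of_comm (comm_center N))
    refine ne_bot_mono (le_iSup_cj _) ((nil_hall_core {p} hB).ne_bot hp rfl b) (q2 N d
      (Group.isSolvable_of_isSolvable_injective (f := (QuotientGroup.mk' 𝓒(N)).comp N.subtype)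
        ((injective_iff_map_eq_one _).2 fun x hx => Subtype.ext
          (e.le ⟨x.2, (QuotientGroup.eq_one_iff _).1 hx⟩))))

/-- The Kegel-Wielandt theorem. -/
theorem kegel_wielandt (hA : Group.IsNilpotent A) (hB : Group.IsNilpotent B) (h : Fac A B) :
    Group.IsSolvable G := kw_aux _ le_rfl hA hB h

end CA.BG
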